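import Cfsg.Agent.H71.Glue
set_option maxRecDepth 1000000
set_option Elab.async false
namespace H71.HeK0
noncomputable def na_0 : ℕ := 0xff7b9fcf00000000
noncomputable def na_1 : ℕ := 0x8007fe000000000000000000
noncomputable def na_2 : ℕ := 0x3e0a0000abf80000958600005ab4
noncomputable def na_3 : ℕ := 0xe000fc00b8002000e00094
noncomputable def na_4 : ℕ := 0x2000800080a00040408000404000400
noncomputable def na_5 : ℕ := 0x20000200222202002000200000000000
noncomputable def na_6 : ℕ := 0x44550145144141554000405055555555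
noncomputable def na_7 : ℕ := 0x1233110111323312013220313322100
noncomputable def na_8 : ℕ := 0x80301050e0f060e0d0800040e030b0c
noncomputable def na_9 : ℕ := 0xfc00fa0007000000b80020001f0094
noncomputable def na_10 : ℕ := 0x54070000c1f50000958600005ab4
noncomputable def na_11 : ℕ := 0x3ff001ff0000000000000000
noncomputable def na_12 : ℕ := 0xff7b9fcf00000000
noncomputable def na : Net := .cons 64 na_0 <| .cons 32 na_1 <| .cons 16 na_2 <| .cons 8 na_3 <| .cons 4 na_4 <| .cons 2 na_5 <| .cons 1 na_6 <| .cons 2 na_7 <| .cons 4 na_8 <| .cons 8 na_9 <| .cons 16 na_10 <| .cons 32 na_11 <| .cons 64 na_12 <| .nil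
theorem vna : Net.valid 128 na = true := by decide +kernel
noncomputable def nc_0 : ℕ := 0xe70278621b0c3718
noncomputable def nc_1 : ℕ := 0xa34a78a00000000059802e18
noncomputable def nc_2 : ℕ := 0x1a2800007a0000001c0c00001242
noncomputable def nc_3 : ℕ := 0xd000be001200100066008800660000
noncomputable def nc_4 : ℕ := 0x408000c02040e00080000000006
noncomputable def nc_5 : ℕ := 0x2002002000000000202020020220
noncomputable def nc_6 : ℕ := 0x40004001151114155100101044114114
noncomputable def nc_7 : ℕ := 0x10012203013001022111202110200211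
noncomputable def nc_8 : ℕ := 0x501050e060d030109050900020b0301
noncomputable def nc_9 : ℕ := 0x6f003e00ef00ed006e00e2007600c8
noncomputable def nc_10 : ℕ := 0xdee9000001770000148400009638
noncomputable def nc_11 : ℕ := 0xa34a78a00000000049c83718
noncomputable def nc_12 : ℕ := 0xe70278621b0c3718
noncomputable def nc : Net := .cons 64 nc_0 <| .cons 32 nc_1 <| .cons 16 nc_2 <| .cons 8 nc_3 <| .cons 4 nc_4 <| .cons 2 nc_5 <| .cons 1 nc_6 <| .cons 2 nc_7 <| .cons 4 nc_8 <| .cons 8 nc_9 <| .cons 16 nc_10 <| .cons 32 nc_11 <| .cons 64 nc_12 <| .nil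
theorem vnc : Net.valid 128 nc = true := by decide +kernel
noncomputable def nd_0 : ℕ := 0x179a506608e86400
noncomputable def nd_1 : ℕ := 0x212e941a000000002a83299e
noncomputable def nd_2 : ℕ := 0xde0a00004d8800009114000006ae
noncomputable def nd_3 : ℕ := 0xc4002c006000780026006400f00088
noncomputable def nd_4 : ℕ := 0x20a080c040a02060c00
noncomputable def nd_5 : ℕ := 0x2020020002000000200022002
noncomputable def nd_6 : ℕ := 0x44550404044411501004405410114051
noncomputable def nd_7 : ℕ := 0x10120022000212000321203100210033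
noncomputable def nd_8 : ℕ := 0x20f0200020808020a040c090a060c02
noncomputable def nd_9 : ℕ := 0x55003d00ff004d00d6008800940054
noncomputable def nd_10 : ℕ := 0xde5b0000055900009bae0000b7a4
noncomputable def nd_11 : ℕ := 0x30ff0549000000006ae659c5
noncomputable def nd_12 : ℕ := 0x1739507688684c20
noncomputable def nd : Net := .cons 64 nd_0 <| .cons 32 nd_1 <| .cons 16 nd_2 <| .cons 8 nd_3 <| .cons 4 nd_4 <| .cons 2 nd_5 <| .cons 1 nd_6 <| .cons 2 nd_7 <| .cons 4 nd_8 <| .cons 8 nd_9 <| .cons 16 nd_10 <| .cons 32 nd_11 <| .cons 64 nd_12 <| .nil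
theorem vnd : Net.valid 128 nd = true := by decide +kernel
noncomputable def ne_0 : ℕ := 0x2e64d5ea73e6d6a6
noncomputable def ne_1 : ℕ := 0x51f60e1800000000e804c6a4
noncomputable def ne_2 : ℕ := 0x779000004722000013a800008744
noncomputable def ne_3 : ℕ := 0x46002200080026008e0014001c0030
noncomputable def ne_4 : ℕ := 0x6040406000402040a0e0c000402020c
noncomputable def ne_5 : ℕ := 0x20200002020000020000200000020200
noncomputable def ne_6 : ℕ := 0x41110554441414144115445505144414
noncomputable def ne_7 : ℕ := 0x20211313231322303303200313130310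
noncomputable def ne_8 : ℕ := 0x3090908000b000b050e0d000405030d
noncomputable def ne_9 : ℕ := 0x1b00bf0065009c00ee00d4009c00cf
noncomputable def ne_10 : ℕ := 0x6270000e1f000001ba800008744
noncomputable def ne_11 : ℕ := 0x5d7f140d00000000f824c6a4
noncomputable def ne_12 : ℕ := 0x2e64d5ea73e6d6a6
noncomputable def ne : Net := .cons 64 ne_0 <| .cons 32 ne_1 <| .cons 16 ne_2 <| .cons 8 ne_3 <| .cons 4 ne_4 <| .cons 2 ne_5 <| .cons 1 ne_6 <| .cons 2 ne_7 <| .cons 4 ne_8 <| .cons 8 ne_9 <| .cons 16 ne_10 <| .cons 32 ne_11 <| .cons 64 ne_12 <| .nil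
theorem vne : Net.valid 128 ne = true := by decide +kernel
noncomputable def gensN : List Net := [Net.nil, Net.nil]
noncomputable def invsN : List Net := [na, Net.nil, nc, nd, ne, Net.nil, Net.nil]
noncomputable def A : ℕ → ℕ → ℕ := mkA gensN invsN
noncomputable def π : ℕ → Equiv.Perm ℕ := mkPi gensN invsN
theorem vG : ∀ r ∈ ([Net.nil, Net.nil] : List Net), Net.valid 128 r = true := by
  intro r hr
  simp only [List.mem_cons, List.not_mem_nil, or_false] at hr
  rcases hr with rfl | rfl
  · rfl
  · rfl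
theorem vI : ∀ r ∈ ([na, Net.nil, nc, nd, ne, Net.nil, Net.nil] : List Net), Net.valid 128 r = true := by
  intro r hr
  simp only [List.mem_cons, List.not_mem_nil, or_false] at hr
  rcases hr with rfl | rfl | rfl | rfl | rfl | rfl | rfl
  · exact vna
  · rfl
  · exact vnc
  · exact vnd
  · exact vne
  · rfl
  · rfl
theorem env : Env 128 π A := env_mk vG vI
theorem hN : 128 ≤ 2 ^ 7 := by norm_num
theorem pinv : ∀ l, π (linv 4 l) = (π l)⁻¹ := mkPi_inv' hN rfl vI (by decide +kernel)
def R : List (List ℕ) := [[4,6,4,6],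
  [4,7,4,7],
  [4,8,4,8],
  [6,7,6,7,6,7,6,7,6,7,6,7,6,7,6,7,6,7,6,7],
  [6,8,6,8],
  [7,8,7,8,7,8],
  [4,7,6,7,6,7,6,7,6,7,6],
  [6,7,8,6,7,8,6,7,8,6,7,8,6,7,8]]
def RH : List (List ℕ) := []
def HL : List ℕ := []
def S : List ℕ := [4,6,7,8]
theorem relP : ∀ r ∈ R, evw π r = 1 := env.eq_one_of_allId hN (by decide +kernel)
def seeds : List (List ℕ) := []
theorem seeds_mem {G : Type*} [Group G] {val : ℕ → G} {H : Subgroup G} (hv : ∀ l, val (linv 4 l) = (val l)⁻¹) (he : val 11 = 1)
    (hR : ∀ r ∈ R ++ RH, evw val r = 1) (hH : ∀ l ∈ HL, val l ∈ H) : ∀ w ∈ seeds, evw val w ∈ H := by simp [seeds]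
def spec : List ℕ := [0,8192,16384,32768,32770,40960,40962,49162,49152,57344,49154]
noncomputable def rules : List (List ℕ) := spec.map (mkRule 4 R)
noncomputable def hs : List (List ℕ) := HL.map (fun z => [z]) ++ seeds
noncomputable def D0 : ℕ := Nat.shiftLeft 1 0
noncomputable def K0 : List ℕ := List.replicate 11 0
def steps0_0 : List ℕ := [16,24,28,32,24,28,32,24,28,32,24,1,5,9,13,17,21,25,29,1,5,9,17,21,25,33,1,5,9,17,1,37,26,41]
theorem run0 : tcRun A 4 0 rules hs (steps0_0) (finSt A S (ival 0 120)) D0 K0 = true := by decide +kernel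
theorem done {G : Type*} [Group G] {val : ℕ → G} {H : Subgroup G} (hv : ∀ l, val (linv 4 l) = (val l)⁻¹) (he : val 11 = 1)
    (hR : ∀ r ∈ R ++ RH, evw val r = 1) (hH : ∀ l ∈ HL, val l ∈ H) : TCDone val H π 0 S (ival 0 120) := by
  have T : TCHyp val H 128 π A 4 rules hs := tcHyp_mk env hv pinv (fun r hr => hR r (List.mem_append_left _ hr)) relP hH (seeds_mem hv he hR hH) spec
  have h0 : Inv val H π 0 D0 K0 := inv_init val H π 0 11
  exact tcRun_fin T h0 run0
end H71.HeK0
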