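import Cfsg.Agent.H71.Glue
set_option maxRecDepth 1000000
set_option Elab.async false
namespace H71.FiQ7
noncomputable def na_0 : ℕ := 0x8800000
noncomputable def na_1 : ℕ := 0x33440000000
noncomputable def na_2 : ℕ := 0x1900220000000
noncomputable def na_3 : ℕ := 0x8000000000004
noncomputable def na_4 : ℕ := 0x4408000000000
noncomputable def na_5 : ℕ := 0x8408800000001
noncomputable def na_6 : ℕ := 0x4448000000010
noncomputable def na_7 : ℕ := 0xe080060800004
noncomputable def na_8 : ℕ := 0x180220000000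
noncomputable def na_9 : ℕ := 0x33440000000
noncomputable def na_10 : ℕ := 0x8800000
noncomputable def na : Net := .cons 28 na_0 <| .cons 14 na_1 <| .cons 7 na_2 <| .cons 4 na_3 <| .cons 2 na_4 <| .cons 1 na_5 <| .cons 2 na_6 <| .cons 4 na_7 <| .cons 7 na_8 <| .cons 14 na_9 <| .cons 28 na_10 <| .nil
theorem vna : Net.valid 56 na = true := by decide +kernel
noncomputable def nb_0 : ℕ := 0x3000000
noncomputable def nb_1 : ℕ := 0x8000000000
noncomputable def nb_2 : ℕ := 0x8100010a00000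
noncomputable def nb_3 : ℕ := 0x1000000000
noncomputable def nb_4 : ℕ := 0x2040a00000
noncomputable def nb_5 : ℕ := 0x24480120600012
noncomputable def nb_6 : ℕ := 0x8100010a00000
noncomputable def nb_7 : ℕ := 0x7800e0000000
noncomputable def nb_8 : ℕ := 0xc020000000
noncomputable def nb_9 : ℕ := 0x3000000
noncomputable def nb : Net := .cons 28 nb_0 <| .cons 14 nb_1 <| .cons 4 nb_2 <| .cons 2 nb_3 <| .cons 1 nb_4 <| .cons 2 nb_5 <| .cons 4 nb_6 <| .cons 7 nb_7 <| .cons 14 nb_8 <| .cons 28 nb_9 <| .nil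
theorem vnb : Net.valid 56 nb = true := by decide +kernel
noncomputable def nc_0 : ℕ := 0x6880000
noncomputable def nc_1 : ℕ := 0x1a100000000
noncomputable def nc_2 : ℕ := 0x1080240140040
noncomputable def nc_3 : ℕ := 0x102020a00202
noncomputable def nc_4 : ℕ := 0x80002000100
noncomputable def nc_5 : ℕ := 0x2100002a40200
noncomputable def nc_6 : ℕ := 0x88032000102
noncomputable def nc_7 : ℕ := 0x102020a00202
noncomputable def nc_8 : ℕ := 0x1480240140040
noncomputable def nc_9 : ℕ := 0x1a100000000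
noncomputable def nc_10 : ℕ := 0x6880000
noncomputable def nc : Net := .cons 28 nc_0 <| .cons 14 nc_1 <| .cons 7 nc_2 <| .cons 4 nc_3 <| .cons 2 nc_4 <| .cons 1 nc_5 <| .cons 2 nc_6 <| .cons 4 nc_7 <| .cons 7 nc_8 <| .cons 14 nc_9 <| .cons 28 nc_10 <| .nil
theorem vnc : Net.valid 56 nc = true := by decide +kernel
noncomputable def nd_0 : ℕ := 0x29400002000
noncomputable def nd_1 : ℕ := 0x1000080110020
noncomputable def nd_2 : ℕ := 0x408000
noncomputable def nd_3 : ℕ := 0x400000008000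
noncomputable def nd_4 : ℕ := 0x400040210880
noncomputable def nd_5 : ℕ := 0x400000048000
noncomputable def nd_6 : ℕ := 0xc08180
noncomputable def nd_7 : ℕ := 0x1580480110020
noncomputable def nd_8 : ℕ := 0x29400002000
noncomputable def nd : Net := .cons 14 nd_0 <| .cons 7 nd_1 <| .cons 4 nd_2 <| .cons 2 nd_3 <| .cons 1 nd_4 <| .cons 2 nd_5 <| .cons 4 nd_6 <| .cons 7 nd_7 <| .cons 14 nd_8 <| .nil
theorem vnd : Net.valid 56 nd = true := by decide +kernel
noncomputable def ne_0 : ℕ := 0x5000000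
noncomputable def ne_1 : ℕ := 0x16000000840
noncomputable def ne_2 : ℕ := 0x280040010
noncomputable def ne_3 : ℕ := 0x100800000280
noncomputable def ne_4 : ℕ := 0x1000000000
noncomputable def ne_5 : ℕ := 0x940000200
noncomputable def ne_6 : ℕ := 0x49000000810
noncomputable def ne_7 : ℕ := 0x10080000c280
noncomputable def ne_8 : ℕ := 0x1002a0040010
noncomputable def ne_9 : ℕ := 0x16000000840
noncomputable def ne_10 : ℕ := 0x5000000
noncomputable def ne : Net := .cons 28 ne_0 <| .cons 14 ne_1 <| .cons 7 ne_2 <| .cons 4 ne_3 <| .cons 2 ne_4 <| .cons 1 ne_5 <| .cons 2 ne_6 <| .cons 4 ne_7 <| .cons 7 ne_8 <| .cons 14 ne_9 <| .cons 28 ne_10 <| .nil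
theorem vne : Net.valid 56 ne = true := by decide +kernel
noncomputable def nf_0 : ℕ := 0x8000000
noncomputable def nf_1 : ℕ := 0x30000002000
noncomputable def nf_2 : ℕ := 0x800600090000
noncomputable def nf_3 : ℕ := 0x81040208200
noncomputable def nf_4 : ℕ := 0x800
noncomputable def nf_5 : ℕ := 0x40852014800
noncomputable def nf_6 : ℕ := 0x3044c800
noncomputable def nf_7 : ℕ := 0x83040a08200
noncomputable def nf_8 : ℕ := 0x800600090000
noncomputable def nf_9 : ℕ := 0x30000002000
noncomputable def nf_10 : ℕ := 0x8000000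
noncomputable def nf : Net := .cons 28 nf_0 <| .cons 14 nf_1 <| .cons 7 nf_2 <| .cons 4 nf_3 <| .cons 2 nf_4 <| .cons 1 nf_5 <| .cons 2 nf_6 <| .cons 4 nf_7 <| .cons 7 nf_8 <| .cons 14 nf_9 <| .cons 28 nf_10 <| .nil
theorem vnf : Net.valid 56 nf = true := by decide +kernel
noncomputable def nh_0 : ℕ := 0x4100001800
noncomputable def nh_1 : ℕ := 0x100070000
noncomputable def nh_2 : ℕ := 0x800800000
noncomputable def nh_3 : ℕ := 0x1002400100
noncomputable def nh_4 : ℕ := 0x802244080
noncomputable def nh_5 : ℕ := 0x22001002400100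
noncomputable def nh_6 : ℕ := 0xa00080080c200
noncomputable def nh_7 : ℕ := 0xa80100070000
noncomputable def nh_8 : ℕ := 0x4100001800
noncomputable def nh : Net := .cons 14 nh_0 <| .cons 7 nh_1 <| .cons 4 nh_2 <| .cons 2 nh_3 <| .cons 1 nh_4 <| .cons 2 nh_5 <| .cons 4 nh_6 <| .cons 7 nh_7 <| .cons 14 nh_8 <| .nil
theorem vnh : Net.valid 56 nh = true := by decide +kernel
noncomputable def nl_0 : ℕ := 0xf7b3120
noncomputable def nl_1 : ℕ := 0x206400001bc
noncomputable def nl_2 : ℕ := 0x190070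
noncomputable def nl_3 : ℕ := 0x41800c04280
noncomputable def nl_4 : ℕ := 0x24000100048102
noncomputable def nl_5 : ℕ := 0x28042112044a04
noncomputable def nl_6 : ℕ := 0x260c1912004883
noncomputable def nl_7 : ℕ := 0xc0800e14081
noncomputable def nl_8 : ℕ := 0x1fc07f003400b
noncomputable def nl_9 : ℕ := 0x1d990003e43
noncomputable def nl_10 : ℕ := 0xf7b3120
noncomputable def nl : Net := .cons 28 nl_0 <| .cons 14 nl_1 <| .cons 7 nl_2 <| .cons 4 nl_3 <| .cons 2 nl_4 <| .cons 1 nl_5 <| .cons 2 nl_6 <| .cons 4 nl_7 <| .cons 7 nl_8 <| .cons 14 nl_9 <| .cons 28 nl_10 <| .nil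
theorem vnl : Net.valid 56 nl = true := by decide +kernel
noncomputable def gensN : List Net := [Net.nil]
noncomputable def invsN : List Net := [na, nb, nc, nd, ne, nf, Net.nil, nh, Net.nil, Net.nil, Net.nil, nl]
noncomputable def A : ℕ → ℕ → ℕ := mkA gensN invsN
noncomputable def π : ℕ → Equiv.Perm ℕ := mkPi gensN invsN
theorem vG : ∀ r ∈ ([Net.nil] : List Net), Net.valid 56 r = true := by
  intro r hr
  simp only [List.mem_cons, List.not_mem_nil, or_false] at hr
  rcases hr with rfl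
  · rfl
theorem vI : ∀ r ∈ ([na, nb, nc, nd, ne, nf, Net.nil, nh, Net.nil, Net.nil, Net.nil, nl] : List Net), Net.valid 56 r = true := by
  intro r hr
  simp only [List.mem_cons, List.not_mem_nil, or_false] at hr
  rcases hr with rfl | rfl | rfl | rfl | rfl | rfl | rfl | rfl | rfl | rfl | rfl | rfl
  · exact vna
  · exact vnb
  · exact vnc
  · exact vnd
  · exact vne
  · exact vnf
  · rfl
  · exact vnh
  · rfl
  · rfl
  · rfl
  · exact vnl
theorem env : Env 56 π A := env_mk vG vI
theorem hN : 56 ≤ 2 ^ 6 := by norm_num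
theorem pinv : ∀ l, π (linv 2 l) = (π l)⁻¹ := mkPi_inv' hN rfl vI (by decide +kernel)
def R : List (List ℕ) := [[2,3,2,3,2,3],
  [2,4,2,4],
  [2,5,2,5],
  [2,6,2,6],
  [2,7,2,7],
  [2,9,2,9],
  [2,13,2,13],
  [3,4,3,4,3,4],
  [3,5,3,5],
  [3,6,3,6],
  [3,7,3,7],
  [3,9,3,9],
  [3,13,3,13],
  [4,5,4,5,4,5],
  [4,6,4,6],
  [4,7,4,7],
  [4,9,4,9],
  [4,13,4,13],
  [5,6,5,6,5,6],
  [5,7,5,7],
  [5,9,5,9,5,9],
  [5,13,5,13],
  [6,7,6,7,6,7],
  [6,9,6,9],
  [6,13,6,13],
  [7,9,7,9],
  [7,13,7,13],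
  [9,13,9,13],
  [13,9,7,6,5,4,3,2,9,7,6,5,4,3,2,9,7,6,5,4,3,2,9,7,6,5,4,3,2,9,7,6,5,4,3,2,9,7,6,5,4,3,2,9,7,6,5,4,3,2,9,7,6,5,4,3,2,9,7,6,5,4,3,2]]
def RH : List (List ℕ) := []
def HL : List ℕ := [3,4,5,6,7,9]
def S : List ℕ := [2,3,4,5,6,7,9,13]
theorem relP : ∀ r ∈ R, evw π r = 1 := env.eq_one_of_allId hN (by decide +kernel)
def seeds : List (List ℕ) := []
theorem seeds_mem {G : Type*} [Group G] {val : ℕ → G} {H : Subgroup G} (hv : ∀ l, val (linv 2 l) = (val l)⁻¹) (he : val 14 = 1)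
    (hR : ∀ r ∈ R ++ RH, evw val r = 1) (hH : ∀ l ∈ HL, val l ∈ H) : ∀ w ∈ seeds, evw val w ∈ H := by simp [seeds]
def spec : List ℕ := [8194,16386,24578,32770,40962,49152,65538,73730,81922,90114,98304,114690,122882,131074,139264,155650,172032,172034,188416,196608,196610,204800,212992,221184,0,57344,106496,147456,163840,163842,180224,8192,16384,24576,32768,40960,65536,73728,81920,90112,114688,122880,131072,139266,155648,204802,221186,106498,147458,180226,98306,188418,212994,57346,229390]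
noncomputable def rules : List (List ℕ) := spec.map (mkRule 2 R)
noncomputable def hs : List (List ℕ) := HL.map (fun z => [z]) ++ seeds
noncomputable def D0 : ℕ := Nat.shiftLeft 1 0
noncomputable def K0 : List ℕ := List.replicate 14 0
def steps0_0 : List ℕ := [3,16387,32771,49155,65539,81923,8,12,16,20,24,28,36,52,20,24,16,20,36,12,16,20,24,28,1,5,9,13,17,21,25,29,33,37,41,45,49,53,57,61,65,69,73,77,81,85,89,93,97,101,105,109,113,117,121,125,129,133,137,141,145,149,29,153,157,161,165,169,53,173,177,61,69,181,185,189,109,193,197,129,133,145,25,149,29,37,201,45,49,53,173,61,69,73,205,81,85,209,213,105,189,109,113,117,125,129,141,25,29,33,37,49,169,177,61,205,181,101,105,121,145,149,153,161,165,217,10,137,133,129,141]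
theorem run0 : tcRun A 2 0 rules hs (steps0_0) (finSt A S (ival 0 56)) D0 K0 = true := by decide +kernel
theorem done {G : Type*} [Group G] {val : ℕ → G} {H : Subgroup G} (hv : ∀ l, val (linv 2 l) = (val l)⁻¹) (he : val 14 = 1)
    (hR : ∀ r ∈ R ++ RH, evw val r = 1) (hH : ∀ l ∈ HL, val l ∈ H) : TCDone val H π 0 S (ival 0 56) := by
  have T : TCHyp val H 56 π A 2 rules hs := tcHyp_mk env hv pinv (fun r hr => hR r (List.mem_append_left _ hr)) relP hH (seeds_mem hv he hR hH) spec
  have h0 : Inv val H π 0 D0 K0 := inv_init val H π 0 14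
  exact tcRun_fin T h0 run0
end H71.FiQ7
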