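import Cfsg.Agent.H71.Glue
set_option maxRecDepth 1000000
set_option Elab.async false
namespace H71.FiQ8
noncomputable def na_0 : ℕ := 0x3110040000000000
noncomputable def na_1 : ℕ := 0x319a00880000000018002000
noncomputable def na_2 : ℕ := 0x1090000062980000885000008800
noncomputable def na_3 : ℕ := 0x9000400000000000c0003000880000
noncomputable def na_4 : ℕ := 0xc080008040400000c0200000808
noncomputable def na_5 : ℕ := 0x2000000000000000000000020002
noncomputable def na_6 : ℕ := 0x1454110000000040001000410004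
noncomputable def na_7 : ℕ := 0x20002030001221101200300000022022
noncomputable def na_8 : ℕ := 0x1000c080008040c00010c0200000808
noncomputable def na_9 : ℕ := 0x9000400000000000c0003000a80000
noncomputable def na_10 : ℕ := 0x1090000062980000885000008800
noncomputable def na_11 : ℕ := 0x319a00880000000018002000
noncomputable def na_12 : ℕ := 0x3110040000000000
noncomputable def na : Net := .cons 64 na_0 <| .cons 32 na_1 <| .cons 16 na_2 <| .cons 8 na_3 <| .cons 4 na_4 <| .cons 2 na_5 <| .cons 1 na_6 <| .cons 2 na_7 <| .cons 4 na_8 <| .cons 8 na_9 <| .cons 16 na_10 <| .cons 32 na_11 <| .cons 64 na_12 <| .nil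
theorem vna : Net.valid 128 na = true := by decide +kernel
noncomputable def nb_0 : ℕ := 0x6268000000000000
noncomputable def nb_1 : ℕ := 0x7c6404000000000020000000
noncomputable def nb_2 : ℕ := 0x1c0000002660000011e800000000
noncomputable def nb_3 : ℕ := 0x840000008000d4002800000000
noncomputable def nb_4 : ℕ := 0x4000c040808000c080400000004
noncomputable def nb_5 : ℕ := 0x2000200000020000002002000000200
noncomputable def nb_6 : ℕ := 0x4000400000040000001004000000100
noncomputable def nb_7 : ℕ := 0x12000200032122302012302000000230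
noncomputable def nb_8 : ℕ := 0xd040c040808050e080400000004
noncomputable def nb_9 : ℕ := 0x840045008000d4002800400000
noncomputable def nb_10 : ℕ := 0x1c0000002660000011e800000000
noncomputable def nb_11 : ℕ := 0x7c6404000000000020000000
noncomputable def nb_12 : ℕ := 0x6268000000000000
noncomputable def nb : Net := .cons 64 nb_0 <| .cons 32 nb_1 <| .cons 16 nb_2 <| .cons 8 nb_3 <| .cons 4 nb_4 <| .cons 2 nb_5 <| .cons 1 nb_6 <| .cons 2 nb_7 <| .cons 4 nb_8 <| .cons 8 nb_9 <| .cons 16 nb_10 <| .cons 32 nb_11 <| .cons 64 nb_12 <| .nil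
theorem vnb : Net.valid 128 nb = true := by decide +kernel
noncomputable def nc_0 : ℕ := 0xc5c6044000000000
noncomputable def nc_1 : ℕ := 0x45c604000000000082000000
noncomputable def nc_2 : ℕ := 0x88820000b482000080e400000000
noncomputable def nc_3 : ℕ := 0xa400c000000004002800000088
noncomputable def nc_4 : ℕ := 0x8020008080000000004080000040800
noncomputable def nc_5 : ℕ := 0x20200000202020000000000
noncomputable def nc_6 : ℕ := 0x40010000014404410404410000000400
noncomputable def nc_7 : ℕ := 0x2003020200002202020000010010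
noncomputable def nc_8 : ℕ := 0x80204080c000300000c0a0400040808
noncomputable def nc_9 : ℕ := 0x8000a400c000000004002800000088
noncomputable def nc_10 : ℕ := 0x88820000b482000080e400000000
noncomputable def nc_11 : ℕ := 0x45c604000000000082000000
noncomputable def nc_12 : ℕ := 0xc5c6044000000000
noncomputable def nc : Net := .cons 64 nc_0 <| .cons 32 nc_1 <| .cons 16 nc_2 <| .cons 8 nc_3 <| .cons 4 nc_4 <| .cons 2 nc_5 <| .cons 1 nc_6 <| .cons 2 nc_7 <| .cons 4 nc_8 <| .cons 8 nc_9 <| .cons 16 nc_10 <| .cons 32 nc_11 <| .cons 64 nc_12 <| .nil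
theorem vnc : Net.valid 128 nc = true := by decide +kernel
noncomputable def nd_0 : ℕ := 0x8220000000000000
noncomputable def nd_1 : ℕ := 0x83300c000000000044010000
noncomputable def nd_2 : ℕ := 0x81180000180c0000480800008080
noncomputable def nd_3 : ℕ := 0x4009c008800400004008400c40044
noncomputable def nd_4 : ℕ := 0x20c04000004000000000000040400
noncomputable def nd_5 : ℕ := 0x20200002200000200002022000200
noncomputable def nd_6 : ℕ := 0x110140001104000104401044000400
noncomputable def nd_7 : ℕ := 0x1021202002210030200002122210200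
noncomputable def nd_8 : ℕ := 0x20c04080904000000000000040404
noncomputable def nd_9 : ℕ := 0x4009c008800400004008400c400c4
noncomputable def nd_10 : ℕ := 0x811800001a2c0000480800008080
noncomputable def nd_11 : ℕ := 0x83300c000000000044010000
noncomputable def nd_12 : ℕ := 0x8220000000000000
noncomputable def nd : Net := .cons 64 nd_0 <| .cons 32 nd_1 <| .cons 16 nd_2 <| .cons 8 nd_3 <| .cons 4 nd_4 <| .cons 2 nd_5 <| .cons 1 nd_6 <| .cons 2 nd_7 <| .cons 4 nd_8 <| .cons 8 nd_9 <| .cons 16 nd_10 <| .cons 32 nd_11 <| .cons 64 nd_12 <| .nil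
theorem vnd : Net.valid 128 nd = true := by decide +kernel
noncomputable def ne_0 : ℕ := 0x158000000000000
noncomputable def ne_1 : ℕ := 0xa048010800000000b0042000
noncomputable def ne_2 : ℕ := 0x8810000012180000b1c000004000
noncomputable def ne_3 : ℕ := 0x20001000800020000400f00000
noncomputable def ne_4 : ℕ := 0x800000804080004020c08080c000200
noncomputable def ne_5 : ℕ := 0x2020020020020020000000000000
noncomputable def ne_6 : ℕ := 0x1010040011010140000400441000
noncomputable def ne_7 : ℕ := 0x20102020022020120023020030000000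
noncomputable def ne_8 : ℕ := 0x800000a05080004020c08080c0c0200
noncomputable def ne_9 : ℕ := 0x20001000800020003400f00000
noncomputable def ne_10 : ℕ := 0x89100000125a0000b1c000004000
noncomputable def ne_11 : ℕ := 0xa048010800000000b0042000
noncomputable def ne_12 : ℕ := 0x158000000000000
noncomputable def ne : Net := .cons 64 ne_0 <| .cons 32 ne_1 <| .cons 16 ne_2 <| .cons 8 ne_3 <| .cons 4 ne_4 <| .cons 2 ne_5 <| .cons 1 ne_6 <| .cons 2 ne_7 <| .cons 4 ne_8 <| .cons 8 ne_9 <| .cons 16 ne_10 <| .cons 32 ne_11 <| .cons 64 ne_12 <| .nil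
theorem vne : Net.valid 128 ne = true := by decide +kernel
noncomputable def nf_0 : ℕ := 0xf800000000000000
noncomputable def nf_1 : ℕ := 0xf8078000000000000c021020
noncomputable def nf_2 : ℕ := 0x20020000b0040000dc1800000000
noncomputable def nf_3 : ℕ := 0x80000000280028000a002800880020
noncomputable def nf_4 : ℕ := 0x80000040004000e08000006080000
noncomputable def nf_5 : ℕ := 0x22002020220000002020000
noncomputable def nf_6 : ℕ := 0x50001144444015111001041041000
noncomputable def nf_7 : ℕ := 0x32000022002220220010322000000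
noncomputable def nf_8 : ℕ := 0x80000040004000e08000006080000
noncomputable def nf_9 : ℕ := 0x80000000280038004a002d000e0020
noncomputable def nf_10 : ℕ := 0x20020000f2040000dc1800000000
noncomputable def nf_11 : ℕ := 0xf8078000000000000c021020
noncomputable def nf_12 : ℕ := 0xf800000000000000
noncomputable def nf : Net := .cons 64 nf_0 <| .cons 32 nf_1 <| .cons 16 nf_2 <| .cons 8 nf_3 <| .cons 4 nf_4 <| .cons 2 nf_5 <| .cons 1 nf_6 <| .cons 2 nf_7 <| .cons 4 nf_8 <| .cons 8 nf_9 <| .cons 16 nf_10 <| .cons 32 nf_11 <| .cons 64 nf_12 <| .nil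
theorem vnf : Net.valid 128 nf = true := by decide +kernel
noncomputable def nh_0 : ℕ := 0x408040000000000
noncomputable def nh_1 : ℕ := 0x8980c000000000029000000
noncomputable def nh_2 : ℕ := 0xc2a400000402000035b000005020
noncomputable def nh_3 : ℕ := 0x80000800000020001c004800180010
noncomputable def nh_4 : ℕ := 0x400020000040002040000000c0000
noncomputable def nh_5 : ℕ := 0x2020000002200000000000
noncomputable def nh_6 : ℕ := 0x40400045001040011451400004000010
noncomputable def nh_7 : ℕ := 0x2010003002220002000200210120000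
noncomputable def nh_8 : ℕ := 0x60002000004000a0f0000000c0200
noncomputable def nh_9 : ℕ := 0x800008000000200082004900180010
noncomputable def nh_10 : ℕ := 0xc6a400000402000035b000005020
noncomputable def nh_11 : ℕ := 0x8980c000000000029000000
noncomputable def nh_12 : ℕ := 0x408040000000000
noncomputable def nh : Net := .cons 64 nh_0 <| .cons 32 nh_1 <| .cons 16 nh_2 <| .cons 8 nh_3 <| .cons 4 nh_4 <| .cons 2 nh_5 <| .cons 1 nh_6 <| .cons 2 nh_7 <| .cons 4 nh_8 <| .cons 8 nh_9 <| .cons 16 nh_10 <| .cons 32 nh_11 <| .cons 64 nh_12 <| .nil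
theorem vnh : Net.valid 128 nh = true := by decide +kernel
noncomputable def nk_0 : ℕ := 0x1880000000000880
noncomputable def nk_1 : ℕ := 0x199000400000000005408408
noncomputable def nk_2 : ℕ := 0xda14000013200000c50000004480
noncomputable def nk_3 : ℕ := 0x480040008000d00000001a00c000a0
noncomputable def nk_4 : ℕ := 0x8000002020800040000000200
noncomputable def nk_5 : ℕ := 0x200020220000022000000200200000
noncomputable def nk_6 : ℕ := 0x40400414110010044400010140400101
noncomputable def nk_7 : ℕ := 0x2211020220000122000100201200000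
noncomputable def nk_8 : ℕ := 0x809000a020800040000000208
noncomputable def nk_9 : ℕ := 0x480040008000d00000001a00d800a0
noncomputable def nk_10 : ℕ := 0xdb14000013200000c50000004480
noncomputable def nk_11 : ℕ := 0x199000400000000005408408
noncomputable def nk_12 : ℕ := 0x1880000000000880
noncomputable def nk : Net := .cons 64 nk_0 <| .cons 32 nk_1 <| .cons 16 nk_2 <| .cons 8 nk_3 <| .cons 4 nk_4 <| .cons 2 nk_5 <| .cons 1 nk_6 <| .cons 2 nk_7 <| .cons 4 nk_8 <| .cons 8 nk_9 <| .cons 16 nk_10 <| .cons 32 nk_11 <| .cons 64 nk_12 <| .nil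
theorem vnk : Net.valid 128 nk = true := by decide +kernel
noncomputable def nl_0 : ℕ := 0x830000000000000
noncomputable def nl_1 : ℕ := 0x4a020000000000082804224
noncomputable def nl_2 : ℕ := 0x2404000009400000e38000003200
noncomputable def nl_3 : ℕ := 0x80000000080042000800120000
noncomputable def nl_4 : ℕ := 0x8000000000000080404040c00080000
noncomputable def nl_5 : ℕ := 0x20200002002000002002200200020
noncomputable def nl_6 : ℕ := 0x40400004001001004404111100010
noncomputable def nl_7 : ℕ := 0x20020220002002200102022200220022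
noncomputable def nl_8 : ℕ := 0x80000000000000c0404040c00080404
noncomputable def nl_9 : ℕ := 0xc0000000080042000800160044
noncomputable def nl_10 : ℕ := 0x2494000009500000e38000003200
noncomputable def nl_11 : ℕ := 0x4b020100000000082804224
noncomputable def nl_12 : ℕ := 0x830000000000000
noncomputable def nl : Net := .cons 64 nl_0 <| .cons 32 nl_1 <| .cons 16 nl_2 <| .cons 8 nl_3 <| .cons 4 nl_4 <| .cons 2 nl_5 <| .cons 1 nl_6 <| .cons 2 nl_7 <| .cons 4 nl_8 <| .cons 8 nl_9 <| .cons 16 nl_10 <| .cons 32 nl_11 <| .cons 64 nl_12 <| .nil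
theorem vnl : Net.valid 128 nl = true := by decide +kernel
noncomputable def gensN : List Net := [Net.nil]
noncomputable def invsN : List Net := [na, nb, nc, nd, ne, nf, Net.nil, nh, Net.nil, Net.nil, nk, nl]
noncomputable def A : ℕ → ℕ → ℕ := mkA gensN invsN
noncomputable def π : ℕ → Equiv.Perm ℕ := mkPi gensN invsN
theorem vG : ∀ r ∈ ([Net.nil] : List Net), Net.valid 128 r = true := by
  intro r hr
  simp only [List.mem_cons, List.not_mem_nil, or_false] at hr
  rcases hr with rfl
  · rfl
theorem vI : ∀ r ∈ ([na, nb, nc, nd, ne, nf, Net.nil, nh, Net.nil, Net.nil, nk, nl] : List Net), Net.valid 128 r = true := by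
  intro r hr
  simp only [List.mem_cons, List.not_mem_nil, or_false] at hr
  rcases hr with rfl | rfl | rfl | rfl | rfl | rfl | rfl | rfl | rfl | rfl | rfl | rfl
  · exact vna
  · exact vnb
  · exact vnc
  · exact vnd
  · exact vne
  · exact vnf
  · rfl
  · exact vnh
  · rfl
  · rfl
  · exact vnk
  · exact vnl
theorem env : Env 128 π A := env_mk vG vI
theorem hN : 128 ≤ 2 ^ 7 := by norm_num
theorem pinv : ∀ l, π (linv 2 l) = (π l)⁻¹ := mkPi_inv' hN rfl vI (by decide +kernel)
def R : List (List ℕ) := [[2,3,2,3,2,3],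
  [2,4,2,4],
  [2,5,2,5],
  [2,6,2,6],
  [2,7,2,7],
  [2,9,2,9],
  [2,12,2,12,2,12],
  [2,13,2,13],
  [3,4,3,4,3,4],
  [3,5,3,5],
  [3,6,3,6],
  [3,7,3,7],
  [3,9,3,9],
  [3,12,3,12],
  [3,13,3,13],
  [4,5,4,5,4,5],
  [4,6,4,6],
  [4,7,4,7],
  [4,9,4,9],
  [4,12,4,12],
  [4,13,4,13],
  [5,6,5,6,5,6],
  [5,7,5,7],
  [5,9,5,9,5,9],
  [5,12,5,12],
  [5,13,5,13],
  [6,7,6,7,6,7],
  [6,9,6,9],
  [6,12,6,12],
  [6,13,6,13],
  [7,9,7,9],
  [7,12,7,12],
  [7,13,7,13],
  [9,12,9,12],
  [9,13,9,13],
  [12,13,12,13,12,13],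
  [13,9,7,6,5,4,3,2,9,7,6,5,4,3,2,9,7,6,5,4,3,2,9,7,6,5,4,3,2,9,7,6,5,4,3,2,9,7,6,5,4,3,2,9,7,6,5,4,3,2,9,7,6,5,4,3,2,9,7,6,5,4,3,2]]
def RH : List (List ℕ) := []
def HL : List ℕ := [2,3,4,5,6,7,9,13]
def S : List ℕ := [2,3,4,5,6,7,9,12,13]
theorem relP : ∀ r ∈ R, evw π r = 1 := env.eq_one_of_allId hN (by decide +kernel)
def seeds : List (List ℕ) := []
theorem seeds_mem {G : Type*} [Group G] {val : ℕ → G} {H : Subgroup G} (hv : ∀ l, val (linv 2 l) = (val l)⁻¹) (he : val 14 = 1)
    (hR : ∀ r ∈ R ++ RH, evw val r = 1) (hH : ∀ l ∈ HL, val l ∈ H) : ∀ w ∈ seeds, evw val w ∈ H := by simp [seeds]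
def spec : List ℕ := [16384,24576,57346,73728,73730,81920,98306,106496,114688,114690,131074,147458,155648,163840,163842,196608,196610,204800,204802,221184,229376,229378,237568,237570,245760,253952,262144,262146,270336,278528,278530,0,49154,286720,286722,8192,8194,16386,24578,32768,32770,40960,40962,81922,90114,106498,139266,155650,180226,253954,270338,49152,65536,122880,172032,188416,188418,212992,90112,98304,131072,139264,147456,180224,245762,2,65538,122882,172034,212994,221186,294926]
noncomputable def rules : List (List ℕ) := spec.map (mkRule 2 R)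
noncomputable def hs : List (List ℕ) := HL.map (fun z => [z]) ++ seeds
noncomputable def D0 : ℕ := Nat.shiftLeft 1 0
noncomputable def K0 : List ℕ := List.replicate 14 0
def steps0_0 : List ℕ := [3,16387,32771,49155,65539,81923,98307,114691,48,52,8,12,16,20,24,28,36,48,8,12,16,20,24,16,20,36,12,16,20,24,28,1,5,9,13,17,21,25,29,33,37,41,45,49,53,57,61,65,69,73,77,81,85,89,93,97,101,105,109,113,117,121,125,129,133,137,141,145,1,149,5,153,157,161,165,169,17,173,177,25,181,37,41,185,45,49,189,57,193,61,65,73,81,85,93,97,101,197,109,113,201,121,205,209,213,217,221,225,229,145,1,149,5,153,161,169,9,13,17,21,173,233,177,237,25,181,37,241,41,245,185,249,45,189,57,253,193,65,73,85,93,257,197,121,125,261,209,265,213,269,217,273,225,277,141,1,5,165,13,17,21,173,177,25,37,241,41,185,189,57,193,65,73,77,281,93,97,109,201,121,265,213,269,217,221,225,173,177,181,37,185,249,189,57,253,193,65,73,281,85,93,257,197,109,209,213,229,13,21,233,241,245,285,10,157,205,5,261,265,269,273,225,1,165,13,237,281]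
theorem run0 : tcRun A 2 0 rules hs (steps0_0) (finSt A S (ival 0 120)) D0 K0 = true := by decide +kernel
theorem done {G : Type*} [Group G] {val : ℕ → G} {H : Subgroup G} (hv : ∀ l, val (linv 2 l) = (val l)⁻¹) (he : val 14 = 1)
    (hR : ∀ r ∈ R ++ RH, evw val r = 1) (hH : ∀ l ∈ HL, val l ∈ H) : TCDone val H π 0 S (ival 0 120) := by
  have T : TCHyp val H 128 π A 2 rules hs := tcHyp_mk env hv pinv (fun r hr => hR r (List.mem_append_left _ hr)) relP hH (seeds_mem hv he hR hH) spec
  have h0 : Inv val H π 0 D0 K0 := inv_init val H π 0 14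
  exact tcRun_fin T h0 run0
end H71.FiQ8
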