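/- ALTSEC tower: kit for groups mapping minimally onto an alternating group. -/
import Cfsg.Agent.H40.ASSpec
import Cfsg.Agent.H81.AltMult
import Cfsg.Agent.H2.Fitting
import Cfsg.Agent.H49.ElemAbRep
import Cfsg.Agent.H22.Weights
import Cfsg.Agent.H22.BaseChange
import Cfsg.Agent.H90.PermMod

set_option autoImplicit false

namespace H71.AS
open Equiv Module Subgroup Cfsg
open scoped commutatorElement

variable {H : Type} [Group H] {r : ℕ} {π : H →* Perm (Fin r)}

/-- `π` is onto the alternating group, and no proper subgroup is. -/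
structure Mn (π : H →* Perm (Fin r)) : Prop where
  five : 5 ≤ r
  range : π.range = alternatingGroup (Fin r)
  min : ∀ L : Subgroup H, L.map π = alternatingGroup (Fin r) → L = ⊤

theorem exists_mn [Finite H] (h5 : 5 ≤ r) (h : π.range = alternatingGroup (Fin r)) :
    ∃ L : Subgroup H, Mn (π.comp L.subtype) := by
  obtain ⟨L, hL, hm⟩ := exists_minimal_of_wellFoundedLT
    (fun L : Subgroup H => L.map π = alternatingGroup (Fin r)) ⟨⊤, by rwa [← MonoidHom.range_eq_map]⟩
  refine ⟨L, h5, by rwa [MonoidHom.range_comp, range_subtype], fun M hM => ?_⟩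
  rw [← map_map] at hM
  rw [eq_top_iff, ← map_subtype_le_map_subtype, ← MonoidHom.range_eq_map, range_subtype]
  exact hm hM (map_subtype_le M)

namespace Mn

theorem mem (h : Mn π) (x : H) : π x ∈ alternatingGroup (Fin r) := h.range ▸ ⟨x, rfl⟩

/-- The map onto the alternating group. -/
def φ (h : Mn π) : H →* alternatingGroup (Fin r) := π.codRestrict _ h.mem

theorem surj (h : Mn π) : Function.Surjective h.φ := fun a => by
  obtain ⟨x, hx⟩ : (a : Perm (Fin r)) ∈ π.range := by rw [h.range]; exact a.2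
  exact ⟨x, Subtype.ext hx⟩

theorem kerφ (h : Mn π) : h.φ.ker = π.ker := MonoidHom.ker_codRestrict _ _ _

theorem simple (h : Mn π) : IsSimpleGroup (alternatingGroup (Fin r)) :=
  alternatingGroup.isSimpleGroup (by simpa using h.five)

theorem dich (h : Mn π) (N : Subgroup H) [hN : N.Normal] : N ≤ π.ker ∨ N = ⊤ := by
  have := h.simple
  rcases (hN.map h.φ h.surj).eq_bot_or_eq_top with e | e
  · exact Or.inl (h.kerφ ▸ (Subgroup.map_eq_bot_iff _).1 e)
  · refine Or.inr (h.min N ?_)
    have e2 := congrArg (Subgroup.map (alternatingGroup (Fin r)).subtype) e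
    rwa [map_map, ← MonoidHom.range_eq_map, range_subtype] at e2

theorem ker_ne (h : Mn π) : π.ker ≠ ⊤ := fun e => by
  have := h.simple
  obtain ⟨a, ha⟩ := exists_ne (1 : alternatingGroup (Fin r))
  obtain ⟨x, rfl⟩ := h.surj a
  exact ha (Subtype.ext (show x ∈ π.ker from e ▸ mem_top x))

theorem perfect (h : Mn π) : commutator H = ⊤ := h.min _ (by
  rw [map_commutator_eq, h.range, commutator_alternatingGroup_eq_self
    (by simpa using h.five)])

theorem top_of_sup (h : Mn π) {L : Subgroup H} (e : L ⊔ π.ker = ⊤) : L = ⊤ := h.min L (by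
  rw [← h.range, MonoidHom.range_eq_map, ← e, Subgroup.map_sup, map_ker_self, sup_bot_eq])

theorem sylow [Finite H] (h : Mn π) {l : ℕ} [Fact l.Prime] (P : Sylow l π.ker) :
    ((P : Subgroup π.ker).map π.ker.subtype).Normal :=
  normalizer_eq_top_iff.1 (h.top_of_sup P.normalizer_sup_eq_top)

theorem nil [Finite H] (h : Mn π) : Group.IsNilpotent π.ker := by
  have q := (Group.isNilpotent_of_finite_tfae (G := π.ker)).out 0 3
  rw [q]
  exact fun l _ P => (h.sylow P).of_map_subtype

theorem quot (h : Mn π) (N : Subgroup H) [N.Normal] (hN : N ≤ π.ker) :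
    Mn (QuotientGroup.lift N π hN) := by
  have e : ∀ L : Subgroup H, (L.map (QuotientGroup.mk' N)).map (QuotientGroup.lift N π hN) =
      L.map π := fun L => by rw [map_map, QuotientGroup.lift_comp_mk']
  have hs := QuotientGroup.mk'_surjective N
  refine ⟨h.five, ?_, fun L hL => ?_⟩
  · rw [MonoidHom.range_eq_map, ← map_top_of_surjective _ hs, e, ← MonoidHom.range_eq_map, h.range]
  · rw [← map_comap_eq_self_of_surjective hs L] at hL ⊢
    rw [e] at hL
    rw [h.min _ hL, map_top_of_surjective _ hs]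

theorem dc [Finite H] (h : Mn π) (h8 : 8 ≤ r) (hc : π.ker ≤ center H) {z : H} (hz : π z = 1)
    (h1 : z ≠ 1) : H49.DC z π := by
  have h2 := H81.alt_card_ker_le r (by omega) (by omega) (by omega) (π := h.φ)
    ⟨h.surj, h.kerφ ▸ hc, h.perfect ▸ le_top⟩
  rw [h.kerφ] at h2
  have : Nontrivial π.ker := ⟨⟨z, hz⟩, 1, fun e => h1 (congrArg Subtype.val e)⟩
  obtain ⟨y, -, hy⟩ := (Nat.card_eq_two_iff' (1 : π.ker)).1
    (le_antisymm h2 Finite.one_lt_card)
  refine ⟨h1, fun x => (mem_center_iff.1 (hc hz) x).symm, fun x => ⟨fun hx => ?_, ?_⟩, h.range,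
    fun L hL => ?_⟩
  · by_cases e : x = 1
    · exact Or.inl e
    · exact Or.inr (congrArg Subtype.val ((hy ⟨x, hx⟩ fun e' => e (congrArg Subtype.val e')).trans
        (hy ⟨z, hz⟩ fun e' => h1 (congrArg Subtype.val e')).symm))
  · rintro (rfl | rfl)
    · exact map_one π
    · exact hz
  · rw [h.min L (le_antisymm (h.range ▸ map_le_range π L) fun σ hσ =>
      hL σ (Perm.mem_alternatingGroup.1 hσ))]
    trivial

/-- A representation trivial on the kernel comes from the alternating group. -/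
theorem descend (h : Mn π) {M : Type*} [Monoid M] (ρ : H →* M) (hρ : ∀ y, π y = 1 → ρ y = 1) :
    ∃ ρ' : alternatingGroup (Fin r) →* M, ∀ x, ρ' (h.φ x) = ρ x := by
  refine ⟨(QuotientGroup.lift h.φ.ker ρ fun y hy => hρ y (congrArg Subtype.val hy)).comp
    (QuotientGroup.quotientKerEquivOfSurjective h.φ h.surj).symm.toMonoidHom, fun x => ?_⟩
  have : (QuotientGroup.quotientKerEquivOfSurjective h.φ h.surj).symm (h.φ x) = x := by
    rw [MulEquiv.symm_apply_eq]; rfl
  exact congrArg (QuotientGroup.lift h.φ.ker ρ fun y hy => hρ y (congrArg Subtype.val hy)) this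

end Mn

/-- A minimal non-central normal subgroup inside the kernel. -/
structure MR (π : H →* Perm (Fin r)) (R : Subgroup H) (l : ℕ) : Prop where
  mn : Mn π
  nm : R.Normal
  le : R ≤ π.ker
  nc : ¬ R ≤ center H
  min : ∀ N : Subgroup H, N.Normal → N ≤ R → N ≤ center H ∨ N = R
  pr : l.Prime
  cm : ∀ x ∈ R, ∀ y ∈ π.ker, ⁅y, x⁆ ∈ center H
  pw : ∀ x ∈ R, x ^ l ∈ center H

theorem exists_mr [Finite H] (h : Mn π) {K : Subgroup H} (hK : K.Normal) (hle : K ≤ π.ker)
    (hc : ¬ K ≤ center H) : ∃ R ≤ K, ∃ l, MR π R l := by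
  obtain ⟨R, ⟨nm, le, nc⟩, hm⟩ := exists_minimal_of_wellFoundedLT
    (fun R : Subgroup H => R.Normal ∧ R ≤ K ∧ ¬ R ≤ center H) ⟨K, hK, le_rfl, hc⟩
  have min : ∀ N : Subgroup H, N.Normal → N ≤ R → N ≤ center H ∨ N = R := fun N hN hNR => by
    by_cases e : N ≤ center H
    · exact Or.inl e
    · exact Or.inr (le_antisymm hNR (hm ⟨hN, hNR.trans le, e⟩ hNR))
  have := h.nil
  have hlt : ⁅R, π.ker⁆ < R := H2.commutator_lt_of_isNilpotent (le.trans hle)
    (by rw [normalizer_eq_top_iff.2 nm]; exact le_top) (by rintro rfl; exact nc bot_le)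
  have cm : ∀ x ∈ R, ∀ y ∈ π.ker, ⁅y, x⁆ ∈ center H := fun x hx y hy =>
    (min _ inferInstance hlt.le).resolve_right hlt.ne
      (commutator_comm π.ker R ▸ commutator_mem_commutator hy hx)
  obtain ⟨x, hx, hxz⟩ := SetLike.not_le_iff_exists.1 nc
  have hx1 : (x : H ⧸ center H) ≠ 1 := fun e => hxz ((QuotientGroup.eq_one_iff x).1 e)
  obtain ⟨l, pr, m, hm⟩ := Nat.exists_prime_and_dvd (mt orderOf_eq_one_iff.1 hx1)
  let T : Subgroup H :=
    { carrier := {a | a ∈ R ∧ (a : H ⧸ center H) ^ l = 1}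
      mul_mem' := fun {a b} ha hb => ⟨R.mul_mem ha.1 hb.1, by
        have : Commute (a : H ⧸ center H) b := commutatorElement_eq_one_iff_commute.1
          ((QuotientGroup.eq_one_iff _).2 (cm b hb.1 a (hle (le ha.1))))
        rw [QuotientGroup.mk_mul, this.mul_pow, ha.2, hb.2, one_mul]⟩
      one_mem' := ⟨R.one_mem, by simp⟩
      inv_mem' := fun {a} ha => ⟨R.inv_mem ha.1, by rw [QuotientGroup.mk_inv, inv_pow, ha.2, inv_one]⟩ }
  have hT : T.Normal := ⟨fun a ha g => ⟨nm.conj_mem a ha.1 g, by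
    rw [QuotientGroup.mk_mul, QuotientGroup.mk_mul, QuotientGroup.mk_inv, conj_pow, ha.2]; simp⟩⟩
  have hpos : 0 < orderOf (x : H ⧸ center H) := orderOf_pos _
  have hTR : T = R := (min T hT fun a ha => ha.1).resolve_left fun e => by
    have h1 : x ^ m ∈ T := ⟨R.pow_mem hx m, by
      rw [QuotientGroup.mk_pow, ← pow_mul, mul_comm, ← hm, pow_orderOf_eq_one]⟩
    have h2 := (QuotientGroup.eq_one_iff _).2 (e h1)
    rw [QuotientGroup.mk_pow] at h2
    have h3 := Nat.le_of_dvd (Nat.pos_of_mul_pos_left (hm ▸ hpos)) (orderOf_dvd_of_pow_eq_one h2)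
    have := pr.two_le
    have : 0 < m := Nat.pos_of_mul_pos_left (hm ▸ hpos)
    rw [hm] at h3
    nlinarith
  exact ⟨R, le, l, h, nm, le.trans hle, nc, min, pr, cm, fun a ha =>
    (QuotientGroup.eq_one_iff _).1 (by rw [QuotientGroup.mk_pow]; exact (hTR ▸ ha : a ∈ T).2)⟩

theorem commute_of_commutator_eq {G : Type*} [Group G] {a b c : G} (e : ⁅a, b⁆ = ⁅a, c⁆) :
    Commute a (b⁻¹ * c) :=
  calc a * (b⁻¹ * c) = b⁻¹ * (⁅a, b⁆⁻¹ * a) * c := by group
    _ = b⁻¹ * (⁅a, c⁆⁻¹ * a) * c := by rw [e]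
    _ = b⁻¹ * c * a := by group

namespace MR
variable {R : Subgroup H} {l : ℕ}

/-- The image of `R` modulo the centre is large. -/
theorem card_bar [Finite H] (h : MR π R l) {d : ℕ}
    (hS : ∀ (l : ℕ) [Fact l.Prime] (U : Type) [AddCommGroup U] [Module (ZMod l) U]
      [FiniteDimensional (ZMod l) U] (ρ : Representation (ZMod l) H U),
      (∀ x, ρ x = 1 → π x = 1) → (∃ x, x ≠ 1 ∧ ρ x = 1) → d ≤ finrank (ZMod l) U) :
    2 ^ d ≤ Nat.card (R.map (QuotientGroup.mk' (center H))) := by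
  have := Fact.mk h.pr
  have := h.nm
  have : (R.map (QuotientGroup.mk' (center H))).Normal := h.nm.map _ (QuotientGroup.mk'_surjective _)
  have E : H49.IsEA l (R.map (QuotientGroup.mk' (center H))) := by
    constructor
    · rintro ⟨_, a, ha, rfl⟩ ⟨_, b, hb, rfl⟩
      exact Subtype.ext (commutatorElement_eq_one_iff_commute.1
        ((QuotientGroup.eq_one_iff _).2 (h.cm b hb a (h.le ha))))
    · rintro ⟨_, a, ha, rfl⟩
      exact Subtype.ext ((QuotientGroup.eq_one_iff _).2 (h.pw a ha))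
  let ψ : H →* MulAut (R.map (QuotientGroup.mk' (center H))) :=
    MulAut.conjNormal.comp (QuotientGroup.mk' (center H))
  have hψ : ∀ g, ψ g = 1 ↔ ∀ x ∈ R, ⁅g, x⁆ ∈ center H := fun g => by
    constructor
    · intro e x hx
      have e2 := congrArg Subtype.val (DFunLike.congr_fun e ⟨_, x, hx, rfl⟩)
      refine (QuotientGroup.eq_one_iff _).1 ?_
      exact mul_inv_eq_one.2 e2
    · intro e
      ext1 ⟨_, x, hx, rfl⟩
      exact Subtype.ext (mul_inv_eq_one.1 ((QuotientGroup.eq_one_iff _).2 (e x hx)))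
  have hk : ψ.ker ≤ π.ker := (h.mn.dich ψ.ker).resolve_right fun e => h.nc (by
    have h1 : ⁅(⊤ : Subgroup H), R⁆ ≤ center H :=
      commutator_le.2 fun g _ x hx => (hψ g).1 (e ▸ mem_top g : g ∈ ψ.ker) x hx
    have h2 := commutator_top_right_eq_bot_iff_le_center.2 h1
    have h3 := commutator_commutator_eq_bot_of_rotate h2 (by rwa [commutator_comm R])
    rwa [← _root_.commutator_def, h.mn.perfect, commutator_top_left_eq_bot_iff_le_center] at h3)
  obtain ⟨x, hx, hxz⟩ := SetLike.not_le_iff_exists.1 h.nc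
  have hd := hS l E.V (E.rep ψ) (fun g hg => hk ((E.rep_eq_one_iff ψ g).1 hg))
    ⟨x, by rintro rfl; exact hxz (one_mem _),
      (E.rep_eq_one_iff ψ x).2 ((hψ x).2 fun y hy => h.cm y hy x (h.le hx))⟩
  rw [E.card_eq_pow_finrank]
  exact (Nat.pow_le_pow_right two_pos hd).trans (Nat.pow_le_pow_left h.pr.two_le _)

/-- On a small module where `R ∩ Z` acts by scalars, `R` commutes with the kernel. -/
theorem comm_of_small [Finite H] (h : MR π R l) {k W : Type} [Field k] [AddCommGroup W]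
    [Module k W] [FiniteDimensional k W] [Nontrivial W] (σ : Representation k H W)
    (hz : ∀ z ∈ R, z ∈ center H → ∃ c : k, σ z = c • 1)
    (hs : finrank k W ^ 2 < Nat.card (R.map (QuotientGroup.mk' (center H)))) :
    ∀ x ∈ R, ∀ y ∈ π.ker, Commute (σ y) (σ x) := by
  have := h.nm
  let σ' : H →* (End k W)ˣ := σ.toHomUnits
  let N : Subgroup H :=
    { carrier := {x | x ∈ R ∧ ∀ y ∈ π.ker, Commute (σ' y) (σ' x)}
      mul_mem' := fun {a b} ha hb => ⟨R.mul_mem ha.1 hb.1, fun y hy => by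
        rw [map_mul]; exact (ha.2 y hy).mul_right (hb.2 y hy)⟩
      one_mem' := ⟨R.one_mem, fun y _ => by simp⟩
      inv_mem' := fun {a} ha => ⟨R.inv_mem ha.1, fun y hy => by
        rw [map_inv]; exact (ha.2 y hy).inv_right⟩ }
  have hN : N.Normal := ⟨fun a ha g => ⟨h.nm.conj_mem a ha.1 g, fun y hy => by
    have := (ha.2 _ ((inferInstance : π.ker.Normal).conj_mem' y hy g)).conj (σ' g)
    simpa [mul_assoc] using this⟩⟩
  rcases h.min N hN fun a ha => ha.1 with e | e
  swap
  · intro x hx y hy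
    exact Commute.units_val ((e ▸ hx : x ∈ N).2 y hy)
  exfalso
  choose c hc using fun (y : π.ker) (x : R) =>
    hz ⁅(y : H), (x : H)⁆ (commutator_le_right ⊤ R (commutator_mem_commutator (mem_top _) x.2))
      (h.cm x x.2 y y.2)
  choose ξ hξ hξ' using fun τ : R.map (QuotientGroup.mk' (center H)) => τ.2
  have hli := H22.linearIndependent_of_wt
    (fun y : π.ker => LinearMap.mulLeft k (σ y) ∘ₗ LinearMap.mulRight k (σ (y : H)⁻¹))
    (fun τ y => c y ⟨ξ τ, hξ τ⟩) (fun τ τ' e' => ?_) (fun τ => σ (ξ τ)) (fun τ y => ?_)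
    fun τ => (σ' (ξ τ)).ne_zero
  · have := Fintype.ofFinite (R.map (QuotientGroup.mk' (center H)))
    have h1 := hli.fintype_card_le_finrank
    rw [finrank_linearMap, ← pow_two, ← Nat.card_eq_fintype_card] at h1
    omega
  · have hm : (ξ τ)⁻¹ * ξ τ' ∈ N := ⟨R.mul_mem (R.inv_mem (hξ τ)) (hξ τ'), fun y hy => by
      rw [map_mul, map_inv]
      refine commute_of_commutator_eq ?_
      rw [← map_commutatorElement, ← map_commutatorElement]
      exact Units.ext ((hc ⟨y, hy⟩ ⟨_, hξ τ⟩).trans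
        ((congrArg (· • (1 : End k W)) (congrFun e' ⟨y, hy⟩)).trans (hc ⟨y, hy⟩ ⟨_, hξ τ'⟩).symm))⟩
    exact Subtype.ext ((hξ' τ).symm.trans ((QuotientGroup.eq.2 (e hm)).trans (hξ' τ')))
  · have := hc y ⟨_, hξ τ⟩
    simp only [LinearMap.comp_apply, LinearMap.mulRight_apply, LinearMap.mulLeft_apply]
    rw [← map_mul, ← map_mul, show (y : H) * (ξ τ * (y : H)⁻¹) = ⁅(y : H), ξ τ⁆ * ξ τ by group,
      map_mul, this, smul_mul_assoc, one_mul]

end MR

section Wt
variable {k V : Type} [Field k] [AddCommGroup V] [Module k V] (ρ : Representation k H V)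
  (R : Subgroup H)

/-- The weight space of `R`. -/
abbrev W (χ : R → k) : Submodule k V := H22.wt (fun x : R => ρ x) χ

/-- The weights of `R` that occur. -/
def WL : Type := {χ : R → k // W ρ R χ ≠ ⊥}

variable {ρ R} [R.Normal]

theorem map_W (g : H) {χ : R → k} {v : V} (hv : v ∈ W ρ R χ) :
    ρ g v ∈ W ρ R fun x => χ (MulAut.conjNormal g⁻¹ x) := fun x => by
  rw [← map_smul, ← hv, ← End.mul_apply, ← End.mul_apply, ← map_mul, ← map_mul]
  simp [mul_assoc]

theorem inj (ρ : Representation k H V) (g : H) : Function.Injective (ρ g) :=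
  (ρ.apply_bijective g).1

instance : MulAction H (WL ρ R) where
  smul g χ := ⟨fun x => χ.1 (MulAut.conjNormal g⁻¹ x), by
    obtain ⟨v, hv, h0⟩ := Submodule.exists_mem_ne_zero_of_ne_bot χ.2
    exact (Submodule.ne_bot_iff _).2 ⟨_, map_W g hv, fun e => h0 (inj ρ g (by rw [e, map_zero]))⟩⟩
  one_smul χ := Subtype.ext (funext fun x => congrArg χ.1 (by simp))
  mul_smul g g' χ := Subtype.ext (funext fun x => congrArg χ.1 (by simp))

theorem smul_val (g : H) (χ : WL ρ R) (x : R) : (g • χ).1 x = χ.1 (MulAut.conjNormal g⁻¹ x) := rfl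

theorem mem_smul (g : H) {χ : WL ρ R} {v : V} (hv : v ∈ W ρ R χ.1) : ρ g v ∈ W ρ R (g • χ).1 :=
  map_W g hv

theorem smul_of_comm {g : H} (hg : ∀ x ∈ R, Commute g x) (χ : WL ρ R) : g • χ = χ :=
  Subtype.ext (funext fun x => congrArg χ.1 (Subtype.ext (by
    simp [(hg x x.2).inv_left.eq])))

omit [R.Normal] in
theorem indep : iSupIndep fun χ : WL ρ R => W ρ R χ.1 :=
  (H22.iSupIndep_wt _).comp Subtype.val_injective

variable [FiniteDimensional k V]

noncomputable instance : Fintype (WL ρ R) := (H22.iSupIndep_wt _).fintypeNeBotOfFiniteDimensional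

omit [R.Normal] in
theorem card_WL : Fintype.card (WL ρ R) ≤ finrank k V := by
  let _ := (H22.iSupIndep_wt fun x : R => ρ x).fintypeNeBotOfFiniteDimensional
  exact (H22.iSupIndep_wt fun x : R => ρ x).subtype_ne_bot_le_finrank

theorem finrank_smul (g : H) (χ : WL ρ R) :
    finrank k (W ρ R (g • χ).1) = finrank k (W ρ R χ.1) := by
  have key : ∀ (g : H) (χ : WL ρ R), finrank k (W ρ R χ.1) ≤ finrank k (W ρ R (g • χ).1) :=
    fun g χ => LinearMap.finrank_le_finrank_of_injective
      (f := (ρ g).restrict fun v hv => mem_smul g hv) fun a b e =>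
        Subtype.ext (inj ρ g (congrArg Subtype.val e))
  exact le_antisymm (by have := key g⁻¹ (g • χ); rwa [inv_smul_smul] at this) (key g χ)

end Wt

theorem smul_eq_of_permRep {k X : Type} [Field k] [MulAction H X] {g : H}
    (e : permRep k H X g = 1) (x : X) : g • x = x := by
  classical
  have := congrFun (LinearMap.congr_fun e (Pi.single x 1)) x
  rw [H90.permRep_apply, End.one_apply, Pi.single_eq_same] at this
  by_contra h
  rw [Pi.single_eq_of_ne (fun e' => h (inv_smul_eq_iff.1 e').symm)] at this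
  exact zero_ne_one this

theorem permRep_eq_one {k X : Type} [Field k] [MulAction H X] {g : H} (e : ∀ x : X, g • x = x) :
    permRep k H X g = 1 := by
  ext f x
  simp [inv_smul_eq_iff.2 (e x).symm]

end H71.AS
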