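/- ALTSEC tower, slot FT: the reduction of Feit and Tits. -/
import Cfsg.Agent.H71.ASK

set_option autoImplicit false

namespace H71.AS
open Equiv Module Subgroup Cfsg H40.AS
open scoped commutatorElement

variable {H : Type} [Group H] {r : ℕ} {π : H →* Perm (Fin r)}

/-- The bound for one group. -/
def SecF (π : H →* Perm (Fin r)) : Prop :=
  ∀ (p : ℕ) [Fact p.Prime] (k : Type) [Field k] [CharP k p]
    (V : Type) [AddCommGroup V] [Module k V] [FiniteDimensional k V] (ρ : Representation k H V),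
    (∀ h, ρ h = 1 → π h = 1) → bd p r ≤ finrank k V

/-- The bound for representations with a kernel. -/
def SecK (π : H →* Perm (Fin r)) : Prop :=
  ∀ (p : ℕ) [Fact p.Prime] (k : Type) [Field k] [CharP k p]
    (V : Type) [AddCommGroup V] [Module k V] [FiniteDimensional k V] (ρ : Representation k H V),
    (∀ h, ρ h = 1 → π h = 1) → (∃ h, h ≠ 1 ∧ ρ h = 1) → bd p r ≤ finrank k V

theorem bd_ge (p r : ℕ) : r - 2 ≤ bd p r := by unfold bd; split_ifs <;> omega
theorem bd_le (p r : ℕ) : bd p r ≤ r - 1 := by unfold bd; omega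

theorem sq_lt_two_pow {n : ℕ} (h : 5 ≤ n) : n ^ 2 < 2 ^ n := by
  induction n, h using Nat.le_induction with
  | base => norm_num
  | succ n h ih => rw [pow_succ 2 n]; nlinarith

section
variable {k V : Type} [Field k] [AddCommGroup V] [Module k V] [FiniteDimensional k V]
  [IsAlgClosed k] [Nontrivial V]

theorem exists_wt {S : Type} (f : S → End k V) (hc : ∀ s t, Commute (f s) (f t)) :
    ∃ χ, H22.wt f χ ≠ ⊥ := by
  obtain ⟨U, ⟨h0, hU⟩, hm⟩ := exists_minimal_of_wellFoundedLT
    (fun U : Submodule k V => U ≠ ⊥ ∧ ∀ s, ∀ v ∈ U, f s v ∈ U) ⟨⊤, top_ne_bot, fun _ _ _ => trivial⟩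
  have : Nontrivial U := Submodule.nontrivial_iff_ne_bot.2 h0
  have key : ∀ s, ∃ c, U ≤ (f s).eigenspace c := fun s => by
    obtain ⟨c, hc'⟩ := End.exists_eigenvalue ((f s).restrict (hU s))
    obtain ⟨v, hv⟩ := hc'.exists_hasEigenvector
    refine ⟨c, (hm (y := U ⊓ (f s).eigenspace c) ⟨(Submodule.ne_bot_iff _).2 ⟨v, ⟨v.2, ?_⟩,
      fun e => hv.2 (Subtype.ext e)⟩, fun t w hw => ⟨hU t w hw.1, ?_⟩⟩ inf_le_left).trans inf_le_right⟩
    · exact End.mem_eigenspace_iff.2 (congrArg Subtype.val hv.apply_eq_smul)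
    · refine End.mem_eigenspace_iff.2 ?_
      rw [← End.mul_apply, (hc s t).eq, End.mul_apply, End.mem_eigenspace_iff.1 hw.2, map_smul]
  choose χ hχ using key
  exact ⟨χ, fun e => h0 (eq_bot_iff.2 fun v hv =>
    e ▸ H22.mem_wt.2 fun s => End.mem_eigenspace_iff.1 (hχ s hv))⟩

theorem scalar_of_center {ρ : Representation k H V}
    (hirr : ∀ U : Submodule k V, (∀ g, U ≤ U.comap (ρ g)) → U = ⊥ ∨ U = ⊤) {z : H}
    (hz : z ∈ center H) : ∃ c : k, ρ z = c • 1 := by
  obtain ⟨c, hc⟩ := End.exists_eigenvalue (ρ z)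
  have := (hirr (End.eigenspace (ρ z) c) fun g v hv => End.mem_eigenspace_iff.2 (by
    rw [← End.mul_apply, ← map_mul, ← mem_center_iff.1 hz g, map_mul, End.mul_apply,
      End.mem_eigenspace_iff.1 hv, map_smul])).resolve_left hc
  exact ⟨c, LinearMap.ext fun v => End.mem_eigenspace_iff.1 (this ▸ Submodule.mem_top)⟩

theorem irr [Finite H] (h : Mn π) (h9 : 9 ≤ r) (hL : Lin r) (hSp : Spin r) (hK : SecK π)
    (p : ℕ) [Fact p.Prime] [CharP k p] (ρ : Representation k H V) (hf : ∀ g, ρ g = 1 → g = 1)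
    (hirr : ∀ U : Submodule k V, (∀ g, U ≤ U.comap (ρ g)) → U = ⊥ ∨ U = ⊤) :
    bd p r ≤ finrank k V := by
  have hinj : Function.Injective ρ := (injective_iff_map_eq_one ρ).2 hf
  by_cases hc : π.ker ≤ center H
  · by_cases h1 : ∀ z, π z = 1 → z = 1
    · obtain ⟨ρ', e⟩ := h.descend ρ fun y hy => by rw [h1 y hy, map_one]
      refine hL p k V ρ' fun g hg => ?_
      obtain ⟨x, rfl⟩ := h.surj g
      rw [hf x (e x ▸ hg), map_one]
    · push Not at h1
      obtain ⟨z, hz, h1⟩ := h1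
      have D := h.dc (by omega) hc hz h1
      obtain ⟨c, e⟩ := scalar_of_center hirr (hc hz)
      have e2 : c * c = 1 := by
        have := congrArg ρ D.zz
        rw [map_mul, map_one, e, smul_mul_smul_comm, mul_one] at this
        exact smul_left_injective k (one_ne_zero (α := End k V)) (this.trans (one_smul k _).symm)
      have e1 : c ≠ 1 := by
        rintro rfl
        exact h1 (hf z (by rw [e, one_smul]))
      obtain rfl := (mul_self_eq_one_iff.1 e2).resolve_left e1
      exact hSp H z π D p k (fun h2 => e1 (by linear_combination -h2)) V ρ (by rw [e, neg_one_smul])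
  obtain ⟨R, -, l, hR⟩ := exists_mr h inferInstance le_rfl hc
  have := hR.nm
  by_contra! hlt
  have hb := hR.card_bar (d := r - 2) fun l _ U _ _ _ σ a b => (bd_ge l r).trans (hK l _ U σ a b)
  have hd : finrank k V ≤ r - 2 := by have := bd_le p r; omega
  have hcm := hR.comm_of_small ρ (fun z _ hz => scalar_of_center hirr hz)
    ((Nat.pow_le_pow_left hd 2).trans_lt ((sq_lt_two_pow (by omega)).trans_le hb))
  have hcm' : ∀ x ∈ R, ∀ y ∈ R, Commute x y := fun x hx y hy =>
    hinj (by rw [map_mul, map_mul, (hcm y hy x (hR.le hx)).eq])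
  obtain ⟨χ, hχ⟩ := exists_wt (fun x : R => ρ x) fun s t => hcm t t.2 s (hR.le s.2)
  obtain ⟨x, hx, hxz⟩ := SetLike.not_le_iff_exists.1 hR.nc
  have hk : (permRep k H (WL ρ R)).ker ≤ π.ker := (h.dich _).resolve_right fun e => hxz (by
    have := (hirr (W ρ R χ) fun g v hv => by
      have h1 := mem_smul (χ := ⟨χ, hχ⟩) g hv
      have h2 := smul_eq_of_permRep (k := k) (X := WL ρ R)
        (e ▸ mem_top g : g ∈ (permRep k H (WL ρ R)).ker) ⟨χ, hχ⟩
      exact (congrArg (fun ψ : WL ρ R => ρ g v ∈ W ρ R ψ.1) h2).mp h1).resolve_left hχ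
    have e2 : ρ x = χ ⟨x, hx⟩ • 1 :=
      LinearMap.ext fun v => (this ▸ Submodule.mem_top : v ∈ W ρ R χ) ⟨x, hx⟩
    exact mem_center_iff.2 fun g => hinj (by rw [map_mul, map_mul, e2]; simp))
  have := hK p k _ (permRep k H (WL ρ R)) (fun g hg => hk hg)
    ⟨x, by rintro rfl; exact hxz (one_mem _), permRep_eq_one (smul_of_comm (hcm' x hx))⟩
  rw [finrank_fintype_fun_eq_card] at this
  have := card_WL (ρ := ρ) (R := R)
  omega

end

theorem closed [Finite H] (h : Mn π) (h9 : 9 ≤ r) (hL : Lin r) (hSp : Spin r) (hK : SecK π)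
    (p : ℕ) [Fact p.Prime] (k : Type) [Field k] [CharP k p] [IsAlgClosed k] (n : ℕ) :
    ∀ (V : Type) [AddCommGroup V] [Module k V] [FiniteDimensional k V] (ρ : Representation k H V),
      finrank k V = n → (∀ g, ρ g = 1 → π g = 1) → bd p r ≤ n := by
  induction n using Nat.strong_induction_on with
  | _ n ih =>
  intro V _ _ _ ρ hn hρ
  have hne : ρ.ker ≠ ⊤ := fun e => h.ker_ne (eq_top_iff.2 fun g _ => hρ g (e ▸ mem_top g : g ∈ ρ.ker))
  by_cases hirr : ∀ U : Submodule k V, (∀ g, U ≤ U.comap (ρ g)) → U = ⊥ ∨ U = ⊤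
  · by_cases hf : ∀ g, ρ g = 1 → g = 1
    · have : Nontrivial V := by
        by_contra e
        rw [not_nontrivial_iff_subsingleton] at e
        exact hne (eq_top_iff.2 fun g _ => Subsingleton.elim _ _)
      exact hn ▸ irr h h9 hL hSp hK p ρ hf hirr
    · push Not at hf
      obtain ⟨g, a, b⟩ := hf
      exact hn ▸ hK p k V ρ hρ ⟨g, b, a⟩
  push Not at hirr
  obtain ⟨U, hU, h0, h1⟩ := hirr
  have d1 : finrank k U < n := hn ▸ Submodule.finrank_lt h1
  have d2 : finrank k (V ⧸ U) < n := by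
    have := U.finrank_quotient_add_finrank
    have := Submodule.one_le_finrank_iff.2 h0
    omega
  rcases h.dich (ρ.subrepresentation U hU).ker with e1 | e1
  · exact (ih _ d1 U _ rfl fun g hg => e1 hg).trans d1.le
  rcases h.dich (ρ.quotient U hU).ker with e2 | e2
  · exact (ih _ d2 _ _ rfl fun g hg => e2 hg).trans d2.le
  exfalso
  have a1 : ∀ g, ∀ v ∈ U, ρ g v = v := fun g v hv => congrArg Subtype.val
    (LinearMap.congr_fun (e1 ▸ mem_top g : g ∈ (ρ.subrepresentation U hU).ker) ⟨v, hv⟩)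
  have a2 : ∀ g v, ρ g v - v ∈ U := fun g v => (Submodule.Quotient.eq U).1
    (LinearMap.congr_fun (e2 ▸ mem_top g : g ∈ (ρ.quotient U hU).ker) (Submodule.Quotient.mk v))
  have a3 : ∀ g g' v, ρ (g * g') v = ρ g v + ρ g' v - v := fun g g' v => by
    have := a1 g _ (a2 g' v)
    rw [map_sub, sub_eq_iff_eq_add] at this
    rw [map_mul, End.mul_apply, this]
    abel
  refine hne (eq_top_iff.2 ?_)
  rw [← h.perfect, _root_.commutator_def, commutator_le]
  intro a _ b _
  have : ρ (a * b) = ρ (b * a) := LinearMap.ext fun v => by rw [a3, a3, add_comm]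
  rw [MonoidHom.mem_ker, commutatorElement_def, mul_assoc, map_mul, this, ← map_mul]
  simp

theorem secK [Finite H] (h : Mn π)
    (ih : ∀ (H' : Type) [Group H'] [Finite H'] (π' : H' →* Perm (Fin r)),
      π'.range = alternatingGroup (Fin r) → Nat.card H' < Nat.card H → SecF π') : SecK π := by
  rintro p _ k _ _ V _ _ _ ρ hρ ⟨x, h1, hx⟩
  have hlt : Nat.card (H ⧸ ρ.ker) < Nat.card H := by
    have : Nontrivial ρ.ker := ⟨⟨x, hx⟩, 1, fun e => h1 (congrArg Subtype.val e)⟩
    have a1 : 1 < Nat.card ρ.ker := Finite.one_lt_card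
    have a2 : 0 < Nat.card (H ⧸ ρ.ker) := Nat.card_pos
    rw [card_eq_card_quotient_mul_card_subgroup ρ.ker]
    nlinarith
  refine ih (H ⧸ ρ.ker) _ (h.quot ρ.ker fun g hg => hρ g hg).range hlt p k V
    (QuotientGroup.lift ρ.ker ρ le_rfl) fun g hg => ?_
  obtain ⟨g, rfl⟩ := QuotientGroup.mk_surjective g
  exact hρ g hg

theorem jobFT : H40.AS.JobFT := by
  intro r h9 hL hSp
  have key : ∀ n, ∀ (H : Type) [Group H] [Finite H] (π : H →* Perm (Fin r)),
      π.range = alternatingGroup (Fin r) → Nat.card H < n → SecF π := by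
    intro n
    induction n with
    | zero => intro H _ _ π _ h; omega
    | succ n ih =>
      intro H _ _ π hπ hn p _ k _ _ V _ _ _ ρ hρ
      obtain ⟨L, h⟩ := exists_mn (by omega) hπ
      have hle := L.card_le_card_group
      have hK := secK h fun H' _ _ π' a b => ih H' π' a (by omega)
      have := closed h h9 hL hSp hK p (AlgebraicClosure k) _ _
        (H22.repBC (AlgebraicClosure k) (ρ.comp L.subtype)) rfl
        fun g hg => hρ g ((H22.repBC_eq_one_iff _ g).1 hg)
      rwa [finrank_baseChange] at this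
  intro H _ _ π hπ
  exact key _ H π hπ (Nat.lt_succ_self _)

end H71.AS
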