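import Cfsg.Agent.H86.SPGDef

/-! STD-SP, type I fusion: the first case `KA` does not occur. -/

set_option autoImplicit false
set_option linter.unusedSectionVars false

namespace H71.SpKA

open H67.UA hiding Par
open H67.SP H86.SPG
open H86.SPI (hf_comm hf_self q0_add q0_smul rt_add ac_TT)

universe u

variable {n : ℕ} {F : Type} [Field F] [StarRing F] [TrivialStar F] [CharP F 2] [Finite F]
  {G : Type u} [Group G] {e : XU n F →* G} {t : G} {δ : F} {r : Vn n F → F → F → G} {h : G}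

/-- `g` centralises `R`. -/
def Cen (r : Vn n F → F → F → G) (g : G) : Prop :=
  ∀ y a b, Hy y → g * r y a b * g⁻¹ = r y a b

/-- `k` is an involution that normalises `R`. -/
def Nm (r : Vn n F → F → F → G) (k : G) : Prop :=
  k * k = 1 ∧ ∀ y a b, Hy y → ∃ y' a' b', Hy y' ∧ k * r y a b * k⁻¹ = r y' a' b'

theorem Nm.cen {k g : G} (hk : Nm r k) (hg : Cen r g) : Cen r (k * g * k⁻¹) := fun y a b hy => by
  obtain ⟨y', a', b', h1, h2⟩ := hk.2 y a b hy
  have i : k⁻¹ = k := inv_eq_of_mul_eq_one_right hk.1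
  calc _ = k * (g * (k⁻¹ * r y a b * k⁻¹⁻¹) * g⁻¹) * k⁻¹ := by group
    _ = k * (k⁻¹ * r y a b * k⁻¹⁻¹) * k⁻¹ := by rw [i, i, ← i, i] at *; rw [h2, hg _ _ _ h1]
    _ = _ := by group

theorem Cen.mul {g g' : G} (hg : Cen r g) (hg' : Cen r g') : Cen r (g * g') := fun y a b hy => by
  rw [mul_inv_rev, mul_assoc g, ← mul_assoc, mul_assoc g, hg' y a b hy, hg y a b hy]

/-- the correspondence -/
def Psi (e : XU n F →* G) (t : G) (r : Vn n F → F → F → G) (h : G) (v w : Vn n F) : Prop :=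
  ∃ g, Ov e t g v ∧ Cen r g ∧ Ov e t (h * g * h⁻¹) w

variable [Par n F] (fh : FH n F) (aw : AW e t) (rm : RM e t δ r h) (nk : NK e t r)

include fh rm in
theorem nm_h : Nm r h := ⟨rm.hh, fun y a b hy => ⟨_, _, _, hy_add hy (hy_smul _ fh.e1.1), rm.hr y a b hy⟩⟩

include nk in
theorem Psi.add {v w v' w' : Vn n F} : Psi e t r h v w → Psi e t r h v' w' →
    Psi e t r h (v + v') (w + w')
  | ⟨g, a, b, c⟩, ⟨g', a', b', c'⟩ => ⟨g * g', nk.mul _ _ _ _ a a', b.mul b', by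
    have := nk.mul _ _ _ _ c c'
    rwa [conj_mul] at this⟩

include fh rm in
theorem Psi.symm {v w : Vn n F} : Psi e t r h v w → Psi e t r h w v
  | ⟨g, a, b, c⟩ => ⟨_, c, (nm_h fh rm).cen b, by
    have i : h⁻¹ = h := inv_eq_of_mul_eq_one_right rm.hh
    rwa [show h * (h * g * h⁻¹) * h⁻¹ = h * h * g * (h * h)⁻¹ by group, rm.hh, one_mul, inv_one,
      mul_one]⟩

include fh rm nk in
theorem Psi.zero {w : Vn n F} : Psi e t r h 0 w → w = 0
  | ⟨g, a, b, c⟩ => by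
    obtain ⟨y, p, q, hy, rfl | rfl⟩ := nk.zero g a
    · rw [rm.hr y p q hy] at c
      exact nk.uq _ _ _ c (nk.or _ _ _ (hy_add hy (hy_smul _ fh.e1.1)))
    · have := b 0 0 1 hy_zero
      rw [mul_assoc t, rm.mul _ _ _ _ _ _ hy hy_zero, add_comm y, add_comm p, add_comm q,
        ← rm.mul _ _ _ _ _ _ hy_zero hy, mul_inv_rev, ← mul_assoc, mul_assoc t,
        mul_inv_cancel_right, rm.tc _ _ _ hy_zero] at this
      simpa using (nk.rinj _ _ _ _ _ _ hy_zero hy_zero this).2.1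

include fh rm nk in
theorem Psi.uq {v w w' : Vn n F} (a : Psi e t r h v w) (b : Psi e t r h v w') : w = w' := by
  have := a.add nk b
  rw [v_add_self] at this
  rw [← add_zero w, ← v_add_self w', ← add_assoc, this.zero fh rm nk, zero_add]

include fh aw rm nk in
theorem psi_ex (ka : KA e t r) {v : Vn n F} (hv : Hy v) (h1 : hf v (ev 1) = 0) :
    ∃ w, Psi e t r h v w := by
  obtain ⟨g, a, b⟩ := ka v hv h1
  have b' := (nm_h fh rm).cen b
  have i : h⁻¹ = h := inv_eq_of_mul_eq_one_right rm.hh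
  have it : t⁻¹ = t := inv_eq_of_mul_eq_one_right aw.tt
  obtain ⟨c, e1⟩ := a.tr
  obtain ⟨y, p, hy, e2⟩ := nk.tv g v (ev 1) a fh.e1.1 (by rw [hf_comm, h1])
  have hy1 := hy_add hv hy
  obtain ⟨y2, p2, q2, hy2, e3⟩ := (nm_h fh rm).2 (v + y) (rt (q0 v + c) + p + (0 + 0)) (0 + 0) hy1
  have e4 : h * g * h⁻¹ * t * (h * g * h⁻¹)⁻¹ = r y2 p2 q2 * t := by
    calc _ = h * (g * (h⁻¹ * t * h⁻¹⁻¹) * g⁻¹) * h⁻¹ := by group
      _ = h * (g * t * g⁻¹ * (g * e (TT (ev 1)) * g⁻¹)) * h⁻¹ := by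
        rw [inv_inv, ← i, inv_inv, rm.ht]; group
      _ = h * (t * r (v + y) (rt (q0 v + c) + p) (0 + 0) * t⁻¹) * h⁻¹ *
          (h * (t * e (TT (ev 1))) * h⁻¹) := by
        rw [e1, e2, nk.qr v c hv, ← rm.mul _ _ _ _ _ _ hv hy]; group
      _ = _ := by
        rw [rm.tc _ _ _ hy1, e3, ← rm.ht,
          show h * (h * t * h⁻¹) * h⁻¹ = h * h * t * (h * h)⁻¹ by group, rm.hh]
        simp
  have e5 : q2 = 0 := by
    have : r y2 p2 q2 * (t * r y2 p2 q2 * t⁻¹) = r 0 0 0 := by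
      rw [nk.one, it, ← mul_assoc, ← mul_assoc, mul_assoc _ _ t, ← e4, conj_mul, aw.tt]; simp
    rw [rm.tc _ _ _ hy2, rm.mul _ _ _ _ _ _ hy2 hy2] at this
    have := (nk.rinj _ _ _ _ _ _ (hy_add hy2 hy2) hy_zero this).2.1
    rwa [← add_assoc, CharTwo.add_self_eq_zero, zero_add] at this
  subst e5
  refine ⟨y2, g, a, b, hy2, fun c => ?_, fun y c hy => ⟨c, ?_⟩, q0 y2 + p2 ^ 2, ?_⟩
  · rw [show Tc c (ev 0 : Vn n F) = EE (ev 0) 0 c from rfl, nk.qr 0 c hy_zero, b' _ _ _ hy_zero]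
  · rw [nk.qr y c hy, b' _ _ _ hy]
  · have := rm.tc y2 p2 0 hy2
    rw [add_zero, mul_inv_eq_iff_eq_mul] at this
    rw [e4, ← rm.q _ _ hy2, this]

include fh aw rm nk in
theorem Psi.cj {z w y : Vn n F} (hy : Hy y) (h1 : hf y (ev 1) = 0) : Psi e t r h z w →
    Psi e t r h (ac (TT y) z) (ac (TT (y + (1 + rt (q0 y)) • ev 1)) w)
  | ⟨g, a, b, c⟩ => by
    have key : ∀ {v x : Vn n F} {k : G}, Hy v → Ov e t k x →
        Ov e t (t * e (TT v) * k * (t * e (TT v))⁻¹) (ac (TT v) x) := fun {v x k} hv hk => by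
      have := nk.mul _ _ _ _ (nk.mul _ _ _ _ nk.ot (nk.cj k x _ (fh.tt v hv) hk)) (nk.inv _ _ nk.ot)
      rw [zero_add, add_zero] at this
      convert this using 1; group
    refine ⟨_, key hy a, Nm.cen ⟨?_, fun x p q hx => ?_⟩ b, ?_⟩
    · rw [mul_assoc, ← mul_assoc (e _), ← aw.cen, mul_assoc, ← map_mul,
        Tc_mul_self (hf_self y) (star_one F), map_one, mul_one, aw.tt]
    · have hx' := hy_add hx (hy_smul (hf x y + q * rt (q0 y) + q) hy)
      have := congrArg (fun z => t * z * t⁻¹) (rm.tt y x p q hy hx)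
      simp only [rm.tc _ _ _ hx'] at this
      exact ⟨_, _, _, hx', Eq.trans (by group) this⟩
    · have := key (hy_add hy (hy_smul (1 + rt (q0 y)) fh.e1.1)) c
      rw [← rm.hv y hy h1] at this
      convert this using 1; group

include fh aw rm nk in
theorem psi_line (ka : KA e t r) {y : Vn n F} (hy : Hy y) (h1 : hf y (ev 1) = 0)
    (li : Li y (ev 1)) {a : F} (ha : a ≠ 0) :
    ∃ c : F, c ≠ 0 ∧ Psi e t r h (a • y) (c • (y + (1 + rt (q0 y)) • ev 1)) := by
  obtain ⟨z, hz, e1, e2⟩ := fh.sep2 y (ev 1) hy fh.e1.1 li a 0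
  obtain ⟨w, hw⟩ := psi_ex fh aw rm nk ka hz e2
  have := hw.add nk (hw.cj fh aw rm nk hy h1)
  rw [ac_TT, ac_TT, ← add_assoc, ← add_assoc, v_add_self, v_add_self, zero_add, zero_add,
    e1] at this
  refine ⟨_, fun h0 => ha ?_, this⟩
  rw [h0, zero_smul] at this
  exact (li a 0 (by rw [(this.symm fh rm).zero fh rm nk, zero_smul, add_zero])).1

theorem jobKA : JobKA.{u} := by
  intro n F _ _ _ _ _ _ G _ _ e t b fc fh aw δ r h rm nk ka
  have one : ∀ a : F, a ≠ 0 → a = 1 := fun a ha => by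
    obtain ⟨h1, h2, h3⟩ := fh.e2
    obtain ⟨c, hc, p⟩ := psi_line fh aw rm nk ka h1 h2 h3 ha
    obtain ⟨c', hc', p'⟩ := psi_line fh aw rm nk ka (hy_smul a h1)
      (by rw [hf_smul_left, h2, mul_zero]) (fun x y k => by
        have := h3 (x * a) y (by rwa [mul_smul])
        exact ⟨(mul_eq_zero.1 this.1).resolve_right ha, this.2⟩) one_ne_zero
    rw [one_smul] at p'
    have k := p.uq fh rm nk p'
    have er : rt (q0 (a • (ev 2 : Vn n F))) = a * rt (q0 (ev 2 : Vn n F)) :=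
      sq_inj (by rw [rt_sq, mul_pow, rt_sq, q0_smul])
    rw [er] at k
    obtain ⟨k1, k2⟩ := h3 (c - c' * a) (c * (1 + rt (q0 (ev 2 : Vn n F))) -
      c' * (1 + a * rt (q0 (ev 2 : Vn n F)))) (by linear_combination (norm := module) k)
    exact mul_left_cancel₀ hc' (by linear_combination k2 - (1 + rt (q0 (ev 2 : Vn n F))) * k1)
  obtain ⟨s, s', hs, hs', p1, p2, p3, li⟩ := fh.iso3 (Nat.card_eq_two_iff' (0 : F) |>.2
    ⟨1, one_ne_zero, one⟩) _ fh.e1.1 fh.e1.2.1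
  have ln : ∀ {y : Vn n F}, Hy y → hf y (ev 1) = 0 → Li y (ev 1) →
      Psi e t r h y (y + (1 + rt (q0 y)) • ev 1) := fun hy h1 l => by
    obtain ⟨c, hc, p⟩ := psi_line fh aw rm nk ka hy h1 l one_ne_zero
    rwa [one c hc, one_smul, one_smul] at p
  have a1 := ln hs p1 fun x y k => by
    have := li y x 0 (by rw [zero_smul, add_zero, add_comm, k]); exact ⟨this.2.1, this.1⟩
  have a2 := ln hs' p2 fun x y k => by
    have := li y 0 x (by rw [zero_smul, add_zero, add_comm, k]); exact ⟨this.2.2, this.1⟩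
  have a3 := ln (hy_add hs hs') (by rw [hf_add_left, p1, p2, add_zero]) fun x y k => by
    have := li y x x (by rw [add_assoc, ← smul_add, add_comm, k]); exact ⟨this.2.2, this.1⟩
  have k := (a1.add nk a2).uq fh rm nk a3
  rw [q0_add, p3, add_zero, rt_add] at k
  exact fh.e1.2.1 (by linear_combination (norm := module) k)

end H71.SpKA
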