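import Cfsg.Agent.H71.ONLP
import Cfsg.Agent.H71.ONLS0
import Cfsg.Agent.H71.ONLS1
set_option maxRecDepth 1000000
set_option Elab.async false
namespace H71.ONL
def steps0_0 : List ℕ := [3,16387,32771,49155,65539,81923,0,12,16,20,24,28,0,4,8,12,16,20,24,28,0,4,8,12,16,20,24,28,0,4,8,12,16,20,24,28,0,4,8,12,16,20,24,98331,131103,196643,18,1,5,9,13,6,17,21,25,29,33,9,37,41,45,49,53,10,21,57,61,65,69,29,9,45,73,6,13,6,17,53,10,61,77,65,81,69,25,85,29,89,33,93,9,41,97,49,101,105,2,21,109,57,147487,22,45,113,73,6,13,6,17,61,65,81,69,29,89,9,49,53,10,21,117,121,57,25,45,73,6,13,6,101,125,129,61,65,69,25,85,29,1,33,9,41,49,133,17,109,137,141,26,145,149,25,33,41,13,6,17,21,109,153,22,113,53,10,77,25,89,9,37,97,45,49,13,6,21,57,157,2,141,26,161,129,165,18,25,33,37,41,169,109,149,1,5,33,93,97,45,113,61,77,81,69,25,29,89,5,9,41,49,13,6,133,17,21,173,117,109,57,141,26,177,22,65,25,33,9,41,45,113,73,6,13,6,133,21,109,125,137,61,69,85,9,113,49,13,6,133,17,21,121,57,181,2,129,165,18,185,61,65,69,25,33,9,37,41,45,73,6,13,6,101,169,189,1,37,97,77,85,5,93,165]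
theorem run0 : tcRun A 2 0 rules hs (steps0_0) (eqSt D1 K1) D0 K0 = true := by decide +kernel
def steps1_0 : List ℕ := [18,37,169,29,1,93,97,73,6,173,193,2,197,149,201,18,37,97,77,5,81,25,89,33,93,9,37,41,53,10,173,117,169,121,109,57,205,2,157,2,209,14,213,2,217,2,165,18,221,22,225,229,6,233,6,237,37,97,73,6,13,6,169,1,73,6,61,77,5,65,93,13,6,61,69,53,10,101,125,213,2,177,241,22,185,245,18,61,65,69,85,1,73,6,13,6,105,2,109,189,69,37,53,10,77,5,97,113,13,6,101,89,93,41,117,169,137,157,2,249,2,161,129,165,237,25,5,33,37,105,2,109,149,81,25,89,33,93,97,113,73,6,173,125,141,26,253,6,257,2,261,2,265,22,114719,22,180263,14,73,6,13,6,269,2,105,2,163871,26,89,33,41,113,109,57,137,161,145,213,2,149,241,22,233,6,273,2,277,26,281,2,285,22,289,26,261,2,81,25,89,33,37,41,113,73,6,13,6,269,2,105,2,109,137,153,22,129,81,25,89]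
theorem run1 : tcRun A 2 0 rules hs (steps1_0) (eqSt D2 K2) D1 K1 = true := by decide +kernel
def steps2_0 : List ℕ := [33,41,97,113,109,57,141,26,229,6,33,41,73,6,109,113,65,89,33,73,6,13,6,17,125,249,2,181,2,293,2,161,145,129,285,22,297,22,81,89,113,13,6,109,25,37,113,73,6,149,81,89,33,9,41,97,45,49,73,6,109,125,57,137,141,26,161,213,2,301,177,22,229,6,233,6,305,22,281,2,289,26,261,2,33,37,41,97,73,6,13,6,105,2,137,77,81,25,29,89,33,9,37,97,13,6,133,17,21,109,125,153,161,145,129,81,25,89,37,113,13,6,125,137,29,33,9,41,97,45,113,73,6,13,6,17,121,109,141,26,149,225,241,22,237,81,25,89,33,9,41,113,53,10,125,137,141,26,161,145,129,25,33,41,45,49,13,6,17,21,137,9,45,49,133,21,29,9,73,6,13,6,17,57,149,53,25,1,5,93,173,309,14,285,22,313,26,81,89,5,33,37,41,113,121,109,125,57,137,129,177,22,37,97,61,77,65,81,69,25,1,89,33,9,41,45,113,13,6,105,2,21,169,109,137,249,2,213,2,229]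
theorem run2 : tcRun A 2 0 rules hs (steps2_0) (eqSt D3 K3) D2 K2 = true := by decide +kernel
def steps3_0 : List ℕ := [6,185,317,18,321,2,325,18,273,2,73,6,13,6,133,105,2,129,61,77,65,81,69,25,85,1,5,33,9,41,113,73,6,13,6,133,117,169,121,329,18,161,145,197,149,221,233,6,333,2,281,2,289,26,61,65,69,25,89,5,33,93,37,97,53,10,73,6,13,6,133,105,2,169,109,137,129,61,65,69,25,85,1,89,5,33,93,37,41,113,73,6,13,6,133,17,21,117,109,249,2,145,65,81,69,89,113,73,6,13,6,105,2,129,61,77,65,25,97,53,337,30,125,137,141,26,161,213,2,149,301,165,18,229,6,233,6,321,2,273,2,289,26,297,22,33,37,97,53,10,73,6,13,6,105,2,169,109,137,161,145,129,77,81,25,1,89,5,93,37,113,13,6,133,105,2,17,21,173,121,125,141,26,197,149,61,65,69,25,85,33,37,41,97,73,6,13,6,169,109,137,153,61,77,65,1,5,93,9,113,49,53,13,6,133,173,233,6,61,65,69,25,37,73,6,13,6,101,17,117,161,145,213,2,129,241,22,325,18,61,89,13,6]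
theorem run3 : tcRun A 2 0 rules hs (steps3_0) (eqSt D4 K4) D3 K3 = true := by decide +kernel
end H71.ONL
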