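import Cfsg.Agent.H71.ONLP
import Cfsg.Agent.H71.ONLS1
import Cfsg.Agent.H71.ONLS2
import Cfsg.Agent.H71.ONLT0
set_option maxRecDepth 1000000
set_option Elab.async false
namespace H71.ONL
def steps4_0 : List ℕ := [105,2,125,65,81,69,25,85,33,37,41,97,113,73,6,13,6,133,169,109,57,137,157,2,161,145,165,18,1,89,5,93,37,97,113,53,10,21,117,169,121,77,65,69,85,1,5,93,73,6,13,6,61,65,81,89,9,49,53,10,117,141,26,77,69,25,85,1,33,37,41,97,45,73,6,13,6,133,17,173,169,109,57,157,2,161,197,149,217,2,129,177,22,165,18,241,22,229,6,189,317,18,233,6,321,2,325,18,341,2,285,22,289,26,61,65,81,69,89,33,37,97,113,53,10,73,6,13,6,133,117,169,109,125,137,329,18,81,25,85,1,5,93,37,97,113,13,6,173,61,65,69,25,29,89,33,41,73,6,13,6,133,105,2,17,117,121,109,329,18,209,14,141,26,161,145,149,129,345,22,65,81,69,25,85,1,89,5,33,93,9,37,97,113,73,6,101,21,125,213,2,197,201,18,241,22,325,18,61,77,81,89,37,97,73,6,13,6,105,2,169,65,25,1,5,93,41,109,157,2,141,26,145,245,18,77,81,69,89,33,37,97,113,13,6,133,61,77,65,25,85,41]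
theorem run4 : tcRun A 2 0 rules hs (steps4_0) (eqSt D5 K5) D4 K4 = true := by decide +kernel
def steps5_0 : List ℕ := [45,49,73,6,13,6,133,17,173,117,169,121,57,249,2,293,2,161,197,149,217,2,301,129,229,6,349,22,317,18,233,6,237,321,2,333,2,273,2,281,2,285,22,257,2,297,22,261,2,265,22,89,113,53,10,73,6,13,6,105,2,153,22,77,65,69,25,85,1,5,33,93,37,97,269,2,173,109,141,26,161,145,129,65,81,69,25,89,33,37,41,113,73,6,13,6,133,117,109,137,197,97,113,61,77,65,81,69,25,85,1,89,5,33,93,37,49,73,6,13,6,133,17,169,121,109,125,57,157,2,249,2,141,26,161,213,2,149,129,353,18,241,22,305,22,285,22,81,25,89,33,37,97,113,73,6,13,6,105,2,77,65,1,5,93,9,37,41,45,53,10,73,6,13,6,21,109,125,329,18,149,245,18,77,81,69,37,97,113,49,13,6,133,109,57,141,26,197,77,25,85,33,37,97,73,6,17,169,209,14,181,2,161,145,301,349,22,325,18,61,77,81,1,89,5,33,93,37,41,173,69,1]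
theorem run5 : tcRun A 2 0 rules hs (steps5_0) (eqSt D6 K6) D5 K5 = true := by decide +kernel
def steps6_0 : List ℕ := [5,33,97,113,73,6,13,6,133,109,137,309,14,145,229,6,189,233,6,357,18,281,2,289,26,313,26,297,22,61,65,81,25,1,89,33,37,97,113,73,6,13,6,109,137,77,93,37,41,113,53,10,13,6,133,105,2,17,21,173,169,121,125,57,141,26,145,197,149,217,2,129,77,81,69,25,1,33,37,73,6,13,6,133,105,2,61,85,89,5,93,9,41,97,109,57,205,2,153,22,141,26,293,2,161,213,2,149,301,177,22,165,18,241,22,185,317,18,321,2,77,81,89,33,37,41,97,113,13,6,105,2,77,65,93,53,10,73,6,21,117,169,197,349,22,257,2,265,22,77,65,81,25,97,113,73,6,13,6,269,2,133,105,2,109,89,33,113,53,10,193,2,157,2,145,129,189,245,18,361,14,333,2,77,81,25,89,37,13,6,121,97,77,69,33,37,41,45,113,53,73,6,269,2,105,2,125,137,365,2,249,2,141,26,309,14,213,2,149,217,2,369,22,225,373,6,253,6,233,6,237]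
theorem run6 : tcRun A 2 0 rules hs (steps6_0) (eqSt D7 K7) D6 K6 = true := by decide +kernel
def steps7_0 : List ℕ := [377,2,357,18,341,2,381,18,385,18,305,22,285,22,289,26,313,26,297,22,261,2,81,113,13,6,105,2,109,89,113,53,10,73,6,77,81,25,33,37,97,109,81,69,85,1,5,37,41,73,6,169,125,157,2,249,2,141,26,213,2,197,129,345,22,229,6,185,317,18,89,33,97,81,37,41,13,6,105,2,109,125,57,153,77,65,25,89,93,113,73,6,13,6,389,2,293,2,149,217,2,281,2,265,22,33,113,73,6,13,6,105,2,81,5,209,14,141,26,129,25,89,33,57,149,93,41,113,141,197,301,201,18,349,22,237,305,22,81,37,97,113,125,89,93,309,145,313,26,65,89,5,33,125,57,141,26,129,297,22,65,25,89,113,41,141,26,41,193,2,329,18,205,2,153,22,249,2,393,10,353,373,6,241,22,253,6,245,18,397,14,325,18,273,2,289,257,2,313,26,65,69,33,37,41,73]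
theorem run7 : tcRun A 2 0 rules hs (steps7_0) (eqSt D8 K8) D7 K7 = true := by decide +kernel
end H71.ONL
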