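import Cfsg.Agent.H71.ONLP
import Cfsg.Agent.H71.ONLS2
import Cfsg.Agent.H71.ONLS3
import Cfsg.Agent.H71.ONLT1
set_option maxRecDepth 1000000
set_option Elab.async false
namespace H71.ONL
def steps8_0 : List ℕ := [6,13,6,105,2,85,97,145,117,169,213,2,197,301,325,18,297,22,89,5,33,93,97,113,73,6,13,6,121,109,33,73,6,157,2,73,6,13,6,269,2,229,6,361,14,309,14,89,93,89,401,14,89,5,33,173,121,309,14,301,93,89,33,209,14,65,81,89,5,93,13,6,173,121,157,2,145,129,61,77,65,81,69,25,1,89,33,37,97,53,10,73,6,13,6,101,117,309,14,77,65,81,25,1,89,5,33,37,173,169,121,293,2,145,197,301,129,321,2,93,53,10,73,6,173,117,329,18,205,2,153,22,61,65,69,25,85,89,5,37,73,6,13,6,133,329,18,141,26,65,81,69,1,5,33,13,6,101,61,77,81,25,85,89,93,37,41,97,113,73,6,173,117,121,57,137,157,2,61,65,81,69,25,85,5,33,93,37,49,53,10,73,6,13,6,133,105,2,169,109,193,2,329,18,205,2,153,22,209,14,249,2,141,26,161,145,197,149,217,2,301,129,177,22,165,18,241,22,229,6,189,257,2,61,65,69,25,85,1,89,5,33,93,37,41,97,73,6,13,6]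
theorem run8 : tcRun A 2 0 rules hs (steps8_0) (eqSt D9 K9) D8 K8 = true := by decide +kernel
def steps9_0 : List ℕ := [133,105,2,173,169,109,329,18,153,22,145,129,61,65,81,69,25,85,1,89,5,33,93,37,113,49,73,6,13,6,133,117,125,137,153,22,141,26,197,77,69,25,89,5,33,37,41,97,13,6,169,109,57,249,2,161,145,149,61,65,81,69,85,1,89,5,33,93,37,113,49,73,6,13,6,133,17,173,117,121,125,329,18,153,22,157,2,129,165,18,61,65,69,25,85,5,37,97,73,6,13,6,133,329,18,153,22,209,14,149,65,69,25,1,89,5,33,93,37,41,97,45,13,6,101,173,169,109,293,2,161,213,2,301,241,22,189,233,6,245,18,61,77,65,81,25,1,89,5,33,93,37,41,97,113,53,10,73,6,13,6,133,173,117,169,121,109,329,18,205,2,153,22,157,2,141,26,309,14,145,197,61,65,81,69,25,85,1,89,5,33,93,9,37,97,73,6,13,6,133,173,329,18,153,22,129,77,65,69,25,29,1,89,5,37,41,73,6,13,6,133,117,169,121,109,161,301,165,18,61,77,65,81,25,85,1,89,5,33,93,37,97,45,113,73,6,13,6,133,173,169,121,157,2,209,14,181,2,293,2,145]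
theorem run9 : tcRun A 2 0 rules hs (steps9_0) (eqSt D10 K10) D9 K9 = true := by decide +kernel
def steps10_0 : List ℕ := [197,149,345,22,233,6,245,18,357,18,61,77,65,81,69,25,85,1,5,33,37,41,97,53,10,73,6,13,6,133,117,169,329,18,153,22,141,26,301,69,89,5,93,173,121,61,77,65,81,69,25,85,1,89,5,33,9,37,97,73,6,13,6,133,117,109,329,18,153,22,157,2,209,14,141,26,309,14,161,145,165,18,241,22,65,81,25,1,89,5,33,93,37,41,97,113,173,169,121,61,77,81,69,1,89,73,6,13,6,133,173,117,125,197,149,301,77,81,69,25,85,89,5,33,93,37,97,113,73,6,121,109,157,2,145,321,2,61,65,81,69,25,29,1,89,5,33,37,41,113,53,10,73,6,13,6,133,105,2,173,117,329,18,153,22,209,14,141,26,309,14,217,2,129,165,18,345,22,241,22,229,6,189,317,18,61,77,65,81,69,25,85,1,89,5,33,93,37,41,97,73,6,13,6,133,173,169,121,109,153,22,61,77,65,81,69,25,85,1,89,5,33,93,37,113,73,6,13,6,133,173,117,329,18,157,2,209,14,141,26,161,145,197,301,165,18,233,6,61]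
theorem run10 : tcRun A 2 0 rules hs (steps10_0) (eqSt D11 K11) D10 K10 = true := by decide +kernel
def steps11_0 : List ℕ := [77,65,81,69,25,85,1,89,5,33,93,37,41,97,45,73,6,13,6,133,173,169,121,109,153,22,61,77,65,81,25,1,89,5,33,93,37,73,6,13,6,133,157,2,309,14,161,149,245,18,61,77,65,81,69,25,85,1,89,5,33,93,9,37,41,97,73,6,13,6,133,173,117,169,121,109,125,137,153,22,157,2,249,2,141,26,181,2,161,145,213,2,197,301,129,177,22,165,18,241,22,229,6,189,233,6,361,14,341,2,61,65,25,1,89,5,33,93,37,97,113,53,10,73,6,173,121,61,77,81,25,1,89,5,41,73,6,13,6,133,117,109,77,65,81,69,25,85,29,1,89,5,33,93,37,97,113,73,6,13,6,133,173,169,121,329,18,157,2,209,14,141,26,181,2,161,145,213,2,197,149,301,129,165,18,345,22,225,229,6,317,18,233,6,237,397,14,357,18,321,2,61,81,25,1,89,33,37,97,53,10,169,61,77,65,81,69,25,1,89,5,33,9,37,41,73,6,13,6,133,109,157,2,161,129,77,65,81,69]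
theorem run11 : tcRun A 2 0 rules hs (steps11_0) (eqSt D12 K12) D11 K11 = true := by decide +kernel
end H71.ONL
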