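/- Job MEv1 of `blueprints/LD4.md`: configurations in groups of rank one in characteristic two. -/
import Cfsg.Agent.H20.LD4Spec
import Cfsg.Agent.H86.UH
import Cfsg.Agent.H66.SzTri
import Cfsg.Agent.H66.SzInst
import Cfsg.Agent.H73.EXA1

set_option autoImplicit false

namespace H71.LDEv

open Cfsg H20.LD Matrix
open scoped MatrixGroups

section abstract

variable {Γ K : Type*} [Group Γ] [Field K] {u : K → Γ} {g : Γ} {x : K}

theorem cp_succ (g : Γ) (i : ℕ) (a : Γ) : cp g (i + 1) a = g * cp g i a * g⁻¹ := by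
  simp [cp, pow_succ', mul_assoc]

theorem cp_u (hg : ∀ t, g * u t * g⁻¹ = u (x * t)) (i : ℕ) : cp g i (u 1) = u (x ^ i) := by
  induction i with
  | zero => simp [cp]
  | succ i ih => rw [cp_succ, ih, hg, pow_succ']

theorem e87 (hu : ∀ s t, u s * u t = u (s + t)) (h1 : u 1 ≠ 1) (h2 : u 1 * u 1 = 1)
    (hg : ∀ t, g * u t * g⁻¹ = u (x * t)) (hx : x ^ 3 = 1 + x) : E87 Γ := by
  have c : ∀ s t, Commute (u s) (u t) := fun s t => by rw [Commute, SemiconjBy, hu, hu, add_comm]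
  refine ⟨u 1, g, h1, h2, ?_, ?_, ?_⟩ <;> simp only [cp_u hg]
  exacts [c _ _, c _ _, by rw [hu, hx, pow_one]]

theorem e15 (hu : ∀ s t, u s * u t = u (s + t)) (h1 : u 1 ≠ 1) (h2 : u 1 * u 1 = 1)
    (hg : ∀ t, g * u t * g⁻¹ = u (x * t)) (hx : x ^ 4 = 1 + x) : E15 Γ := by
  have c : ∀ s t, Commute (u s) (u t) := fun s t => by rw [Commute, SemiconjBy, hu, hu, add_comm]
  refine ⟨u 1, g, h1, h2, ?_, ?_, ?_, ?_⟩ <;> simp only [cp_u hg]
  exacts [c _ _, c _ _, c _ _, by rw [hu, hx, pow_one]]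

end abstract

section fields

variable {K : Type*} [Field K] [Fintype K]

theorem exists_order {n : ℕ} (hK : Fintype.card K = n + 1) : ∃ y : K, orderOf y = n := by
  obtain ⟨y, hy⟩ := IsCyclic.exists_ofOrder_eq_natCard (α := Kˣ)
  rw [Nat.card_units, Nat.card_eq_fintype_card, hK] at hy
  exact ⟨y, by rw [orderOf_units, hy]; rfl⟩

theorem root8 (h2 : (2 : K) = 0) (hK : Fintype.card K = 8) : ∃ x : K, x ^ 3 = 1 + x := by
  obtain ⟨y, hy⟩ := exists_order (n := 7) hK
  have h7 : y ^ 7 = 1 := hy ▸ pow_orderOf_eq_one y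
  have h1 : y - 1 ≠ 0 := fun e => by
    rw [sub_eq_zero.1 e, orderOf_one] at hy
    omega
  have h3 : (y ^ 3 - (1 + y)) * ((y ^ 6) ^ 3 - (1 + y ^ 6)) * y ^ 3 = 0 :=
    mul_left_cancel₀ h1 (by grind)
  have h0 : y ≠ 0 := fun e => by simp [e] at h7
  rcases mul_eq_zero.1 ((mul_eq_zero.1 h3).resolve_right (pow_ne_zero 3 h0)) with h | h
  exacts [⟨_, sub_eq_zero.1 h⟩, ⟨_, sub_eq_zero.1 h⟩]

theorem root16 (h2 : (2 : K) = 0) (hK : Fintype.card K = 16) : ∃ x : K, x ^ 4 = 1 + x := by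
  obtain ⟨y, hy⟩ := exists_order (n := 15) hK
  have h7 : y ^ 15 = 1 := hy ▸ pow_orderOf_eq_one y
  have h1 : ∀ k, ¬ 15 ∣ k → y ^ k - 1 ≠ 0 := fun k hk e =>
    hk (hy ▸ orderOf_dvd_of_pow_eq_one (sub_eq_zero.1 e))
  have h3 : (y ^ 4 - (1 + y)) * ((y ^ 14) ^ 4 - (1 + y ^ 14)) * y ^ 4 = 0 :=
    mul_left_cancel₀ (mul_ne_zero (h1 5 (by norm_num)) (h1 3 (by norm_num))) (by grind)
  have h0 : y ≠ 0 := fun e => by simp [e] at h7
  rcases mul_eq_zero.1 ((mul_eq_zero.1 h3).resolve_right (pow_ne_zero 4 h0)) with h | h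
  exacts [⟨_, sub_eq_zero.1 h⟩, ⟨_, sub_eq_zero.1 h⟩]

theorem exists_sqrt (h2 : (2 : K) = 0) (x : K) : ∃ c : K, c * c = x :=
  Finite.injective_iff_surjective.1 (fun a b (h : a * a = b * b) => by
    have : (a - b) ^ 2 = 0 := by linear_combination h + (b * b - a * b) * h2
    exact sub_eq_zero.1 (pow_eq_zero_iff two_ne_zero |>.1 this)) x

end fields

section psl

variable {K : Type} [Field K] [Fintype K]

/-- the unitriangular matrices -/
def us (t : K) : SL(2, K) := ⟨!![1, t; 0, 1], by simp [det_fin_two]⟩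

/-- the diagonal matrices -/
def ds (c : K) (hc : c ≠ 0) : SL(2, K) := ⟨!![c, 0; 0, c⁻¹], by simp [det_fin_two, hc]⟩

/-- the unitriangular elements -/
def uu (t : K) : PSL(2, K) := QuotientGroup.mk' _ (us t)

omit [Fintype K] in
theorem uu_mul (s t : K) : uu s * uu t = uu (s + t) := by
  refine (map_mul (QuotientGroup.mk' _) _ _).symm.trans (congrArg _ ?_)
  refine Subtype.ext (?_ : !![1, s; 0, 1] * !![1, t; 0, 1] = !![1, s + t; 0, 1])
  simp [add_comm]

omit [Fintype K] in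
theorem uu_ne : uu (1 : K) ≠ 1 := fun h => by
  obtain ⟨r, -, hr⟩ := Matrix.SpecialLinearGroup.mem_center_iff.1
    ((QuotientGroup.eq_one_iff (us (1 : K))).1 h)
  have : (scalar (Fin 2) r) 0 1 = (us (1 : K)).1 0 1 := by rw [hr]
  simp [us] at this

omit [Fintype K] in
theorem uu_sq (h2 : (2 : K) = 0) : uu (1 : K) * uu 1 = 1 := by
  rw [uu_mul, one_add_one_eq_two, h2]
  refine (congrArg (QuotientGroup.mk' _) (?_ : us (0 : K) = 1)).trans (map_one _)
  ext i j
  fin_cases i <;> fin_cases j <;> simp [us]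

theorem exists_g (h2 : (2 : K) = 0) {x : K} (hx : x ≠ 0) :
    ∃ g : PSL(2, K), ∀ t, g * uu t * g⁻¹ = uu (x * t) := by
  obtain ⟨c, rfl⟩ := exists_sqrt h2 x
  have hc : c ≠ 0 := left_ne_zero_of_mul hx
  refine ⟨QuotientGroup.mk' _ (ds c hc), fun t => ?_⟩
  rw [mul_inv_eq_iff_eq_mul]
  refine (map_mul (QuotientGroup.mk' _) _ _).symm.trans
    (Eq.trans (congrArg _ ?_) (map_mul (QuotientGroup.mk' _) _ _))
  refine Subtype.ext (?_ : !![c, 0; 0, c⁻¹] * !![1, t; 0, 1] = !![1, c * c * t; 0, 1] * !![c, 0; 0, c⁻¹])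
  simp
  field_simp

omit [Fintype K] in
theorem rl_psl (h2 : (2 : K) = 0) : Rl PSL(2, K) := fun x _ => by
  obtain ⟨g, rfl⟩ := QuotientGroup.mk_surjective x
  obtain ⟨s, h1, h3⟩ := H73.EX.sl_real h2 g
  refine (QuotientGroup.mk' _).map_isConj (isConj_iff.2 ⟨s, ?_⟩)
  rw [inv_eq_of_mul_eq_one_right h1, eq_inv_iff_mul_eq_one, mul_assoc, h3]

end psl

section unitary

open H86

variable {K : Type} [Field K] [Fintype K] [CharP K 2]

theorem y5 (hK : Fintype.card K = 4 ^ 2) : Y5 (PSU 3 K 4) := by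
  have h2 : (2 : K) = 0 := CharTwo.two_eq_zero
  obtain ⟨y, hy⟩ := exists_order (n := 15) hK
  obtain ⟨l, hl, l1⟩ : ∃ l : K, l ^ 5 = 1 ∧ l - 1 ≠ 0 :=
    ⟨y ^ 3, by rw [← pow_mul, show 3 * 5 = orderOf y from hy.symm, pow_orderOf_eq_one], fun e => by
      have := hy ▸ orderOf_dvd_of_pow_eq_one (sub_eq_zero.1 e)
      omega⟩
  have l5 : l ^ 4 + l ^ 3 + l ^ 2 + l + 1 = 0 := mul_left_cancel₀ l1 (by linear_combination hl)
  let f : UH (H59.frob hK) (H59.frob_frob hK) →* PSU 3 K 4 :=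
    (QuotientGroup.mk' _).comp (UH.toSU hK)
  have hf : Function.Injective f := (injective_iff_map_eq_one _).mpr fun x hx => by
    obtain ⟨c, hc⟩ := (H59.mem_center_SU_iff hK (by norm_num) _).mp
      ((QuotientGroup.eq_one_iff _).mp hx)
    have hc' : UH.mat x = c • (1 : Matrix (Fin 3) (Fin 3) K) := hc
    refine UH.ext ?_ ?_
    · simpa [UH.mat] using congrFun (congrFun hc' 2) 0
    · simpa [UH.mat] using congrFun (congrFun hc' 0) 1
  let d : SU 3 K 4 := ⟨⟨!![l, 0, 0; 0, l, 0; 0, 0, l ^ 3], by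
    simp [det_fin_three]; linear_combination hl⟩, fun u v => by
      change hermForm 3 K 4 (!![l, 0, 0; 0, l, 0; 0, 0, l ^ 3] *ᵥ u)
        (!![l, 0, 0; 0, l, 0; 0, 0, l ^ 3] *ᵥ v) = _
      simp only [hermForm, Fin.sum_univ_three]
      simp [Matrix.mulVec, dotProduct, Fin.sum_univ_three]
      linear_combination (u 0 * v 0 ^ 4 + u 1 * v 1 ^ 4 + u 2 * v 2 ^ 4 * (l ^ 10 + l ^ 5 + 1)) * hl⟩
  let τ : UH (H59.frob hK) (H59.frob_frob hK) → UH (H59.frob hK) (H59.frob_frob hK) := fun x =>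
    ⟨l ^ 2 * x.a, x.b, by
      rw [x.h, H59.frob_apply, H59.frob_apply]
      linear_combination -x.a ^ 5 * (l ^ 5 + 1) * hl⟩
  let g : PSU 3 K 4 := QuotientGroup.mk d
  have hg : ∀ x, g * f x * g⁻¹ = f (τ x) := fun x => by
    rw [mul_inv_eq_iff_eq_mul]
    change QuotientGroup.mk (d * UH.toSU hK x) = QuotientGroup.mk (UH.toSU hK (τ x) * d)
    congr 1
    refine Subtype.ext (Subtype.ext ?_)
    change !![l, 0, 0; 0, l, 0; 0, 0, l ^ 3] * UH.mat x = UH.mat (τ x) * !![l, 0, 0; 0, l, 0; 0, 0, l ^ 3]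
    ext i j
    fin_cases i <;> fin_cases j <;>
      simp [UH.mat, τ, mul_apply, Fin.sum_univ_three, H59.frob_apply] <;> grind
  have hcp : ∀ i x, cp g i (f x) = f (τ^[i] x) := fun i x => by
    induction i with
    | zero => simp [cp]
    | succ i ih => rw [cp_succ, ih, hg, Function.iterate_succ_apply']
  have hz : ∀ x, x.a = 0 → Commute g (f x) := fun x hx => by
    have := hg x
    rw [show τ x = x from UH.ext (by simp [τ, hx]) rfl, mul_inv_eq_iff_eq_mul] at this
    exact this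
  have hw : H59.frob hK (l + l ^ 4) = l + l ^ 4 := by
    rw [map_add, H59.frob_apply, H59.frob_apply]
    linear_combination l * (l ^ 10 + l ^ 5 + 1) * hl
  have w2 : (l + l ^ 4) ^ 2 + (l + l ^ 4) + 1 = 0 := by grind
  have hne : H59.frob hK ≠ RingHom.id K := fun e => by
    have h1 : l ^ 4 = l := congrArg (fun φ : K →+* K => φ l) e
    exact l1 (by grind)
  obtain ⟨e, he⟩ := UH.exists_a (hσ := H59.frob_frob hK) hne 1
  let c := UH.zc (H59.frob_frob hK) _ hw
  have ea := UH.sq_a e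
  have eb : (e * e).b = 1 := by rw [UH.sq_b, he, map_one, mul_one]
  have cc : ∀ x z, z.a = 0 → Commute (f x) (f z) := fun x z hz =>
    (Commute.map (UH.comm_of_a hz x).symm f)
  refine ⟨f c, f e, f e, g, fun h => ?_, ?_, fun h => ?_, ?_, fun h => ?_, cc _ _ rfl, ?_,
    hz _ rfl, ?_, cc _ _ rfl, ?_, ?_, 1, fun h => ?_⟩
  · have : l + l ^ 4 = 0 := congrArg UH.b (hf (h.trans f.map_one.symm))
    simp [this] at w2
  · rw [← map_mul, UH.sq_eq_one_iff.2 rfl, map_one]
  · have := congrArg UH.b (hf ((map_mul f e e).trans (h.trans f.map_one.symm)))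
    rw [eb] at this
    exact one_ne_zero this
  · rw [show f e ^ 4 = f (e * e * (e * e)) by simp only [map_mul, pow_succ, pow_zero, one_mul,
      mul_assoc], UH.sq_eq_one_iff.2 ea, map_one]
  · have : (e * e).b = l + l ^ 4 := congrArg UH.b (hf ((map_mul f e e).trans h))
    rw [← this, eb] at w2
    exact one_ne_zero (α := K) (by linear_combination w2 - h2)
  · change QuotientGroup.mk (d ^ 5) = (1 : PSU 3 K 4)
    rw [show d ^ 5 = 1 from Subtype.ext (Subtype.ext (by
      change !![l, 0, 0; 0, l, 0; 0, 0, l ^ 3] ^ 5 = 1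
      ext i j
      fin_cases i <;> fin_cases j <;>
        simp [pow_succ, mul_apply, Fin.sum_univ_three] <;> grind)), QuotientGroup.mk_one]
  · rw [← map_mul]; exact hz _ ea
  · rw [← map_mul]; exact cc _ _ ea
  · simp only [hcp, ← map_mul]
    generalize hx : e * τ^[1] e * τ^[2] e * τ^[3] e * τ^[4] e = x
    have xa : x.a = 0 := by
      rw [← hx]
      simp only [UH.mul_a, Function.iterate_succ, Function.iterate_zero, Function.comp, id, τ, he]
      grind
    have xb : x.b ^ 4 = x.b := UH.fix_of_a xa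
    have m1 : f c ∈ Subgroup.closure {f c, f (e * e)} := Subgroup.subset_closure (by simp)
    have m2 : f (e * e) ∈ Subgroup.closure {f c, f (e * e)} := Subgroup.subset_closure (by simp)
    have h4 : x.b * (x.b - 1) * (x.b - (l + l ^ 4)) * (x.b - (l + l ^ 4 + 1)) = 0 := by grind
    simp only [mul_eq_zero, sub_eq_zero] at h4
    rcases h4 with ((h | h) | h) | h
    · rw [show x = 1 from UH.ext xa h, map_one]; exact one_mem _
    · rw [show x = e * e from UH.ext (xa.trans ea.symm) (h.trans eb.symm)]; exact m2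
    · rw [show x = c from UH.ext xa h]; exact m1
    · rw [show x = c * (e * e) from UH.ext (by rw [UH.mul_a, xa, ea]; simp [c, UH.zc_a])
        (by rw [UH.mul_b, h, ea, eb]; simp [c, UH.zc_b]), map_mul f c]
      exact mul_mem m1 m2
  · rw [hcp] at h
    have h1 := UH.comm_iff.1 (hf ((map_mul f _ _).trans (h.eq.trans (map_mul f _ _).symm)))
    simp only [Function.iterate_one, τ, he, H59.frob_apply] at h1
    exact l1 (by grind)

end unitary

theorem jobMEv1 : JobMEv1 := by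
  refine ⟨fun K _ _ hK => ?_, fun K _ _ m hm hK => ?_⟩
  · have : CharP K 2 := FiniteField.even_card_iff_char_two.2 (Nat.even_iff.1 hK) ▸ ringChar.charP K
    have h2 : (2 : K) = 0 := CharTwo.two_eq_zero
    refine ⟨rl_psl h2, fun h => ?_, fun h => ?_, fun h => y5 h⟩
    · obtain ⟨x, hx⟩ := root8 h2 h
      obtain ⟨g, hg⟩ := exists_g h2 (x := x) fun e => by simp [e] at hx
      exact e87 uu_mul uu_ne (uu_sq h2) hg hx
    · obtain ⟨x, hx⟩ := root16 h2 h
      obtain ⟨g, hg⟩ := exists_g h2 (x := x) fun e => by simp [e] at hx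
      exact e15 uu_mul uu_ne (uu_sq h2) hg hx
  · have hT := H66.titsOf_isFin K hm hK
    refine ⟨fun x hx => ?_, fun h => ?_⟩
    · by_cases h : x ^ 4 = 1
      · have h1 : orderOf x = 1 := Nat.Coprime.eq_one_of_dvd
          (Nat.Coprime.pow_right 2 (Nat.coprime_two_right.2 hx)) (orderOf_dvd_of_pow_eq_one h)
        rw [orderOf_eq_one_iff.1 h1, inv_one]
      · exact (H66.modelB hT).isConj_of_tr hT
          (fun k => h (((H66.modelB hT).tr_eq_zero_iff hT).1 k)) ((H66.modelB hT).tr_inv x)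
    · obtain ⟨x, hx⟩ := root8 (H66.titsOf K m hK).two (by rw [hK, h]; rfl)
      obtain ⟨k, hk⟩ := Finite.injective_iff_surjective.1
        (fun a b h => (H66.titsOf K m hK).chi_inj h :
          Function.Injective fun k => (H66.titsOf K m hK).θ k * k ^ 2) x
      have k0 : k ≠ 0 := fun e => by
        rw [← hk, e] at hx
        simp at hx
      refine e87 (u := (H66.modelB hT).u 0) (g := (H66.modelB hT).h (Units.mk0 k k0))
        (H66.modelB hT).z_mul (fun e => one_ne_zero ((H66.modelB hT).u_eq_one.1 e).2)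
        ((H66.modelB hT).z_mul_self 1) (fun t => ?_) hx
      rw [(H66.modelB hT).h_conj, mul_zero, ← hk]
      rfl

end H71.LDEv
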