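import Cfsg.Agent.H71.Glue
set_option maxRecDepth 1000000
set_option Elab.async false
namespace H71.FiB
noncomputable def nb_0 : ℕ := 0x800000000
noncomputable def nb_1 : ℕ := 0xd840000000c0000
noncomputable def nb_2 : ℕ := 0x340002a80011800200
noncomputable def nb_3 : ℕ := 0x1004008000080600a
noncomputable def nb_4 : ℕ := 0x10043000600000110002
noncomputable def nb_5 : ℕ := 0x1000000000008000
noncomputable def nb_6 : ℕ := 0x40109021014200048008
noncomputable def nb_7 : ℕ := 0x1000200000108400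
noncomputable def nb_8 : ℕ := 0x10062000600000110822
noncomputable def nb_9 : ℕ := 0x41b0500b060180600a
noncomputable def nb_10 : ℕ := 0x340002a80011800200
noncomputable def nb_11 : ℕ := 0xd840000000c0000
noncomputable def nb_12 : ℕ := 0x800000000
noncomputable def nb : Net := .cons 40 nb_0 <| .cons 20 nb_1 <| .cons 10 nb_2 <| .cons 5 nb_3 <| .cons 3 nb_4 <| .cons 2 nb_5 <| .cons 1 nb_6 <| .cons 2 nb_7 <| .cons 3 nb_8 <| .cons 5 nb_9 <| .cons 10 nb_10 <| .cons 20 nb_11 <| .cons 40 nb_12 <| .nil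
theorem vnb : Net.valid 80 nb = true := by decide +kernel
noncomputable def nc_0 : ℕ := 0x2400000000
noncomputable def nc_1 : ℕ := 0xa40000000030000
noncomputable def nc_2 : ℕ := 0x8003c800080
noncomputable def nc_3 : ℕ := 0x20000000001810
noncomputable def nc_4 : ℕ := 0x88020080000001
noncomputable def nc_5 : ℕ := 0x2000000
noncomputable def nc_6 : ℕ := 0x100004014a02108000
noncomputable def nc_7 : ℕ := 0x20080000000100401
noncomputable def nc_8 : ℕ := 0x2088021880000041
noncomputable def nc_9 : ℕ := 0x40000280e0280701810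
noncomputable def nc_10 : ℕ := 0x19003c800080
noncomputable def nc_11 : ℕ := 0xa40000000030000
noncomputable def nc_12 : ℕ := 0x2400000000
noncomputable def nc : Net := .cons 40 nc_0 <| .cons 20 nc_1 <| .cons 10 nc_2 <| .cons 5 nc_3 <| .cons 3 nc_4 <| .cons 2 nc_5 <| .cons 1 nc_6 <| .cons 2 nc_7 <| .cons 3 nc_8 <| .cons 5 nc_9 <| .cons 10 nc_10 <| .cons 20 nc_11 <| .cons 40 nc_12 <| .nil
theorem vnc : Net.valid 80 nc = true := by decide +kernel
noncomputable def nd_0 : ℕ := 0x5000000000
noncomputable def nd_1 : ℕ := 0xf20000000000000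
noncomputable def nd_2 : ℕ := 0x280003600016000100
noncomputable def nd_3 : ℕ := 0x4014048140400400800
noncomputable def nd_4 : ℕ := 0x800000000000010000
noncomputable def nd_5 : ℕ := 0x1000200840100401
noncomputable def nd_6 : ℕ := 0x409081204840140401
noncomputable def nd_7 : ℕ := 0x21000200840100401
noncomputable def nd_8 : ℕ := 0x800008010000010440
noncomputable def nd_9 : ℕ := 0x60140481405c1400800
noncomputable def nd_10 : ℕ := 0x280003600016000100
noncomputable def nd_11 : ℕ := 0xf20000000000000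
noncomputable def nd_12 : ℕ := 0x5000000000
noncomputable def nd : Net := .cons 40 nd_0 <| .cons 20 nd_1 <| .cons 10 nd_2 <| .cons 5 nd_3 <| .cons 3 nd_4 <| .cons 2 nd_5 <| .cons 1 nd_6 <| .cons 2 nd_7 <| .cons 3 nd_8 <| .cons 5 nd_9 <| .cons 10 nd_10 <| .cons 20 nd_11 <| .cons 40 nd_12 <| .nil
theorem vnd : Net.valid 80 nd = true := by decide +kernel
noncomputable def ne_0 : ℕ := 0xa000000000
noncomputable def ne_1 : ℕ := 0xa10000000090000
noncomputable def ne_2 : ℕ := 0x18002c000000
noncomputable def ne_3 : ℕ := 0x2010000000400002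
noncomputable def ne_4 : ℕ := 0x42108210840000002
noncomputable def ne_5 : ℕ := 0x20004000002000001
noncomputable def ne_6 : ℕ := 0x28085000002000009
noncomputable def ne_7 : ℕ := 0x20004210842000001
noncomputable def ne_8 : ℕ := 0x6210c210840000022
noncomputable def ne_9 : ℕ := 0x10020100c0381d02002
noncomputable def ne_10 : ℕ := 0x238002c000000
noncomputable def ne_11 : ℕ := 0xa10000000090000
noncomputable def ne_12 : ℕ := 0xa000000000
noncomputable def ne : Net := .cons 40 ne_0 <| .cons 20 ne_1 <| .cons 10 ne_2 <| .cons 5 ne_3 <| .cons 3 ne_4 <| .cons 2 ne_5 <| .cons 1 ne_6 <| .cons 2 ne_7 <| .cons 3 ne_8 <| .cons 5 ne_9 <| .cons 10 ne_10 <| .cons 20 ne_11 <| .cons 40 ne_12 <| .nil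
theorem vne : Net.valid 80 ne = true := by decide +kernel
noncomputable def nf_0 : ℕ := 0x4000000000
noncomputable def nf_1 : ℕ := 0x680000000028000
noncomputable def nf_2 : ℕ := 0x1b200030000a0003d2
noncomputable def nf_3 : ℕ := 0x4800060100400800800
noncomputable def nf_4 : ℕ := 0x18000108000002018800
noncomputable def nf_5 : ℕ := 0x8000000000000008000
noncomputable def nf_6 : ℕ := 0x4800040500020000a400
noncomputable def nf_7 : ℕ := 0x8000000000002000400
noncomputable def nf_8 : ℕ := 0x18000084000002018400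
noncomputable def nf_9 : ℕ := 0x480d00c100500b07812
noncomputable def nf_10 : ℕ := 0x1b200030000a0003d2
noncomputable def nf_11 : ℕ := 0x680000000028000
noncomputable def nf_12 : ℕ := 0x4000000000
noncomputable def nf : Net := .cons 40 nf_0 <| .cons 20 nf_1 <| .cons 10 nf_2 <| .cons 5 nf_3 <| .cons 3 nf_4 <| .cons 2 nf_5 <| .cons 1 nf_6 <| .cons 2 nf_7 <| .cons 3 nf_8 <| .cons 5 nf_9 <| .cons 10 nf_10 <| .cons 20 nf_11 <| .cons 40 nf_12 <| .nil
theorem vnf : Net.valid 80 nf = true := by decide +kernel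
noncomputable def nh_0 : ℕ := 0x2000000000
noncomputable def nh_1 : ℕ := 0x280000000058400
noncomputable def nh_2 : ℕ := 0x40001800010
noncomputable def nh_3 : ℕ := 0x480804800
noncomputable def nh_4 : ℕ := 0x630080300000
noncomputable def nh_5 : ℕ := 0x10000008000
noncomputable def nh_6 : ℕ := 0x400000214a0280a401
noncomputable def nh_7 : ℕ := 0x8001000200000108000
noncomputable def nh_8 : ℕ := 0x10c630080300000
noncomputable def nh_9 : ℕ := 0x101c0480b04810
noncomputable def nh_10 : ℕ := 0x40003a00010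
noncomputable def nh_11 : ℕ := 0x280000000058400
noncomputable def nh_12 : ℕ := 0x2000000000
noncomputable def nh : Net := .cons 40 nh_0 <| .cons 20 nh_1 <| .cons 10 nh_2 <| .cons 5 nh_3 <| .cons 3 nh_4 <| .cons 2 nh_5 <| .cons 1 nh_6 <| .cons 2 nh_7 <| .cons 3 nh_8 <| .cons 5 nh_9 <| .cons 10 nh_10 <| .cons 20 nh_11 <| .cons 40 nh_12 <| .nil
theorem vnh : Net.valid 80 nh = true := by decide +kernel
noncomputable def gensN : List Net := [Net.nil]
noncomputable def invsN : List Net := [Net.nil, nb, nc, nd, ne, nf, Net.nil, nh, Net.nil, Net.nil, Net.nil, Net.nil]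
noncomputable def A : ℕ → ℕ → ℕ := mkA gensN invsN
noncomputable def π : ℕ → Equiv.Perm ℕ := mkPi gensN invsN
theorem vG : ∀ r ∈ ([Net.nil] : List Net), Net.valid 80 r = true := by
  intro r hr
  simp only [List.mem_cons, List.not_mem_nil, or_false] at hr
  rcases hr with rfl
  · rfl
theorem vI : ∀ r ∈ ([Net.nil, nb, nc, nd, ne, nf, Net.nil, nh, Net.nil, Net.nil, Net.nil, Net.nil] : List Net), Net.valid 80 r = true := by
  intro r hr
  simp only [List.mem_cons, List.not_mem_nil, or_false] at hr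
  rcases hr with rfl | rfl | rfl | rfl | rfl | rfl | rfl | rfl | rfl | rfl | rfl | rfl
  · rfl
  · exact vnb
  · exact vnc
  · exact vnd
  · exact vne
  · exact vnf
  · rfl
  · exact vnh
  · rfl
  · rfl
  · rfl
  · rfl
theorem env : Env 80 π A := env_mk vG vI
theorem hN : 80 ≤ 2 ^ 7 := by norm_num
theorem pinv : ∀ l, π (linv 2 l) = (π l)⁻¹ := mkPi_inv' hN rfl vI (by decide +kernel)
def R : List (List ℕ) := [[3,4,3,4,3,4],
  [3,5,3,5],
  [3,6,3,6],
  [3,7,3,7],
  [3,9,3,9],
  [4,5,4,5,4,5],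
  [4,6,4,6],
  [4,7,4,7],
  [4,9,4,9],
  [5,6,5,6,5,6],
  [5,7,5,7],
  [5,9,5,9,5,9],
  [6,7,6,7,6,7],
  [6,9,6,9],
  [7,9,7,9]]
def RH : List (List ℕ) := []
def HL : List ℕ := [3,4,5,6,7]
def S : List ℕ := [3,4,5,6,7,9]
theorem relP : ∀ r ∈ R, evw π r = 1 := env.eq_one_of_allId hN (by decide +kernel)
def seeds : List (List ℕ) := []
theorem seeds_mem {G : Type*} [Group G] {val : ℕ → G} {H : Subgroup G} (hv : ∀ l, val (linv 2 l) = (val l)⁻¹) (he : val 14 = 1)
    (hR : ∀ r ∈ R ++ RH, evw val r = 1) (hH : ∀ l ∈ HL, val l ∈ H) : ∀ w ∈ seeds, evw val w ∈ H := by simp [seeds]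
def spec : List ℕ := [8192,8194,16386,32768,32770,49154,57346,65536,65538,81922,106496,114688,2,40962,73728,73730,90112,90114,98306,16384,24576,24578,81920,106498,114690,40960,98304,49152,0,57344]
noncomputable def rules : List (List ℕ) := spec.map (mkRule 2 R)
noncomputable def hs : List (List ℕ) := HL.map (fun z => [z]) ++ seeds
noncomputable def D0 : ℕ := Nat.shiftLeft 1 0
noncomputable def K0 : List ℕ := List.replicate 14 0
def steps0_0 : List ℕ := [3,16387,32771,49155,65539,36,20,24,28,16,20,24,36,12,16,20,24,28,36,16,20,24,12,16,20,36,1,5,9,13,17,21,25,29,33,37,41,45,49,53,57,61,65,69,73,1,5,77,9,81,85,17,21,25,33,89,37,41,93,45,97,49,101,53,57,61,65,69,105,5,17,109,21,25,29,89,37,41,93,97,113,101,53,57,61,65,69,105,1,5,77,9,81,85,13,17,109,21,117,25,33,49,101,53,57,61,65,69,5,9,85,17,109,29,33,41,93,113,101,61,65,73,1,13,21,25,29,37,45]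
theorem run0 : tcRun A 2 0 rules hs (steps0_0) (finSt A S (ival 0 72)) D0 K0 = true := by decide +kernel
theorem done {G : Type*} [Group G] {val : ℕ → G} {H : Subgroup G} (hv : ∀ l, val (linv 2 l) = (val l)⁻¹) (he : val 14 = 1)
    (hR : ∀ r ∈ R ++ RH, evw val r = 1) (hH : ∀ l ∈ HL, val l ∈ H) : TCDone val H π 0 S (ival 0 72) := by
  have T : TCHyp val H 80 π A 2 rules hs := tcHyp_mk env hv pinv (fun r hr => hR r (List.mem_append_left _ hr)) relP hH (seeds_mem hv he hR hH) spec
  have h0 : Inv val H π 0 D0 K0 := inv_init val H π 0 14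
  exact tcRun_fin T h0 run0
end H71.FiB
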