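/- STD-F4 (row S3328), slot FC: nine centralisers in `Aut F₄(2ⁿ)`. -/
import Cfsg.Agent.H63.SFFR

set_option autoImplicit false
set_option linter.unusedSectionVars false
set_option synthInstance.maxSize 4000

namespace H71.SFC

open Subgroup H98 Cfsg Cfsg.Lie H63 H64 H65 H86.WR
open H86.F4 hiding x_mem stB ns
open H64.SF hiding x Rt
open H64.SG (Cz Cs UU mem_Cz x_mem_gen)
open H46.SF (sh)

section Grp

variable {F : Type*} [Field F] [CharP F 2] {G : Type*} [Group G] {x : ℕ → F → G} {A B : List ℕ}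

theorem commUp_of_cm (h : St chevF4 x) (hT : Cm A A A) :
    CommUp (XR chevF4 x) {r | (r : ℕ) ∈ A} Fin.val := fun a ha b hb _ y hy z hz => by
  obtain ⟨t, rfl⟩ := h.mem_XR.1 hy
  obtain ⟨u, rfl⟩ := h.mem_XR.1 hz
  refine comm_mem h (hT a ha).1 (hT b hb).1 (fun c hc h1 t => ?_) t u
  have := (OT_lt a (hT a ha).1 b (hT b hb).1).1 c hc
  exact x_mem_gen (r := R c h1) (by exact ⟨((hT a ha).2 b hb).2 c hc, this.1, this.2.1⟩) t

/-- The intersection of two closed sets of positive roots. -/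
theorem mem_inter (h : StB chevF4 x) (hA : Cm A A A) (hB : Cm B B B) {g : G} (h1 : g ∈ GS x A)
    (h2 : g ∈ GS x B) : g ∈ GS x (A.filter (· ∈ B)) := by
  classical
  obtain ⟨L, nd, hL⟩ : ∃ L : List (Rt chevF4), L.Nodup ∧ ∀ a, a ∈ L ↔ (a : ℕ) ∈ A :=
    ⟨(Set.toFinite {a : Rt chevF4 | (a : ℕ) ∈ A}).toFinset.toList, Finset.nodup_toList _, by simp⟩
  obtain ⟨y, hy, rfl⟩ := (commUp_of_cm h.toSt hA).exists_prod L nd hL h1
  refine list_prod_mem fun z hz => ?_
  obtain ⟨r, hr, rfl⟩ := List.mem_map.1 hz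
  by_cases e : (r : ℕ) ∈ B
  · exact le_gen (XR chevF4 x) (c := r) (S := {r | (r : ℕ) ∈ A.filter (· ∈ B)})
      (List.mem_filter.2 ⟨(hL r).1 hr, decide_eq_true e⟩) (hy r)
  · rw [eq_one_of_prod_mem h.rgd (S := {r | (r : ℕ) ∈ B}) (commUp_of_cm h.toSt hB)
      (fun r hr => (pos_iff r).2 (hB r hr).1) nd (fun r hr => (pos_iff r).2 (hA r ((hL r).1 hr)).1)
      hy h2 hr e]
    exact one_mem _

end Grp

theorem chi_comb {A : Type*} [CommGroup A] (c : Fin chevF4.rank → A) (T : List ℕ) :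
    (T.map (H46.chi chevF4 c)).prod = ∏ j, c j ^ (T.map (chevF4.cartan j)).sum := by
  induction T with
  | nil => simp
  | cons r T ih => simp only [List.map_cons, List.prod_cons, List.sum_cons, ih, H46.chi, zpow_add,
      Finset.prod_mul_distrib]

variable {F : Type} [Field F] [CharP F 2] [Finite F]

local notation "X" => H64.SF.x F

/-- The common centraliser of four root elements lies in `U`. -/
theorem mem_U {g : XF F} (hg : ∀ r ∈ [40, 44, 46, 47], g ∈ Cz (X r 1)) : g ∈ UF4 F := by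
  have hτ := H67.torOK_xG (D := chevF4) (k := F)
  obtain ⟨u, hu, k, hk, rfl⟩ := (stB (F := F)).rgd.mem_B.1 (H63.SFR.bor hg)
  obtain ⟨c, rfl⟩ := hτ.exists (stB (F := F)).toStN hk
  have k1 : ∀ r ∈ [40, 44, 46, 47], H46.chi chevF4 c r = 1 := fun r hr => by
    have h1 : r ∈ PP := by revert r; decide
    have h2 := (mem_PP.1 h1).2
    have e1 := hτ.conj (stB (F := F)).toStN c (R r h2) 1
    obtain ⟨v, hv, e2⟩ := U_conj_x (st (F := F)) (r := R r h2) ((pos_iff _).2 h1)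
      (((H46.chi chevF4 c r : Fˣ) : F) * 1) hu
    have e3 : X r ((H46.chi chevF4 c r : Fˣ) * 1) * v = X r 1 := by
      refine e2.symm.trans ?_
      rw [← e1, ← mul_inv_eq_one]
      have := mem_Cz.1 (hg r hr)
      calc _ = (u * H67.torG chevF4 F c * X r 1) * (X r 1 * (u * H67.torG chevF4 F c))⁻¹ := by group
        _ = 1 := by rw [this, mul_inv_cancel]
    have e4 : X r (1 + (H46.chi chevF4 c r : Fˣ) * 1) * v ∈ GS (xG chevF4 F) [] := by
      rw [← x_add h2, mul_assoc, e3, x_sq h2]; exact one_mem _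
    have e5 := Nm.lead stB (T := []) (by decide) h1 (by simp) hv e4
    rw [mul_one, CharTwo.add_eq_zero] at e5
    exact Units.ext e5.symm
  have k2 : ∀ i : Fin chevF4.rank, ∃ T ∈ [[44], [40, 44], [46, 47], [47]],
      (∀ r ∈ T, r ∈ [40, 44, 46, 47]) ∧
        ∀ j : Fin chevF4.rank, (T.map (chevF4.cartan j)).sum = if j = i then 1 else 0 := by
    decide +kernel
  obtain rfl : c = 1 := funext fun i => by
    obtain ⟨T, -, h1, h2⟩ := k2 i
    have := chi_comb c T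
    rw [List.prod_eq_one (fun y hy => by
      obtain ⟨r, hr, rfl⟩ := List.mem_map.1 hy
      exact k1 r (h1 r hr))] at this
    simpa [h2] using this.symm
  rwa [map_one, mul_one]

theorem conj_US {w l : List ℕ} (hw : Wd w) {g : XF F} (hg : g ∈ US F l) :
    nW F w * g * (nW F w)⁻¹ ∈ US F (l.map (act w)) :=
  (US_le (K := (US F (l.map (act w))).comap (MulAut.conj (nW F w)).toMonoidHom) fun r hr h a => by
    change nW F w * X r a * (nW F w)⁻¹ ∈ US F (l.map (act w))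
    rw [nW_conj hw h]
    exact x_mem (List.mem_map_of_mem hr) (act_lt hw h).1 a) hg

/-- The certificate. -/
def Ok (l l' w v S : List ℕ) : Prop := Wd w ∧ (∀ r ∈ l, r < 48) ∧
  (∀ r ∈ [40, 44, 46, 47], r ∈ l.map (act w)) ∧
  H86.F4.Cert PP ((l.map (act w)).filter (· ∈ PP)) [] S ∧ Wd v ∧
  (∀ s ∈ v, s ∈ l.map (act w) ∧ 47 - s ∈ l.map (act w)) ∧ Cm S S S ∧
  Cm (S.map (act v)) (S.map (act v)) (S.map (act v)) ∧
  ∀ r ∈ (S.filter (· ∈ S.map (act v))).map (act w.reverse), r ∈ l'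

instance (l l' w v S : List ℕ) : Decidable (Ok l l' w v S) := by unfold Ok; infer_instance

theorem Ok.cen {l l' w v S : List ℕ} (k : Ok l l' w v S) {g : XF F}
    (hg : ∀ r ∈ l, ∀ c, g * X r c * g⁻¹ = X r c) : g ∈ US F l' := by
  obtain ⟨hw, k1, k2, k3, hv, k4, k5, k6, k7⟩ := k
  set g' := nW F w * g * (nW F w)⁻¹ with e
  have h1 : ∀ r ∈ l.map (act w), ∀ c, X r c ∈ Cz g' := fun r hr c => by
    obtain ⟨s, hs, rfl⟩ := List.mem_map.1 hr
    rw [mem_Cz, ← nW_conj hw (k1 s hs), e, ← mul_inv_eq_iff_eq_mul]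
    conv_rhs => rw [← hg s hs c]
    group
  have h2 : g' ∈ US F S := (k3.cen stB).le ⟨mem_U fun r hr => mem_Cz.2 (mem_Cz.1 (h1 r (k2 r hr) 1)).symm,
    fun y hy => (mem_Cz.1 (GS_le (K := Cz g') (fun r hr a => h1 r (List.mem_filter.1 hr).1 a) hy)).symm⟩
  have h3 : nW F v ∈ Cz g' := list_prod_mem fun y hy => by
    obtain ⟨s, hs, rfl⟩ := List.mem_map.1 hy
    rw [n_eq (hv s hs)]
    exact mul_mem (mul_mem (h1 s (k4 s hs).1 1) (h1 _ (k4 s hs).2 1)) (h1 s (k4 s hs).1 1)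
  have h4 := conj_US hv h2
  rw [← mem_Cz.1 h3, mul_inv_cancel_right] at h4
  have h5 := conj_US hw.reverse (mem_inter stB k5 k6 h2 h4)
  rw [← nW_inv hw, e] at h5
  exact US_mono k7 (by simpa [mul_assoc] using h5)

theorem Ok.ca (hA : H64.SF.FA F) {l l' w v S : List ℕ} (k : Ok l l' w v S) : CA F l l' := fun α hα => by
  obtain ⟨r, hr, -⟩ := List.mem_map.1 (k.2.2.1 40 (by simp))
  obtain ⟨g, rfl⟩ := hA.lin r (k.2.1 r hr) α (hα r hr)
  exact ⟨g, k.cen hα, rfl⟩

theorem jobFC (hFA : H64.SF.JobFA) : H64.SF.JobFC := fun F _ _ _ =>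
  have hA := hFA F
  ⟨Ok.ca hA (w := []) (v := []) (S := [41, 42, 43, 44, 45, 46, 47]) (by decide +kernel),
    Ok.ca hA (w := []) (v := []) (S := [29, 36, 38, 39, 40, 44, 47]) (by decide +kernel),
    Ok.ca hA (w := []) (v := [26]) (S := [43, 44, 47]) (by decide +kernel),
    Ok.ca hA (w := []) (v := [26]) (S := [39, 40, 44, 47]) (by decide +kernel),
    Ok.ca hA (w := [27, 33]) (v := [30, 41]) (S := [38, 39, 40, 44, 47]) (by decide +kernel),
    Ok.ca hA (w := [27, 33]) (v := [30, 41]) (S := [25, 38, 39, 40, 44, 46, 47]) (by decide +kernel),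
    Ok.ca hA (w := []) (v := []) (S := [44, 47]) (by decide +kernel),
    Ok.ca hA (w := []) (v := [24, 33]) (S := [39, 44, 45, 47]) (by decide +kernel),
    Ok.ca hA (w := []) (v := [33]) (S := [44, 47]) (by decide +kernel)⟩

end H71.SFC
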