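import Cfsg.Agent.H71.SQC3CC
import Cfsg.Agent.H25.SQBase
import Cfsg.Agent.H95.SFFB
import Cfsg.Agent.H98.Sylow

/-! The pack `FC` of tower SQ for `Co₃`: the centraliser `2.Sp₆(2)` of `z = v 7`, `f = v 8`. -/

set_option autoImplicit false

namespace H71.C3C

open Subgroup H71 H81 H64.SG H25.SQ H27.SZ H22.Sp6
open scoped commutatorElement

section Gen

variable {K : Type*} [Group K]

/-- An automorphism of a perfect group which is trivial modulo the centre is trivial. -/
theorem aut_perf (hp : commutator K = ⊤) {δ : MulAut K} (h : ∀ x, δ x * x⁻¹ ∈ center K) :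
    δ = 1 := by
  have : commutator K ≤ fx δ := commutator_le.2 fun a _ b _ => by
    show δ ⁅a, b⁆ = ⁅a, b⁆
    obtain ⟨c, hc, ea⟩ : ∃ c ∈ center K, δ a = c * a := ⟨_, h a, by simp⟩
    obtain ⟨d, hd, eb⟩ : ∃ d ∈ center K, δ b = d * b := ⟨_, h b, by simp⟩
    have c1 := mem_center_iff.1 hc
    have d1 := mem_center_iff.1 hd
    rw [map_commutatorElement, ea, eb, commutatorElement_def, commutatorElement_def]
    have e1 : c * a * (d * b) * (c * a)⁻¹ = a * (d * b) * a⁻¹ := by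
      rw [mul_inv_rev, ← mul_assoc, mul_assoc c, mul_assoc c, ← c1, mul_inv_cancel_right]
    rw [e1, mul_inv_rev, ← mul_assoc, ← mul_assoc a d, d1 a, mul_assoc d, mul_assoc d, mul_assoc d,
      ← d1, mul_inv_cancel_right]
  exact MulEquiv.ext fun x => (show x ∈ fx δ from this (hp ▸ mem_top x))

/-- Automorphisms of `2.Sp₆(2)` are inner. -/
theorem aut_cover [Finite K] {t : ℕ → K} {z : K} (h : LR t z) (ht : gen t S7 = ⊤)
    (hp : commutator K = ⊤) (hz : z ∈ center K) (γ : MulAut K) (hγ : γ z = z) : Inn γ := by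
  have hN : zpowers z ≤ center K := zpowers_le.2 hz
  have : (zpowers z).Normal := ⟨fun a ha g => by
    rw [mem_center_iff.1 (hN ha) g, mul_inv_cancel_right]; exact ha⟩
  let π := QuotientGroup.mk' (zpowers z)
  have h1 : π z = 1 := (QuotientGroup.eq_one_iff z).2 (mem_zpowers z)
  obtain ⟨m, hm⟩ := H95.SFB.aut_inner (t := fun l => π (t l)) (h1 ▸ h.map π) (by
    rw [← map_gen π fun _ _ => rfl, ht]
    exact map_top_of_surjective _ (QuotientGroup.mk'_surjective _))
    (QuotientGroup.congr (zpowers z) (zpowers z) γ (by rw [MonoidHom.map_zpowers]; simp [hγ]))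
  obtain ⟨m, rfl⟩ := QuotientGroup.mk'_surjective _ m
  refine ⟨m, (inv_mul_eq_one.1 (aut_perf hp fun x => hN ?_)).symm⟩
  have e : π (γ x) = π m * π x * (π m)⁻¹ := DFunLike.congr_fun hm (π x)
  refine (QuotientGroup.eq_one_iff _).1 (show π (m⁻¹ * γ x * m * x⁻¹) = 1 from ?_)
  simp only [map_mul, map_inv, e]
  group

end Gen

local notation "X" => Cfsg.Spor.Co3

theorem zz : v 7 * v 7 = 1 := by simpa using O.eq r0
theorem z_ne : v 7 ≠ 1 := by simpa using O.ne n0
theorem lr : LR v (v 7) := ⟨zz, fun r hr => by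
  simpa using O.rel lrR (r, [7]) (List.mem_map.2 ⟨r, hr, rfl⟩), O.eq lrc⟩

theorem SZ_z : ∀ l ∈ SZ, v l ∈ Cz (v 7) := fun l hl => by
  simpa [CL_one] using O.cl1 clZ l hl

theorem S7_z : ∀ l ∈ S7, v l ∈ Cz (v 7) := fun l hl => SZ_z l (by revert l; decide)

theorem SV_z : ∀ l ∈ SV, v l ∈ Cz (v 7) ⊓ Cz (v 8) := fun l hl => by
  have := O.cl1 clV l hl
  rw [CL_cons, CL_one] at this
  simpa using this

/-- `C(z, f, x₁, x₂)`. -/
noncomputable abbrev V0 : Subgroup X := CL v [[21], [20], [8], [7]]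

theorem chainZ {H : Subgroup X} (h : ∀ l ∈ S7 ++ [17, 18, 19, 22, 23], v l ∈ H) :
    725760 * Nat.card ↥(H ⊓ V0) ≤ Nat.card ↥(H ⊓ Cz (v 7)) := by
  have a0 := O.st st0 (k := 630) (by decide +kernel) fun l hl => h l (by revert l; decide)
  have a1 := O.st st1 (k := 288) (by decide +kernel) fun l hl => h l (by revert l; decide)
  have a2 := O.st st2 (k := 4) rfl fun l hl => h l (by revert l; decide)
  rw [CL_one, evw_cons, evw_nil, mul_one] at a0
  unfold V0
  omega

theorem V0_spec : Nat.card V0 = 4 ∧ ∀ y ∈ V0, ∃ w ∈ prods [7, 8], y = evw v w := by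
  refine O.enum ndV (k := 4) rfl (O.cl1 clV0) ?_
  have := chainZ (H := ⊤) fun _ _ => trivial
  rw [top_inf_eq, top_inf_eq, card_z] at this
  omega

theorem V0_mem {y : X} (h : ∀ l ∈ SV, y * v l = v l * y) :
    y = 1 ∨ y = v 8 ∨ y = v 7 ∨ y = v 7 * v 8 := by
  simpa [prods] using V0_spec.2 y (mem_CL.2 fun x hx => by
    have : ∃ l ∈ SV, x = [l] := by revert x; decide
    obtain ⟨l, hl, rfl⟩ := this
    simpa using h l hl)

/-- `C(z)` is generated by the seven letters. -/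
theorem Cz_le {H : Subgroup X} (h : ∀ l ∈ S7, v l ∈ H) : Cz (v 7) ≤ H := by
  have k1 : ∀ l ∈ [7, 17, 18, 19], v l ∈ H := fun l hl => by
    have : ∃ e ∈ g1, e.1 = [l] := by revert l; decide
    obtain ⟨e, he, e1⟩ := this
    simpa [e1] using O.gn g1B h e he
  have k2 : ∀ l ∈ [8, 22, 23], v l ∈ H := fun l hl => by
    have : ∃ e ∈ g2, e.1 = [l] := by revert l; decide
    obtain ⟨e, he, e1⟩ := this
    simpa [e1] using O.gn g2B (H := H) (fun l hl => k1 l (List.mem_cons_of_mem _ hl)) e he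
  have h1 := chainZ (H := H) fun l hl => by
    have : l ∈ S7 ∨ l ∈ [7, 17, 18, 19] ∨ l ∈ [8, 22, 23] := by revert l; decide
    exact this.elim (h l) fun e => e.elim (k1 l) (k2 l)
  have h2 : V0 ≤ H := fun y hy => by
    obtain ⟨w, hw, rfl⟩ := V0_spec.2 y hy
    refine evw_mem fun l hl => ?_
    exact ((by decide : ∀ l ∈ [7, 8], l ∈ [7, 17, 18, 19] ∨ l ∈ [8, 22, 23]) l
      (prods_ovr w hw l hl)).elim (k1 l) (k2 l)
  rw [inf_eq_right.2 h2, V0_spec.1] at h1
  exact le_of_card (by rw [card_z]; omega)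

theorem pf_z : Cz (v 7) ≤ ⁅Cz (v 7), Cz (v 7)⁆ := Cz_le fun l hl => by
  have : ∃ e ∈ pfT, e.1 = [l] := by revert l; decide
  obtain ⟨e, he, e1⟩ := this
  simpa [e1] using O.pf pfTB S7_z e he

theorem Z_z {y : X} (h : ∀ x ∈ Cz (v 7), y * x = x * y) : y = 1 ∨ y = v 7 := by
  have c0 := h _ (SZ_z 0 (by decide))
  rcases V0_mem fun l hl => h _ (SV_z l hl).1 with e | e | e | e
  · exact Or.inl e
  · exact absurd (by simpa [e] using c0) (O.ne n2)
  · exact Or.inr e
  · exact absurd (by simpa [e, mul_assoc] using c0) (O.ne n3)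

theorem I_z : I (v 7) := by
  refine ⟨⟨zz, z_ne⟩, ?_⟩
  have := (Cz (v 7)).card_mul_index
  rw [card_z, H79.RepCo3.card] at this
  rw [show (Cz (v 7)).index = 170775 by omega]
  decide

theorem nI_b : ¬ I (v 15) := fun h => by
  have e : v 26 * v 25 = v 15 * v 26 := by simpa using O.eq r3
  have h' := (h.isConj (isConj_iff.2 ⟨(v 26)⁻¹, by
    rw [inv_inv, mul_assoc, ← e, inv_mul_cancel_left]⟩) : I (v 25)).2
  have := (Cz (v 25)).card_mul_index
  rw [card_b, H79.RepCo3.card] at this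
  rw [show (Cz (v 25)).index = 2608200 by omega] at h'
  exact absurd h' (by decide)

theorem rot1 : v 24 * v 7 * (v 24)⁻¹ = v 8 := by
  rw [mul_inv_eq_iff_eq_mul]; simpa using O.eq r1
theorem rot2 : v 24 * v 8 * (v 24)⁻¹ = v 7 * v 8 := by
  rw [mul_inv_eq_iff_eq_mul, mul_assoc]; simpa using O.eq r2

theorem ln : Lc (v 7) (v 8) := ⟨I_z, rot1 ▸ I_z.conj _, by simpa using O.ne n1,
  (mem_centralizer_singleton_iff.1 (SZ_z 8 (by decide))).symm⟩

theorem lc_of {c : X} (h : c ∈ Cz (v 7)) : Lc (v 7) (c * v 8 * c⁻¹) := by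
  have := ln.conj c
  rwa [mem_centralizer_singleton_iff.1 h, mul_inv_cancel_right] at this

theorem aut (γ : MulAut (Cz (v 7))) : Inn γ := by
  classical
  let t : ℕ → Cz (v 7) := fun l => if hl : l ∈ S7 then ⟨v l, S7_z l hl⟩ else 1
  have ht : ∀ l ∈ S7, (Cz (v 7)).subtype (t l) = v l := fun l hl => by
    simp only [t, dif_pos hl]; rfl
  have e : ∀ r : List ℕ, (∀ l ∈ r, l ∈ S7) → ((evw t r : Cz (v 7)) : X) = evw v r := by
    intro r hr
    induction r with
    | nil => rfl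
    | cons l r ih =>
      rw [evw_cons, evw_cons, coe_mul, ih fun x hx => hr x (List.mem_cons_of_mem _ hx)]
      exact congrArg (· * _) (ht l (hr l List.mem_cons_self))
  let z : Cz (v 7) := ⟨v 7, SZ_z 7 (by decide)⟩
  have hz : z ∈ center (Cz (v 7)) :=
    mem_center_iff.2 fun g => Subtype.ext (mem_centralizer_singleton_iff.1 g.2)
  refine aut_cover (t := t) (z := z) ⟨Subtype.ext zz, fun r hr => Subtype.ext
    ((e r ((by decide : ∀ r ∈ RZ, ∀ l ∈ r, l ∈ S7) r hr)).trans (lr.rel r hr)),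
    Subtype.ext ((e _ (by decide)).trans lr.cox)⟩ ?_ ?_ hz γ ?_
  · apply map_injective (Cz (v 7)).subtype_injective
    rw [map_gen _ ht, ← MonoidHom.range_eq_map, range_subtype]
    exact le_antisymm (gen_le S7_z) (Cz_le fun l hl => mem_gen _ hl)
  · apply map_injective (Cz (v 7)).subtype_injective
    rw [map_subtype_commutator, ← MonoidHom.range_eq_map, range_subtype]
    exact le_antisymm (commutator_le.2 fun a ha b hb =>
      mul_mem (mul_mem (mul_mem ha hb) (inv_mem ha)) (inv_mem hb)) pf_z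
  · rcases Z_z (y := γ z) (fun x hx => by
      obtain ⟨x', e'⟩ := γ.surjective ⟨x, hx⟩
      have := congrArg (fun y => (γ y : X)) (mem_center_iff.1 hz x')
      simpa [e'] using this.symm) with h | h
    · exact absurd (congrArg Subtype.val ((map_eq_one_iff γ γ.injective).1 (Subtype.ext h))) z_ne
    · exact Subtype.ext h

theorem rep (y : X) (h : Lc (v 7) y) : ∃ x ∈ Cz (v 7), y = x * v 8 * x⁻¹ := by
  have hS : gen v SL ≤ Cz (v 7) := gen_le fun l hl => SZ_z l (by revert l; decide)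
  have sy : H98.IsSyl 2 (gen v SL) (Cz (v 7)) := by
    refine H98.isSyl_of_not_dvd_relIndex hS (IsPGroup.of_card card_S) ?_
    have := ((gen v SL).subgroupOf (Cz (v 7))).card_mul_index
    rw [Nat.card_congr (subgroupOfEquivOfLe hS).toEquiv, card_S, card_z] at this
    unfold relIndex
    omega
  obtain ⟨g, hg, e⟩ := sy.exists_cj_le (H98.isPGroup_zpowers (x := y) (k := 1)
    (by simpa [pow_two] using h.2.1.sq)) (zpowers_le.2 h.mem)
  obtain ⟨w, hw, ew⟩ := (O.enum ndS (k := 1024) (by decide +kernel) (fun l hl => mem_gen _ hl)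
    card_S.le).2 (g * y * g⁻¹) (e ⟨y, mem_zpowers y, rfl⟩)
  have l' := h.conj g
  rw [mem_centralizer_singleton_iff.1 hg, mul_inv_cancel_right, ew] at l'
  obtain ⟨c, hc⟩ := of_rpB rpS w hw
  simp only [rp1, Bool.or_eq_true, band_iff] at hc
  rcases hc with a | a | a | ⟨a, b | b⟩
  · exact absurd (by rw [evw_append]; exact l'.2.1.sq) (O.ne a)
  · exact absurd (O.eq a) l'.2.1.ne
  · exact absurd (by simpa using O.eq a) l'.2.2.1
  · have b' := O.eq b
    rw [evw_append, evw_cons, ← ew] at b'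
    refine ⟨g⁻¹ * (evw v c)⁻¹, mul_mem (inv_mem hg) (inv_mem (mem_ovr S7_z a)), ?_⟩
    rw [mul_inv_rev, inv_inv, inv_inv, ← mul_assoc, mul_assoc _ (v 8), ← b']
    group
  · have b' := O.eq b
    rw [evw_append, evw_cons] at b'
    refine absurd ?_ nI_b
    have := l'.2.1.conj (evw v c)
    rwa [b', mul_inv_cancel_right] at this

theorem cen_of {β : MulAut X} {g x : X} (e : β = MulAut.conj g) (h : x ∈ fx β) : g * x = x * g := by
  subst e
  exact mul_inv_eq_iff_eq_mul.1 (show g * x * g⁻¹ = x from h)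

theorem fc (inn : ∀ β : MulAut X, Inn β) : FC X := by
  refine ⟨v 7, v 8, pf_z, fun β h => ?_, aut, ⟨v 0, SZ_z 0 (by decide), ?_, ?_⟩, ln,
    ⟨v 24, rot1, rot2⟩, fun β h => ?_, rep, ?_⟩
  · obtain ⟨g, e⟩ := inn β
    rcases Z_z fun x hx => cen_of e (h hx) with rfl | rfl
    exacts [Or.inl (e.trans (map_one _)), Or.inr e]
  · have e : v 0 ^ 2 = v 7 := by rw [pow_two, lr.sq' (by decide)]
    exact orderOf_eq_prime_pow (p := 2) (n := 1) (by rw [pow_one, e]; exact z_ne)
      (by rw [show 2 ^ (1 + 1) = 2 * 2 from rfl, pow_mul, e, pow_two, zz])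
  · rw [pow_two, lr.sq' (by decide)]
  · obtain ⟨g, e⟩ := inn β
    have a : v 7 ∈ closure {v 7, v 8} := subset_closure (by simp)
    have b : v 8 ∈ closure {v 7, v 8} := subset_closure (by simp)
    refine ⟨g, ?_, e⟩
    rcases V0_mem fun l hl => cen_of e (h (SV_z l hl)) with rfl | rfl | rfl | rfl
    exacts [one_mem _, b, a, mul_mem a b]
  · obtain ⟨c1, h1, e1⟩ := O.cj cjTB S7_z _ List.mem_cons_self
    obtain ⟨c2, h2, e2⟩ := O.cj cjTB S7_z _ (List.mem_cons_of_mem _ List.mem_cons_self)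
    change c1 * (v 8 * 1) * c1⁻¹ = evw v w2 at e1
    change c2 * (v 8 * 1) * c2⁻¹ = v 8 * evw v w2 at e2
    rw [mul_one] at e1 e2
    refine ⟨v 8, evw v w2, evw v qq, ln, e1 ▸ lc_of h1, e2 ▸ lc_of h2,
      mem_ovr SZ_z (by decide +kernel), ?_, ?_⟩
    · rw [mul_inv_eq_iff_eq_mul, mul_assoc]
      simpa [evw_append] using O.eq r4
    · rw [mul_inv_eq_iff_eq_mul, mul_assoc]
      simpa [evw_append] using O.eq r5

end H71.C3C
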