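/- The search for the values of the principal `11`-block at an involution (order `244823040`). -/
import Cfsg.Agent.H45.MN

set_option autoImplicit false

namespace H71.M24

open H45.MN

/-- the conditions on a value -/
def k (c : ℕ) (d u : ℤ) : Bool := ok 244823040 [] 11 c d u

/-- the character sum of the class multiplication formula -/
def fF (a p ζ ψ z ρ y x : ℤ) : ℤ :=
  244823040 + a * a * 10644480 + 2 * (p * p) * 5440512 + (ζ * ζ + 2 * (ψ * ψ)) * 236544 +
    z * z * 73920 - ρ * ρ * 971520 - y * y * 506880 - x * x * 42240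

/-- the surviving cases -/
def good (c : ℕ) (a p : ℤ) : Bool := [(7680, -1, 5), (10752, 7, -3), (21504, 7, -3)].contains (c, a, p)

/-- the inner search -/
noncomputable def inn (c S : ℕ) (a p ζ ψ ρ : ℤ) : Bool :=
  fL (cand 244823040 [] 11 c 483) fun Y => fZ (ρ - (1 + a + 2 * p + ζ + 2 * ψ)) fun o =>
    al (cand 244823040 [] 11 c 5796) fun x => (c % 5 == 0 && (x - 1) % 5 != 0) ||
      fN (S + s2 x) fun S2 => Nat.blt c S2 || al Y fun y => fZ (o + y + x) fun z =>
        Nat.blt c (S2 + s2 y + s2 z) || !k c 3312 z || fZ (fF a p ζ ψ z ρ y x) fun F =>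
          (F != 0 && F != 11 * (c * c)) || good c a p

/-- the search for one centralizer order -/
noncomputable def chk (c : ℕ) : Bool :=
  fL (cand 244823040 [] 11 c 45) fun Ps => al (cand 244823040 [] 11 c 23) fun a =>
    fZ ((a * a - 2 * a + 21) / 2) fun ρ => !k c 252 ρ || al Ps fun p =>
      fZ (p * p - 1) fun γ => fZ ((p * p + 45) / 2) fun ζ => fZ (1 + γ - ζ) fun θ =>
        fZ (p + θ) fun ψ => fN (1 + s2 a + 2 * s2 p + s2 ζ + 2 * s2 ψ + s2 ρ + s2 γ + 2 * s2 θ)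
          fun S => Nat.blt c S || !k c 2024 γ || !k c 1035 ζ || !k c 990 θ || !k c 1035 ψ ||
            inn c S a p ζ ψ ρ

theorem search : al (dvs 967680) (fun c => c % 2 != 0 || chk c) = true := by decide +kernel

theorem spec {c : ℕ} (hc : c ∣ 967680) (h2 : 2 ∣ c) {a p ρ γ ζ θ ψ x y z : ℤ}
    (ka : k c 23 a = true) (kp : k c 45 p = true) (kρ : k c 252 ρ = true) (kγ : k c 2024 γ = true)
    (kζ : k c 1035 ζ = true) (kθ : k c 990 θ = true) (kψ : k c 1035 ψ = true)
    (kx : k c 5796 x = true) (ky : k c 483 y = true) (kz : k c 3312 z = true)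
    (eρ : 2 * ρ = a * a - 2 * a + 21) (eγ : γ = p * p - 1) (eζ : 2 * ζ = p * p + 45)
    (eθ : θ = 1 + γ - ζ) (eψ : ψ = p + θ) (ez : 1 + a + 2 * p + ζ + 2 * ψ + z = ρ + y + x)
    (h5 : 5 ∣ c → (5 : ℤ) ∣ x - 1)
    (hs : 1 + s2 a + 2 * s2 p + s2 ζ + 2 * s2 ψ + s2 ρ + s2 γ + 2 * s2 θ + s2 x + s2 y + s2 z ≤ c)
    (hF : fF a p ζ ψ z ρ y x = 0 ∨ fF a p ζ ψ z ρ y x = 11 * (c * c)) :
    (c = 7680 ∧ a = -1 ∧ p = 5) ∨ (c = 10752 ∧ a = 7 ∧ p = -3) ∨ (c = 21504 ∧ a = 7 ∧ p = -3) := by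
  have h0 := al_spec search (mem_dvs (by norm_num) hc)
  have h1 : chk c = true := by
    simpa [Nat.mod_eq_zero_of_dvd h2] using h0
  simp only [chk, fL_eq, fZ_eq, fN_eq] at h1
  have h3 := al_spec h1 (mem_cand ka (by omega))
  rw [show (a * a - 2 * a + 21) / 2 = ρ by omega, kρ, Bool.not_true, Bool.false_or] at h3
  have h4 := al_spec h3 (mem_cand kp (by omega))
  rw [← eγ, show (p * p + 45) / 2 = ζ by omega, ← eθ, ← eψ, kγ, kζ, kθ, kψ] at h4
  simp only [Bool.not_true, Bool.or_false, Bool.or_eq_true, Nat.blt_eq] at h4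
  have h6 := h4.resolve_left (by omega)
  simp only [inn, fL_eq, fZ_eq, fN_eq] at h6
  have h7 := al_spec h6 (mem_cand kx (by omega))
  simp only [Bool.or_eq_true, Bool.and_eq_true, beq_iff_eq, bne_iff_ne, Nat.blt_eq] at h7
  have h8 := al_spec ((h7.resolve_left fun h => h.2 (Int.emod_eq_zero_of_dvd
    (h5 (Nat.dvd_of_mod_eq_zero h.1)))).resolve_left (by omega)) (mem_cand ky (by omega))
  rw [show ρ - (1 + a + 2 * p + ζ + 2 * ψ) + y + x = z by omega, kz] at h8
  simp only [Bool.not_true, Bool.or_false, Bool.or_eq_true, Bool.and_eq_true, bne_iff_ne,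
    Nat.blt_eq] at h8
  have h9 := (h8.resolve_left (by omega)).resolve_left fun h => hF.elim h.1 h.2
  simpa [good] using h9

end H71.M24
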