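/- Simple groups of order `244823040`: the final character data. -/
import Cfsg.Agent.H45.MSpec4
import Cfsg.Agent.H30.FrobSchur
import Cfsg.Agent.H71.M24S

set_option autoImplicit false
set_option linter.unusedSectionVars false

namespace H71.M24

open Cfsg H28 H29 H39 H87 Subgroup H45 H45.MO H45.MN H45.M24
open scoped ComplexConjugate

universe u

variable {G : Type u} [Group G] [Fintype G] {n n1 n7 v7 : ℕ}
  {L E L1 E1 L7 E7 : List (IrrCharacter G)} {s s1 s7 : IrrCharacter G → ℤ}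
  {b c ρ α β β' ζ ψ ψ' l κ θ θ' : IrrCharacter G}

theorem degs (S : S11 b c ρ α β β' ζ ψ ψ' l κ θ θ') : dg α = 23 ∧ dg β = 45 ∧ dg β' = 45 ∧
    dg ζ = 1035 ∧ dg ψ = 1035 ∧ dg ψ' = 1035 ∧ dg l = 3312 ∧ dg ρ = 252 ∧ dg κ = 483 ∧
    dg b = 5796 ∧ dg c = 2024 ∧ dg θ = 990 ∧ dg θ' = 990 := by
  simpa using S.deg

theorem nd11 (S : S11 b c ρ α β β' ζ ψ ψ' l κ θ θ') :
    [one G, α, β, β', ζ, ψ, ψ', l, ρ, κ, b].Nodup :=
  List.Nodup.of_append_left (l₂ := [c, θ, θ']) S.nd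

/-- The principal `11`-block. -/
theorem blk (hG : Nat.card G = 244823040) (B : Bk 11 n1 10 1 L1 E1 s1)
    (S : S11 b c ρ α β β' ζ ψ ψ' l κ θ θ') :
    (∃ y : G, orderOf y = 11) ∧
    (∀ g, 11 ∣ orderOf g → α.1 g = 1 ∧ β.1 g = 1 ∧ β'.1 g = 1 ∧ ρ.1 g = -1) ∧
    ∀ t : G, t * t = 1 → 1 + iv α t + iv β t + iv β' t + iv ζ t + iv ψ t + iv ψ' t + iv l t =
      iv ρ t + iv κ t + iv b t ∧ ∃ j : ℕ, j ≤ 1 ∧ (11 * (j * j) * (cc t * cc t) : ℤ) =
        244823040 + iv α t * iv α t * 10644480 + (iv β t * iv β t + iv β' t * iv β' t) * 5440512 +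
        (iv ζ t * iv ζ t + iv ψ t * iv ψ t + iv ψ' t * iv ψ' t) * 236544 +
        iv l t * iv l t * 73920 - iv ρ t * iv ρ t * 971520 - iv κ t * iv κ t * 506880 -
        iv b t * iv b t * 42240 := by
  classical
  obtain ⟨_, P, V, t, X, Y, δ, ε, hC, h, hV, he, -, mL, mE, -, -⟩ := B.br
  obtain rfl : t = 1 := by have := h.te; omega
  obtain ⟨η, hη⟩ := h.Y_nonempty
  obtain ⟨d1, d2, d3, d4, d5, d6, d7, d8, d9, d10, -⟩ := degs S
  have nd := List.nodup_cons.1 (nd11 S)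
  have hT : Tt X η = [α, β, β', ζ, ψ, ψ', l, ρ, κ, b].toFinset := by
    ext χ
    rw [List.mem_toFinset]
    refine ⟨fun h1 => (List.mem_cons.1 (S.out χ fun h2 => ?_)).resolve_left
      (ne_one_of_Tt h hη h1), fun h1 => ?_⟩
    · have := dg_Tt_mod h hη h1
      rcases st_sign h χ with e | e <;> rw [e] at this <;> omega
    · have h2 : ¬ 11 ∣ dg χ := by
        simp only [List.mem_cons, List.not_mem_nil, or_false] at h1
        rcases h1 with e | e | e | e | e | e | e | e | e | e <;> rw [e] <;> omega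
      rcases List.mem_append.1 (B.out rfl χ (fun e => nd.1 (e ▸ h1)) h2) with h3 | h3
      · exact mem_Tt.2 (Or.inr ((mL χ).1 h3))
      · have := (mE χ).1 h3
        rw [Y_eq h hη rfl, Finset.mem_singleton] at this
        exact mem_Tt.2 (Or.inl this)
  have sg : ∀ χ ∈ [α, β, β', ζ, ψ, ψ', l, ρ, κ, b], st X δ ε χ = if dg χ % 11 = 1 then 1 else -1 :=
    fun χ h1 => by
      have := dg_Tt_mod h hη (hT ▸ List.mem_toFinset.2 h1)
      rcases st_sign h χ with e | e <;> rw [e] at this ⊢ <;> split_ifs <;> omega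
  simp only [List.forall_mem_cons, d1, d2, d3, d4, d5, d6, d7, d8, d9, d10, Nat.reduceMod,
    if_true, OfNat.ofNat_ne_one, if_false] at sg
  obtain ⟨g1, g2, g3, g4, g5, g6, g7, g8, g9, g10, -⟩ := sg
  obtain ⟨y, hy, hP⟩ := H43.exists_gen_sylow (p := 11) (m := 22256640) hG (by norm_num) P
  refine ⟨⟨y, hy⟩, fun g hg => ?_, fun a ha => ⟨?_, ?_⟩⟩
  · have := fun χ (h1 : χ ∈ [α, β, β', ζ, ψ, ψ', l, ρ, κ, b]) =>
      val_Tt h hη (hT ▸ List.mem_toFinset.2 h1) (Or.inl rfl) hg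
    rw [this α (by simp), this β (by simp), this β' (by simp), this ρ (by simp), g1, g2, g3, g8]
    simp
  · have := reg_Tt h hη (reg2 (by norm_num) (by norm_num) ha) (ic_inv ha)
    rw [hT, List.sum_toFinset _ nd.2] at this
    simp only [List.map_cons, List.map_nil, List.sum_cons, List.sum_nil, g1, g2, g3, g4, g5, g6,
      g7, g8, g9, g10] at this
    linarith
  · obtain ⟨j, h1, -, h2⟩ := card_Iv hC (by norm_num) hP ha
    have := inv_int hC (by norm_num) (he ▸ h) hP ha ha hη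
    rw [hT, List.sum_toFinset _ nd.2, h2, hV, hG] at this
    simp only [List.map_cons, List.map_nil, List.sum_cons, List.sum_nil, g1, g2, g3, g4, g5, g6,
      g7, g8, g9, g10, d1, d2, d3, d4, d5, d6, d7, d8, d9, d10] at this
    refine ⟨j, hV ▸ h1, ?_⟩
    generalize cc a = C at this ⊢
    norm_num at this
    linarith

theorem zero_of_dvd {q m : ℕ} (hq : q.Prime) (hG : Nat.card G = q * m) (hm : ¬ q ∣ m)
    {χ : IrrCharacter G} (hd : q ∣ dg χ) {g : G} (hg : q ∣ orderOf g) : χ.1 g = 0 := by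
  refine eq_zero_of_pow_factorization_dvd hq χ.2 ((pow_dvd_pow q ?_).trans
    (by rw [pow_one]; exact hd)) hg
  exact Nat.lt_succ_iff.1 (not_le.1 fun h2 => hm ((mul_dvd_mul_iff_left hq.ne_zero).1
    (by rw [← hG, ← pow_two]; exact (hq.pow_dvd_iff_le_factorization Nat.card_pos.ne').2 h2)))

/-- The decomposition of a character of small degree. -/
theorem dec (hG : Nat.card G = 244823040) (B : Bk 11 n1 10 1 L1 E1 s1)
    (S : S11 b c ρ α β β' ζ ψ ψ' l κ θ θ') {T : G → ℂ} (hT : IsCharacter G T) {d : ℕ}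
    (hd : T 1 = d) (hlt : d < 483) (h1 : classInner T (fun _ => 1) = 1) {r : ℤ}
    (hr : ∀ y, orderOf y = 11 → T y = r) :
    ∃ (m : IrrCharacter G → ℕ) (R : Finset (IrrCharacter G)), (∀ χ ∈ R, 11 ∣ dg χ) ∧
      d = 1 + 23 * m α + 45 * m β + 45 * m β' + 252 * m ρ + ∑ χ ∈ R, m χ * dg χ ∧
      r + m ρ = 1 + m α + m β + m β' ∧
      ∀ g, T g = 1 + m α * α.1 g + m β * β.1 g + m β' * β'.1 g + m ρ * ρ.1 g +
        ∑ χ ∈ R, m χ * χ.1 g := by
  classical
  obtain ⟨m, hm1, hm⟩ := hT.exists_nat_coeffs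
  have m1 : m (one G) = 1 := by exact_mod_cast (hm1 (one G)).symm.trans h1
  have hm' : ∀ g, T g = ∑ χ, m χ * χ.1 g := fun g => by
    simpa [Finset.sum_apply] using congrFun hm g
  simp only [sum_list (nd11 S), List.map_cons, List.map_nil, List.sum_cons, List.sum_nil, m1]
    at hm'
  generalize hR : [one G, α, β, β', ζ, ψ, ψ', l, ρ, κ, b].toFinsetᶜ = R at hm'
  have hR' : ∀ χ ∈ R, 11 ∣ dg χ := fun χ h => by_contra fun h2 => by
    rw [← hR, Finset.mem_compl, List.mem_toFinset] at h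
    exact h (S.out χ h2)
  obtain ⟨d1, d2, d3, d4, d5, d6, d7, d8, d9, d10, -⟩ := degs S
  have e1 := hm' 1
  simp only [hd, ← coe_dg, d1, d2, d3, d4, d5, d6, d7, d8, d9, d10] at e1
  have e2 : d = 1 + (m α * 23 + (m β * 45 + (m β' * 45 + (m ζ * 1035 + (m ψ * 1035 + (m ψ' * 1035 +
      (m l * 3312 + (m ρ * 252 + (m κ * 483 + m b * 5796))))))))) + ∑ χ ∈ R, m χ * dg χ := by
    simp only [Nat.cast_one, mul_one, add_zero] at e1
    exact_mod_cast e1
  have z : m ζ = 0 ∧ m ψ = 0 ∧ m ψ' = 0 ∧ m l = 0 ∧ m κ = 0 ∧ m b = 0 := by omega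
  have e3 : ∀ g, T g = 1 + m α * α.1 g + m β * β.1 g + m β' * β'.1 g + m ρ * ρ.1 g +
      ∑ χ ∈ R, m χ * χ.1 g := fun g => by
    rw [hm' g]
    simp only [z, Nat.cast_zero, zero_mul, Nat.cast_one, mul_one]
    ring
  refine ⟨m, R, hR', by omega, ?_, e3⟩
  obtain ⟨⟨y, hy⟩, hv, -⟩ := blk hG B S
  obtain ⟨v1, v2, v3, v4⟩ := hv y hy.symm.dvd
  have e4 := e3 y
  rw [hr y hy, v1, v2, v3, v4, Finset.sum_eq_zero fun χ h => by
    rw [zero_of_dvd (m := 22256640) (by norm_num) hG (by norm_num) (hR' χ h) hy.symm.dvd,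
      mul_zero]] at e4
  have : ((r + m ρ : ℤ) : ℂ) = (1 + m α + m β + m β' : ℤ) := by
    push_cast; linear_combination e4
  exact_mod_cast this

theorem int_α (S : S11 b c ρ α β β' ζ ψ ψ' l κ θ θ') (g : G) : (iv α g : ℂ) = α.1 g := by
  obtain ⟨d1, d2, d3, d4, d5, d6, d7, d8, d9, d10, -⟩ := degs S
  refine int_of_deg fun χ h => ?_
  have := S.out χ (by omega)
  have d0 := dg_one (G := G)
  simp only [List.mem_cons, List.not_mem_nil, or_false] at this
  rcases this with e | e | e | e | e | e | e | e | e | e | e <;> rw [e] at h ⊢ <;> omega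

theorem big_deg (hG : Nat.card G = 244823040) (A : Bk 23 n 11 1 L E s)
    (B : Bk 11 n1 10 1 L1 E1 s1) (S : S11 b c ρ α β β' ζ ψ ψ' l κ θ θ') {χ : IrrCharacter G}
    (h : 11 ∣ dg χ) (h2 : dg χ ≤ 275) : 231 ≤ dg χ ∧ dg χ ≤ 264 := by
  have h11 : dg χ ≠ 11 := fun e => by
    obtain ⟨m, R, -, e1, e2, -⟩ := dec hG B S (χ.2.isCharacter.mul χ.2.isCharacter.conj) (d := 121)
      (by rw [Pi.mul_apply, ← coe_dg, e, map_natCast]; norm_num) (by norm_num) (r := 0)
      (by rw [classInner_one_right]; exact χ.2.classInner_self) fun y hy => by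
        rw [Pi.mul_apply, zero_of_dvd (m := 22256640) (by norm_num) hG (by norm_num) h hy.symm.dvd,
          zero_mul, Int.cast_zero]
    omega
  have h22 := S.n22 χ
  have h3 := A.r23 χ
  have h4 := dg_dvd χ
  have h5 := dg_pos χ
  rw [hG] at h4
  obtain ⟨j, hj⟩ := h
  rw [hj] at h11 h22 h3 h4 h5 h2 ⊢
  have h6 : j ≤ 25 := by omega
  interval_cases j <;> simp_all

theorem symSq (hG : Nat.card G = 244823040) (A : Bk 23 n 11 1 L E s)
    (B : Bk 11 n1 10 1 L1 E1 s1) (S : S11 b c ρ α β β' ζ ψ ψ' l κ θ θ') (g : G) :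
    (α.1 g ^ 2 + α.1 (g * g)) / 2 = 1 + α.1 g + ρ.1 g := by
  have re : ∀ g, (α.1 g).im = 0 := fun g => by rw [← int_α S g, Complex.intCast_im]
  have d1 := (degs S).1
  obtain ⟨m, R, hR, e1, e2, e3⟩ := dec hG B S (H30.isCharacter_symSq α.2.isCharacter) (d := 276)
    (by rw [mul_one, ← coe_dg, d1]; norm_num) (by norm_num) (r := 1) (by
      have h1 := H30.average_sq_irr α.2
      have h2 := H30.fsInd_eq_one_of_odd α.2 re (coe_dg α).symm (by rw [d1]; decide)
      rw [if_pos re] at h1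
      rw [H30.fsInd] at h2
      rw [classInner_one_right, ← Finset.sum_div, Finset.sum_add_distrib]
      linear_combination (h1 + h2) / 2) fun y hy => by
      have hv := (blk hG B S).2.1
      rw [(hv y hy.symm.dvd).1, (hv (y * y) (by
        rw [← pow_two, Nat.Coprime.orderOf_pow (by rw [hy]; norm_num), hy])).1]
      norm_num
  have k : ∀ χ ∈ R, 231 * m χ ≤ m χ * dg χ ∧ m χ * dg χ ≤ 264 * m χ := fun χ h => by
    rcases Nat.eq_zero_or_pos (m χ) with h0 | h0
    · simp [h0]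
    have h1 := Finset.single_le_sum (f := fun χ => m χ * dg χ) (fun _ _ => Nat.zero_le _) h
    have h2 := Nat.le_mul_of_pos_left (dg χ) h0
    have := big_deg hG A B S (hR χ h) (by omega)
    rw [mul_comm 231, mul_comm 264]
    exact ⟨Nat.mul_le_mul_left _ this.1, Nat.mul_le_mul_left _ this.2⟩
  have k1 := Finset.sum_le_sum fun χ h => (k χ h).1
  have k2 := Finset.sum_le_sum fun χ h => (k χ h).2
  rw [← Finset.mul_sum] at k1 k2
  have z : m α = 1 ∧ m β = 0 ∧ m β' = 0 ∧ m ρ = 1 ∧ ∑ χ ∈ R, m χ = 0 := by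
    rcases (show m ρ = 0 ∨ m ρ = 1 by omega) with h | h <;> rw [h] at e1 e2 ⊢
    · rcases (show ∑ χ ∈ R, m χ = 0 ∨ ∑ χ ∈ R, m χ = 1 by omega) with h | h <;> omega
    · omega
  have := e3 g
  rw [Finset.sum_eq_zero fun χ h => by
    rw [Finset.sum_eq_zero_iff.1 z.2.2.2.2 χ h, Nat.cast_zero, zero_mul]] at this
  simpa [z.1, z.2.1, z.2.2.1, z.2.2.2.1] using this

variable [IsSimpleGroup G] (hG : Nat.card G = 244823040) (A : Bk 23 n 11 1 L E s)
  (B : Bk 11 n1 10 1 L1 E1 s1) (S : S11 b c ρ α β β' ζ ψ ψ' l κ θ θ')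
include hG A B S

theorem invs {t : G} (ht : orderOf t = 2) : (cc t = 7680 ∧ iv α t = -1 ∧ iv β t = 5) ∨
    (cc t = 10752 ∧ iv α t = 7 ∧ iv β t = -3) ∨ (cc t = 21504 ∧ iv α t = 7 ∧ iv β t = -3) := by
  have hna : ¬ IsMulCommutative G := nonabelian_of_card_not_prime (by rw [hG]; norm_num)
  have t2 := H83.mul_self_of_orderOf_two ht
  have h11 := B.not_dvd_cc rfl (a := t) (by simp [ht])
  have hk : ∀ χ ∈ [α, β, β', ζ, ψ, ψ', l, ρ, κ, b, c, θ, θ'], k (cc t) (dg χ) (iv χ t) = true :=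
    fun χ h => by
      have := ok_of hna (qs := []) (by simp) (p := 11)
        (fun e : χ = one G => (List.nodup_cons.1 S.nd).1 (e ▸ h)) ht (fun h => absurd h h11)
        (Or.inl rfl)
      rwa [one_mul, one_mul, iv_one, hG] at this
  obtain ⟨d1, d2, d3, d4, d5, d6, d7, d8, d9, d10, d11, d12, d13⟩ := degs S
  simp only [List.forall_mem_cons, d1, d2, d3, d4, d5, d6, d7, d8, d9, d10, d11, d12, d13,
    Nat.cast_ofNat] at hk
  obtain ⟨k1, k2, -, k4, k5, -, k7, k8, k9, k10, k11, k12, -⟩ := hk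
  obtain ⟨i1, i2, i3, i4, i5, i6, i7⟩ := S.inv t t2
  obtain ⟨r1, j, hj, r2⟩ := (blk hG B S).2.2 t t2
  have r3 := symSq hG A B S t
  rw [t2, ← coe_dg, d1, ← ic_inv t2 α, ← ic_inv t2 ρ] at r3
  have r4 : ((2 * iv ρ t : ℤ) : ℂ) = (iv α t * iv α t - 2 * iv α t + 21 : ℤ) := by
    push_cast at r3 ⊢; linear_combination -2 * r3
  have r5 := sq_le S.nd (ic_inv t2)
  simp only [MN.sq, pr, List.map_cons, List.map_nil, List.sum_cons, List.sum_nil, i1, i5, i7] at r5
  rw [i1, i7] at r1 r2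
  refine spec (dvd_of_not_dvd (q := 11) (by norm_num) (dvd_of_not_dvd (q := 23)
    (by norm_num) (show cc t ∣ 244823040 from hG ▸ card_subgroup_dvd_card _)
    (A.not_dvd_cc rfl (by simp [ht]))) h11) (two_dvd_cc ht) k1 k2 k8 k11 k4 k12 k5 k10 k9 k7
    (by exact_mod_cast r4) (by rw [i2, pow_two]) (by rw [i3, pow_two]) i4 i6 (by linarith)
    (fun h5 => ?_) (by omega) ?_
  · obtain ⟨w, hw, hc⟩ := exists_comm (by norm_num) h5
    have h1 : b.1 (w * t) = (1 : ℤ) := by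
      rw [S.b5 _ (dvd_orderOf_mul (by norm_num) hw hc (by simp [ht])), Int.cast_one]
    have := iv_cong (p := 5) (by norm_num) (hw ▸ pow_orderOf_eq_one w) hc (coe_iv ⟨_, h1⟩)
      (ic_inv t2 b)
    rw [iv_eq h1] at this
    omega
  · rw [fF]
    interval_cases j
    · left; push_cast at r2; linarith
    · right; push_cast at r2; linarith

theorem eq7 {g : G} (hg : 7 ∣ orderOf g) : iv α g ^ 2 + iv α (g * g) = 2 + 2 * iv α g := by
  have h := symSq hG A B S g
  rw [zero_of_dvd (q := 7) (m := 34974720) (by norm_num) hG (by norm_num) (χ := ρ)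
    (by rw [(degs S).2.2.2.2.2.2.2.1]; norm_num) hg, ← int_α S, ← int_α S] at h
  have : ((iv α g ^ 2 + iv α (g * g) : ℤ) : ℂ) = (2 + 2 * iv α g : ℤ) := by
    push_cast; linear_combination 2 * h
  exact_mod_cast this

theorem val7 {w : G} (hw : orderOf w = 7) : iv α w = 2 := by
  have hna : ¬ IsMulCommutative G := nonabelian_of_card_not_prime (by rw [hG]; norm_num)
  have d1 := (degs S).1
  have h1 := iv_cong (p := 7) (by norm_num) (hw ▸ pow_orderOf_eq_one w) (Commute.one_right w)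
    (int_α S _) (int_α S _)
  have h2 := eq7 hG A B S hw.symm.dvd
  have h3 := abs_lt.1 (iv_lt hna (χ := α) (fun e => by rw [e, dg_one] at d1; omega) (a := w * w)
    (fun e => by
      have := orderOf_dvd_of_pow_eq_one ((pow_two w).trans e)
      rw [hw] at this
      omega) (int_α S _))
  rw [mul_one, iv_one, d1] at h1
  rw [d1] at h3
  push_cast at h1 h3
  obtain ⟨h3, h3'⟩ := h3
  have h4 : iv α w < 9 := by nlinarith
  have h5 : -5 < iv α w := by nlinarith
  omega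

theorem val14 {w t : G} (hw : orderOf w = 7) (ht : orderOf t = 2) (hc : Commute w t) :
    iv α (w * t) = 0 := by
  have t2 := H83.mul_self_of_orderOf_two ht
  have h1 := iv_cong (p := 7) (by norm_num) (hw ▸ pow_orderOf_eq_one w) hc (int_α S _) (int_α S _)
  have h2 := eq7 hG A B S (dvd_orderOf_mul (by norm_num) hw hc (by simp [ht]))
  rw [← pow_two (w * t), hc.mul_pow, pow_two t, t2, mul_one, val7 hG A B S (w := w ^ 2)
    (by rw [Nat.Coprime.orderOf_pow (by rw [hw]; norm_num), hw])] at h2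
  have h3 : iv α (w * t) * (iv α (w * t) - 2) = 0 := by linear_combination h2
  have h4 := invs hG A B S ht
  rcases mul_eq_zero.1 h3 with h | h <;> omega

theorem not_four {w : G} (hw : orderOf w = 7) : ¬ 4 ∣ cc w := fun h4 => by
  obtain ⟨U0, hU0⟩ := Sylow.exists_subgroup_card_pow_prime 2 (n := 2) h4
  obtain ⟨U, hU, hc⟩ : ∃ U : Subgroup G, Nat.card U = 4 ∧ ∀ u ∈ U, Commute w u :=
    ⟨U0.map (Subgroup.subtype _), by rw [card_map_of_injective (subtype_injective _), hU0]; rfl,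
      by rintro _ ⟨u, -, rfl⟩; exact (mem_centralizer_singleton.1 u.2).symm⟩
  have h2 : ∀ u ∈ U, u ^ 2 = 1 := fun u hu => by_contra fun h => by
    have h1 : (u ^ 2) ^ 2 = 1 := by
      rw [← pow_mul, show 2 * 2 = Nat.card U from hU.symm]
      exact congrArg Subtype.val (pow_card_eq_one' (x := (⟨u, hu⟩ : U)))
    have h3 := eq7 hG A B S (dvd_orderOf_mul (by norm_num) hw (hc u hu) fun h5 => by
      have := h5.trans (orderOf_dvd_of_pow_eq_one ((pow_mul u 2 2).trans h1))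
      omega)
    rw [← pow_two (w * u), (hc u hu).mul_pow, val14 hG A B S (w := w ^ 2)
      (by rw [Nat.Coprime.orderOf_pow (by rw [hw]; norm_num), hw]) (orderOf_eq_prime h1 h)
      ((hc u hu).pow_pow 2 2)] at h3
    have h5 : iv α (w * u) < 3 := by nlinarith
    have h6 : -1 < iv α (w * u) := by nlinarith
    interval_cases iv α (w * u) <;> omega
  have hi : ∀ u ∈ U, u⁻¹ = u := fun u hu =>
    inv_eq_of_mul_eq_one_right ((pow_two u).symm.trans (h2 u hu))
  have hU1 : U ≤ Cen U := fun u hu v hv => by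
    rw [← hi _ (mul_mem hv hu), mul_inv_rev, hi u hu, hi v hv]
  cases nonempty_fintype U
  have h5 := (isCharacter_cPart (incl_mem_center hU1) 1 (α.2.isCharacter.restrict (Cen U))).isIntegral
    ⟨w, fun u hu => (hc u hu).eq.symm⟩
  have h6 := H43.sum_subgroup_ite (A := U) le_rfl (fun u => α.1 (u * w)) (β := 0) (γ := 0)
    (fun u hu h1 => by
      rw [← (hc u hu).eq, ← int_α S, val14 hG A B S hw (orderOf_eq_prime (h2 u hu) h1) (hc u hu),
        Int.cast_zero]) fun u hu h => absurd hu h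
  rw [one_mul, ← int_α S, val7 hG A B S hw] at h6
  have h7 : ACong ((4 : ℤ) : ℂ) ((2 : ℤ) : ℂ) 0 := ⟨_, h5, by
    simp only [cPart, MonoidHom.one_apply, Units.val_one, inv_one, mul_one, hU]
    erw [h6]
    norm_num⟩
  have := h7.int_dvd
  omega

end H71.M24

namespace H71.M24
open Cfsg H28 H29 H39 H87 Subgroup H45 H45.MO H45.MN H45.M24

universe u

theorem jobP6 : JobP6.{u} := by
  rintro G _ _ _ hG ⟨n, L, E, s, A⟩ ⟨n1, L1, E1, s1, B⟩ b c ρ α β β' ζ ψ ψ' l κ θ θ' S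
  have hi := fun t ht => invs hG A B S (t := t) ht
  obtain ⟨z, hz, h1⟩ := exists_central_inv (G := G) (n := 9) (by rw [hG]; norm_num)
  have h2 : cc z = 21504 ∧ iv α z = 7 := by have := hi z hz; omega
  obtain ⟨d1, d2, -⟩ := degs S
  refine ⟨z, hG, hz, h2.1, α.2.isCharacter, fun g => ?_, by rw [← coe_dg, d1]; rfl,
    by rw [← int_α S, h2.2]; rfl, fun t ht => ?_, fun y hy => ?_, fun U hU => ?_⟩
  · rw [α.2.isCharacter.apply_inv, ← int_α S, map_intCast]
  · rw [← int_α S]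
    rcases hi t ht with h | h | h <;> simp [h]
  · have h4 := not_four hG A B S hy
    rcases S.v7 with ⟨_, _, _, _, C⟩ | ⟨_, _, _, _, C⟩ | ⟨_, _, _, _, C⟩ <;>
      have h5 := C.ccp y hy
    · exact ⟨h5, by rw [C.card_nor hy, h5]⟩
    all_goals omega
  · cases nonempty_fintype U
    obtain ⟨m, hm⟩ := exists_sum_eq (α.2.isCharacter.add β.2.isCharacter) U
    rw [H43.sum_subgroup_ite le_rfl (α.1 + β.1) (β := 4) (γ := 0) (fun u hu h1 => by
      have h2 := orderOf_eq_prime (hU.2 u hu) h1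
      rw [Pi.add_apply, ← int_α S, ← ic_inv (H83.mul_self_of_orderOf_two h2) β]
      rcases hi u h2 with h | h | h <;> rw [h.2.1, h.2.2] <;> norm_num)
      (fun u hu h => absurd hu h), Pi.add_apply, ← coe_dg, ← coe_dg, d1, d2] at hm
    have : (64 : ℂ) + 4 * Nat.card U = Nat.card U * m := by push_cast at hm; linear_combination hm
    have : 64 + 4 * Nat.card U = Nat.card U * m := by exact_mod_cast this
    exact Nat.le_of_dvd (by norm_num) ((Nat.dvd_add_left (dvd_mul_left _ 4)).1 ⟨m, this⟩)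

end H71.M24
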