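/- Tower KU, slot Ch: extend a `u`-stable isotropic flag to a chamber. -/
import Cfsg.Agent.H53.KUSpec

set_option autoImplicit false

namespace H71.KUCh

open Cfsg H59 H53.WU H53.KU Module

theorem step (hE : JobExt) (S : HS) (u : S.G) (hu : PE u) (k : ℕ) (hk : k < S.n / 2) (x : Fin k → S.V)
    (h1 : ∀ i j, S.B (x i) (x j) = 0) (h2 : LinearIndependent S.F x)
    (h3 : ∀ i, u.1 (x i) - x i ∈ Submodule.span S.F (x '' {j | j < i})) :
    ∃ x' : Fin (k + 1) → S.V, (∀ i, x' i.castSucc = x i) ∧ (∀ i j, S.B (x' i) (x' j) = 0) ∧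
      LinearIndependent S.F x' ∧ ∀ i, u.1 (x' i) - x' i ∈ Submodule.span S.F (x' '' {j | j < i}) := by
  set R := Submodule.span S.F (Set.range x) with hR
  have hx : ∀ i, x i ∈ R := fun i => Submodule.subset_span ⟨i, rfl⟩
  have hR1 : ∀ i, ∀ b ∈ R, S.B (x i) b = 0 := fun i b hb => by
    refine (Submodule.span_le (p := LinearMap.ker (S.B (x i)))).2 ?_ hb
    rintro _ ⟨j, rfl⟩
    simpa using h1 i j
  have hR2 : ∀ a ∈ R, ∀ b ∈ R, S.B a b = 0 := fun a ha b hb => by
    refine (Submodule.span_le (p := LinearMap.ker (S.B a))).2 ?_ hb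
    rintro _ ⟨j, rfl⟩
    have := hR1 j a ha
    simp only [SetLike.mem_coe, LinearMap.mem_ker]
    rw [← S.h.symm, this, map_zero]
  have hR3 : ∀ a ∈ R, u.1 a ∈ R := fun a ha => by
    refine (Submodule.span_le (p := R.comap u.1.toLinearMap)).2 ?_ ha
    rintro _ ⟨j, rfl⟩
    have := R.add_mem (Submodule.span_mono (Set.image_subset_range _ _) (h3 j)) (hx j)
    simpa using this
  have hR4 : finrank S.F R < S.n / 2 := by
    rw [hR, finrank_span_eq_card h2]; simpa using hk
  obtain ⟨y, hy0, hy1, hy2, hy3⟩ := hE S u R hu hR2 hR3 hR4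
  refine ⟨Fin.snoc (α := fun _ => S.V) x y, fun i => by simp, ?_, ?_, ?_⟩
  · intro i j
    induction i using Fin.lastCases with
    | last =>
      induction j using Fin.lastCases with
      | last => simpa using hy1
      | cast j =>
        simp only [Fin.snoc_last, Fin.snoc_castSucc]
        rw [← S.h.symm, hy2 _ (hx j), map_zero]
    | cast i =>
      induction j using Fin.lastCases with
      | last => simpa using hy2 _ (hx i)
      | cast j => simpa using h1 i j
  · exact linearIndependent_finSnoc.2 ⟨h2, hy0⟩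
  · intro i
    induction i using Fin.lastCases with
    | last =>
      simp only [Fin.snoc_last]
      refine Submodule.span_mono ?_ hy3
      rintro _ ⟨j, rfl⟩
      exact ⟨j.castSucc, Fin.castSucc_lt_last j, by simp⟩
    | cast i =>
      simp only [Fin.snoc_castSucc]
      refine Submodule.span_mono ?_ (h3 i)
      rintro _ ⟨j, hj, rfl⟩
      exact ⟨j.castSucc, Fin.castSucc_lt_castSucc_iff.2 hj, by simp⟩

theorem jobCh (hE : JobExt) (hF : JobFrm) : JobCh := by
  intro S m u hm hu k hk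
  obtain ⟨d, hd⟩ : ∃ d, m = k + d := ⟨m - k, by omega⟩
  induction d generalizing k with
  | zero =>
    obtain rfl : k = m := by omega
    intro x h1 h2 h3
    obtain ⟨Φ, hΦ⟩ := hF S k x h1 h2
    refine ⟨Φ, fun i => by rw [hΦ]; rfl, fun i => ?_⟩
    have := h3 i
    simp only [Pi.one_apply, Units.val_one, one_smul, Fr.W, hΦ]
    exact this
  | succ d ih =>
    intro x h1 h2 h3
    obtain ⟨x', e0, e1, e2, e3⟩ := step hE S u hu k (by omega) x h1 h2 h3
    obtain ⟨Φ, hΦ, hv⟩ := ih (k + 1) (by omega) (by omega) x' e1 e2 e3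
    exact ⟨Φ, fun i => by rw [← e0 i, ← hΦ]; rfl, hv⟩

end H71.KUCh
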