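import Cfsg.Agent.H71.HKSk

/-! HKS job M0a: two-point stabilisers contain no elementary abelian group of order eight. -/

set_option autoImplicit false

namespace H71.HK

open MulAction Cfsg Subgroup H89.K H65 H7.HKS

universe u

theorem num1 {m A B C : ℕ} (e : m = A * B * C) (hA : 3 ≤ A) (hB : A ≤ B) (hC : A ≤ C)
    (h : m ≤ A * (A + 2)) : False := by
  have : B * C ≤ A + 2 := Nat.le_of_mul_le_mul_left (by rw [← mul_assoc, ← e]; exact h) (by omega)
  nlinarith [Nat.mul_le_mul hB hC]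

theorem num2 {m A B C r : ℕ} (e : m * r ^ 2 = A * B * C) (h : m = A) (h0 : 0 < m) (hB : r ≤ B)
    (hC : r ≤ C) (h1 : 0 < r) : B = r ∧ C = r := by
  subst h
  have : r ^ 2 = B * C := Nat.eq_of_mul_eq_mul_left h0 (by rw [e, mul_assoc])
  constructor <;> nlinarith

theorem num3 {A B : ℕ} (e : A * (A + 2) = B * (B + 2)) : A = B := by nlinarith

theorem num4 {A r : ℕ} (h3 : 3 ≤ A) (e : A * (A + 2) * r ^ 2 = A * A * A) : False := by
  have h : (A + 2) * r ^ 2 = A * A := Nat.eq_of_mul_eq_mul_left (by omega : 0 < A) (by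
    rw [← mul_assoc, e, mul_assoc])
  obtain ⟨B, rfl⟩ : ∃ B, A = B + 2 := ⟨A - 2, by omega⟩
  have : B + 2 + 2 ∣ 4 := (Nat.dvd_add_right (Dvd.intro B rfl)).1 ⟨r ^ 2, by rw [h]; ring⟩
  have := Nat.le_of_dvd (by decide) this
  omega

abbrev V8 := ZMod 2 × ZMod 2 × ZMod 2

/-- `x`, `y`, `z` is a basis. -/
def Bas (x y z : V8) : Prop := x ≠ 0 ∧ ∀ e : V8, e = 0 ∨ e = x ∨ e = y ∨ e = z ∨ e = x + y ∨
  e = x + z ∨ e = y + z ∨ e = x + y + z

instance (x y z : V8) : Decidable (Bas x y z) := by unfold Bas; infer_instance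

/-- The Fano plane. -/
theorem fano (M : V8 → ℕ) (L : V8 → V8 → ℕ) (r : ℕ)
    (tri : ∀ x y z, x + y = z → x ≠ 0 → y ≠ 0 → z ≠ 0 → L y x = L x y ∧ L x z = L x y ∧
      L z x = L x y ∧ L y z = L x y ∧ L z y = L x y ∧ ¬ (M x = L x y ∧ M y = L x y) ∧
      ¬ (M x = L x y ∧ M z = L x y) ∧ ¬ (M y = L x y ∧ M z = L x y))
    (pt : ∀ x y z p, y + z = p → Bas x y z →
      (r = 1 → (L y x = 1 ∨ L z x = 1 ∨ L p x = 1) ∧ ¬ (L y x = 1 ∧ L z x = 1 ∧ L p x = 1)) ∧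
      (r ≠ 1 → (M x = L y x ∧ L z x = r ∧ L p x = r) ∨ (M x = L z x ∧ L y x = r ∧ L p x = r) ∨
        (M x = L p x ∧ L y x = r ∧ L z x = r))) : False := by
  obtain ⟨a1, a2, -, -, -, a6⟩ := tri (1, 0, 0) (0, 1, 0) (1, 1, 0) rfl (by decide) (by decide)
    (by decide)
  obtain ⟨b1, b2, -, -, -, b6⟩ := tri (1, 0, 0) (0, 0, 1) (1, 0, 1) rfl (by decide) (by decide)
    (by decide)
  obtain ⟨c1, c2, -, -, -, c6⟩ := tri (0, 1, 0) (0, 0, 1) (0, 1, 1) rfl (by decide) (by decide)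
    (by decide)
  obtain ⟨d1, d2, -, -, -, d6⟩ := tri (1, 0, 0) (0, 1, 1) (1, 1, 1) rfl (by decide) (by decide)
    (by decide)
  obtain ⟨e1, e2, -, -, -, e6⟩ := tri (0, 1, 0) (1, 0, 1) (1, 1, 1) rfl (by decide) (by decide)
    (by decide)
  obtain ⟨f1, -, -, f4, -, f6⟩ := tri (0, 0, 1) (1, 1, 0) (1, 1, 1) rfl (by decide) (by decide)
    (by decide)
  obtain ⟨g1, g2, -, -, -, g6⟩ := tri (1, 1, 0) (1, 0, 1) (0, 1, 1) rfl (by decide) (by decide)
    (by decide)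
  have p1 := pt (1, 0, 0) (0, 1, 0) (0, 0, 1) (0, 1, 1) rfl (by decide)
  have p2 := pt (0, 1, 0) (1, 0, 0) (0, 0, 1) (1, 0, 1) rfl (by decide)
  have p3 := pt (0, 0, 1) (1, 0, 0) (0, 1, 0) (1, 1, 0) rfl (by decide)
  have p4 := pt (1, 1, 0) (1, 0, 0) (0, 0, 1) (1, 0, 1) rfl (by decide)
  have p5 := pt (1, 0, 1) (1, 0, 0) (0, 1, 0) (1, 1, 0) rfl (by decide)
  have p6 := pt (0, 1, 1) (1, 0, 0) (0, 1, 0) (1, 1, 0) rfl (by decide)
  have p7 := pt (1, 1, 1) (1, 0, 0) (0, 1, 0) (1, 1, 0) rfl (by decide)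
  rw [a1, b1, d1] at p1
  rw [c1, e1] at p2
  rw [f1] at p3
  rw [a2, g1] at p4
  rw [b2] at p5
  rw [c2, g2] at p6
  rw [d2, e2, f4] at p7
  clear a1 a2 b1 b2 c1 c2 d1 d2 e1 e2 f1 f4 g1 g2 tri pt
  generalize L (1, 0, 0) (0, 1, 0) = l1 at *
  generalize L (1, 0, 0) (0, 0, 1) = l2 at *
  generalize L (0, 1, 0) (0, 0, 1) = l3 at *
  generalize L (1, 0, 0) (0, 1, 1) = l4 at *
  generalize L (0, 1, 0) (1, 0, 1) = l5 at *
  generalize L (0, 0, 1) (1, 1, 0) = l6 at *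
  generalize L (1, 1, 0) (1, 0, 1) = l7 at *
  by_cases hr : r = 1
  · replace p1 := p1.1 hr
    replace p2 := p2.1 hr
    replace p3 := p3.1 hr
    replace p4 := p4.1 hr
    replace p5 := p5.1 hr
    replace p6 := p6.1 hr
    replace p7 := p7.1 hr
    clear a6 b6 c6 d6 e6 f6 g6
    by_cases l1 = 1 <;> by_cases l2 = 1 <;> by_cases l3 = 1 <;> by_cases l4 = 1 <;>
      by_cases l5 = 1 <;> by_cases l6 = 1 <;> by_cases l7 = 1 <;> simp_all
  · replace p1 := p1.2 hr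
    replace p2 := p2.2 hr
    replace p3 := p3.2 hr
    replace p4 := p4.2 hr
    replace p5 := p5.2 hr
    replace p6 := p6.2 hr
    replace p7 := p7.2 hr
    generalize M (1, 0, 0) = m1 at *
    generalize M (0, 1, 0) = m2 at *
    generalize M (0, 0, 1) = m3 at *
    generalize M (1, 1, 0) = m4 at *
    generalize M (1, 0, 1) = m5 at *
    generalize M (0, 1, 1) = m6 at *
    generalize M (1, 1, 1) = m7 at *
    by_cases h1 : l1 = r
    swap; · simp_all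
    by_cases h2 : l2 = r
    swap; · simp_all
    by_cases h3 : l3 = r
    swap; · simp_all
    by_cases h4 : l4 = r
    swap; · simp_all
    by_cases h5 : l5 = r
    swap; · simp_all
    by_cases h6 : l6 = r
    swap; · simp_all
    by_cases h7 : l7 = r <;> simp_all

variable {G Ω : Type u} [Group G] [Finite G] [MulAction G Ω] {U : Ω → Subgroup G} {a b : Ω}
  {s g g' : G}

local notation "m[" X "]" => Nat.card (CU U X a)

theorem point (k1 : Kit1.{u}) (k2 : Kit2.{u}) (k3 : Kit3.{u}) (h : Rg U) (hab : a ≠ b)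
    (hs : s ∈ St G a b) (hg : g ∈ St G a b) (hg' : g' ∈ St G a b) (g2 : g * g = 1)
    (g2' : g' * g' = 1) (c : g * s = s * g) (c' : g' * s = s * g') (cc : g * g' = g' * g)
    (al : TA U {s} a ∨ TL U {s} a b) (ne : CU U {s} a ≠ ⊥) {r : ℕ}
    (hr : Nat.card ↥(CU U {s} a ⊓ centralizer {g, g'}) = r) :
    (r = 1 → (m[{g, s}] = 1 ∨ m[{g', s}] = 1 ∨ m[{g * g', s}] = 1) ∧
      ¬ (m[{g, s}] = 1 ∧ m[{g', s}] = 1 ∧ m[{g * g', s}] = 1)) ∧
    (r ≠ 1 → (m[{s}] = m[{g, s}] ∧ m[{g', s}] = r ∧ m[{g * g', s}] = r) ∨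
      (m[{s}] = m[{g', s}] ∧ m[{g, s}] = r ∧ m[{g * g', s}] = r) ∨
      (m[{s}] = m[{g * g', s}] ∧ m[{g, s}] = r ∧ m[{g', s}] = r)) := by
  have W := (k1.wie (CU U {s} a) g g' (odd_CU h _) (H61.Hk.norm_CU h.toSp hg.1 c)
    (H61.Hk.norm_CU h.toSp hg'.1 c') g2 g2' cc).1
  rw [hr, CU_pair, CU_pair, CU_pair] at W
  have gg2 : g * g' * (g * g') = 1 := by
    rw [mul_assoc, ← mul_assoc g', ← cc, mul_assoc, g2', mul_one, g2]
  have cg : g * g' * s = s * (g * g') := (Commute.mul_left c c' :)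
  have le : ∀ x : G, (∀ u, Commute u g → Commute u g' → Commute u x) → r ≤ m[{x, s}] :=
    fun x hx => hr ▸ card_le_of_le fun u hu => mem_CU2.2 ⟨hu.1.1, hx u
      (hu.2 g (by simp)).symm (hu.2 g' (by simp)).symm, (mem_CU1.1 hu.1).2⟩
  have lA := le g fun _ p _ => p
  have lB := le g' fun _ _ p => p
  have lC := le (g * g') fun _ p q => p.mul_right q
  have r0 : 0 < r := hr ▸ Nat.card_pos
  have m0 : 0 < m[{s}] := Nat.card_pos
  have m1 : m[{s}] ≠ 1 := fun e => ne (card_eq_one.1 e)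
  have oA := Nat.odd_iff.1 (odd_CU (a := a) h {g, s})
  have oB := Nat.odd_iff.1 (odd_CU (a := a) h {g', s})
  have oC := Nat.odd_iff.1 (odd_CU (a := a) h {g * g', s})
  have bd : ∀ x ∈ St G a b, x * x = 1 → x * s = s * x →
      m[{x, s}] = 1 ∨ m[{s}] ≤ m[{x, s}] * (m[{x, s}] + 2) := fun x hx x2 cx => by
    rcases al with ta | tl
    · rcases (klA k2 h hab hs hx x2 cx ta).2 with e | ⟨e, -⟩
      · exact Or.inr (by nlinarith)
      · exact Or.inr e.le
    · rcases klL k1 k3 h hab hs hx x2 cx tl with e | e | e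
      · exact Or.inr (by nlinarith)
      · exact Or.inl e
      · exact Or.inr (by nlinarith)
  have bA := bd g hg g2 c
  have bB := bd g' hg' g2' c'
  have bC := bd _ (mul_mem hg hg') gg2 cg
  have tr : r ≠ 1 → m[{s}] = m[{g, s}] ∨ m[{s}] = m[{g', s}] ∨ m[{s}] = m[{g * g', s}] := fun r1 => by
    rcases al with ta | tl
    · rcases (klA k2 h hab hs hg g2 c ta).2 with e | ⟨e1, -⟩
      · exact Or.inl e
      rcases (klA k2 h hab hs hg' g2' c' ta).2 with e | ⟨e2, -⟩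
      · exact Or.inr (Or.inl e)
      rcases (klA k2 h hab hs (mul_mem hg hg') gg2 cg ta).2 with e | ⟨e3, -⟩
      · exact Or.inr (Or.inr e)
      rw [← num3 (e1.symm.trans e2), ← num3 (e1.symm.trans e3), e1] at W
      exact (num4 (by omega) W).elim
    · rcases klL3 k1 k3 h hab hs hg hg' g2 g2' c c' cc tl with e | e
      · exact e
      · omega
  generalize m[{g, s}] = A at *
  generalize m[{g', s}] = B at *
  generalize m[{g * g', s}] = C at *
  generalize m[{s}] = m at *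
  refine ⟨fun r1 => ?_, fun r1 => ?_⟩
  · rw [r1, one_pow, mul_one] at W
    refine ⟨?_, fun ⟨p1, p2, p3⟩ => m1 (by rw [W, p1, p2, p3])⟩
    by_contra n
    rcases (show (A ≤ B ∧ A ≤ C) ∨ (B ≤ A ∧ B ≤ C) ∨ (C ≤ A ∧ C ≤ B) by omega) with e | e | e
    · exact num1 W (by omega) e.1 e.2 (by omega)
    · exact num1 (W.trans (by ring)) (by omega) e.1 e.2 (by omega)
    · exact num1 (W.trans (by ring)) (by omega) e.1 e.2 (by omega)
  · rcases tr r1 with e | e | e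
    · exact Or.inl ⟨e, num2 W e m0 lB lC r0⟩
    · exact Or.inr (Or.inl ⟨e, num2 (W.trans (by ring)) e m0 lA lC r0⟩)
    · exact Or.inr (Or.inr ⟨e, num2 (W.trans (by ring)) e m0 lA lB r0⟩)

omit [Finite G] in
theorem pow_val (h : s * s = 1) (i j : ZMod 2) : s ^ (i + j).val = s ^ i.val * s ^ j.val := by
  rw [ZMod.val_add, ← pow_add, ← pow_eq_pow_mod _ (by rw [pow_two, h])]

theorem jobM0a (k1 : Kit1.{u}) (k2 : Kit2.{u}) (k3 : Kit3.{u}) : JobM0a.{u} := by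
  intro G Ω _ _ _ U h al a b t v w hab ⟨ht, hv, tv, c⟩ hw w2 c1 c2
  by_contra n
  push Not at n
  obtain ⟨n1, n2, n3, n4⟩ := n
  have t2 := sq_of ht.2
  have v2 := sq_of hv.2
  let ψ : V8 → G := fun x => t ^ x.1.val * v ^ x.2.1.val * w ^ x.2.2.val
  have add : ∀ x y, ψ (x + y) = ψ x * ψ y := fun x y => by
    simp only [ψ, Prod.fst_add, Prod.snd_add, pow_val t2, pow_val v2, pow_val w2]
    rw [(Commute.pow_pow c _ _).mul_mul_mul_comm,
      ((Commute.pow_pow c1 _ _).mul_right (Commute.pow_pow c2 _ _)).symm.mul_mul_mul_comm]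
  have z : ψ 0 = 1 := by simp [ψ]
  have st : ∀ x, ψ x ∈ St G a b := fun x =>
    mul_mem (mul_mem (pow_mem ht.1 _) (pow_mem hv.1 _)) (pow_mem hw _)
  have sq : ∀ x, ψ x * ψ x = 1 := fun x => by
    rw [← add, (by decide : ∀ x : V8, x + x = 0), z]
  have cm : ∀ x y, ψ x * ψ y = ψ y * ψ x := fun x y => by rw [← add, add_comm, add]
  have iv : ∀ {x y : G}, y * y = 1 → x * y = 1 → y = x := fun {x y} p q =>
    (mul_right_cancel (p.trans q.symm) :)
  have ne : ∀ x, x ≠ 0 → ψ x ≠ 1 := by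
    have v0 : (0 : ZMod 2).val = 0 := rfl
    have v1 : (1 : ZMod 2).val = 1 := rfl
    intro x hx e
    rcases (by decide : Bas (1, 0, 0) (0, 1, 0) (0, 0, 1)).2 x with
      rfl | rfl | rfl | rfl | rfl | rfl | rfl | rfl
    · exact hx rfl
    all_goals
      try simp only [add] at e
      simp only [ψ, v0, v1, pow_zero, pow_one, mul_one, one_mul] at e
    exacts [ne_of ht.2 e, ne_of hv.2 e, n1 e, tv (iv v2 e).symm, n2 (iv w2 e), n3 (iv w2 e),
      n4 (iv w2 e)]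
  have ln : ∀ x y z, x + y = z → z ≠ 0 → ¬ (Nat.card (CU U {ψ x} a) = Nat.card (CU U {ψ x, ψ y} a) ∧
      Nat.card (CU U {ψ y} a) = Nat.card (CU U {ψ x, ψ y} a)) := fun x y z e p ⟨e1, e2⟩ =>
    line k1 h.toRg hab (st y) (st x) (sq y) (sq x) (cm x y) (by rw [← add, e]; exact ne z p) e1 e2
  refine fano (fun x => Nat.card (CU U {ψ x} a)) (fun x y => Nat.card (CU U {ψ x, ψ y} a))
    (Nat.card (CU U (Set.range ψ) a)) ?_ ?_
  · rintro x y _ rfl px py pz
    have e1 : CU U {ψ y, ψ x} a = CU U {ψ x, ψ y} a := CU_swap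
    have e2 : CU U {ψ (x + y), ψ y} a = CU U {ψ x, ψ y} a := by rw [add, CU_mul]
    have e3 : CU U {ψ (x + y), ψ x} a = CU U {ψ x, ψ y} a := by rw [add, cm, CU_mul, e1]
    have e4 : CU U {ψ x, ψ (x + y)} a = CU U {ψ x, ψ y} a := CU_swap.trans e3
    have e5 : CU U {ψ y, ψ (x + y)} a = CU U {ψ x, ψ y} a := CU_swap.trans e2
    have l2 := ln x (x + y) y (by rw [← add_assoc, (by decide : ∀ x : V8, x + x = 0), zero_add]) py
    have l3 := ln y (x + y) x (by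
      rw [add_comm x, ← add_assoc, (by decide : ∀ x : V8, x + x = 0), zero_add]) px
    rw [e4] at l2
    rw [e5] at l3
    simp only [e1, e2, e3, e4, e5, true_and]
    exact ⟨ln x y _ rfl pz, l2, l3⟩
  · rintro x y z _ rfl ⟨px, sp⟩
    have iv : Iv (ψ x) a b := ⟨st x, ord2 (sq x) (ne x px)⟩
    simp only [add]
    refine point k1 k2 k3 h.toRg hab (st x) (st y) (st z) (sq y) (sq z) (cm _ _) (cm _ _) (cm _ _)
      (al a b _ hab iv) (h.fx3 hab iv) (congrArg (fun K : Subgroup G => Nat.card K) ?_)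
    ext u
    refine ⟨fun hu => ⟨hu.1.1, ?_⟩, fun hu => ⟨⟨hu.1, ?_⟩, ?_⟩⟩
    · rintro _ ⟨e, rfl⟩
      have p1 : Commute (ψ x) u := hu.1.2 _ rfl
      have p2 : Commute (ψ y) u := hu.2 _ (by simp)
      have p3 : Commute (ψ z) u := hu.2 _ (by simp)
      rcases sp e with rfl | rfl | rfl | rfl | rfl | rfl | rfl | rfl <;> try simp only [add]
      exacts [by simp [ψ], p1, p2, p3, p1.mul_left p2, p1.mul_left p3, p2.mul_left p3,
        (p1.mul_left p2).mul_left p3]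
    · rintro _ rfl
      exact hu.2 _ ⟨x, rfl⟩
    · rintro _ (rfl | rfl)
      exacts [hu.2 _ ⟨y, rfl⟩, hu.2 _ ⟨z, rfl⟩]

end H71.HK
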