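import Cfsg.Agent.H71.HKST1a

/-! HKS job T1: in chapter III all involutions fixing two points have type A or L. -/

set_option autoImplicit false

namespace H71.HK

open MulAction Cfsg Subgroup H89.K H65 H7.HKS H98
open scoped commutatorElement

universe u

variable {G Ω : Type u} [Group G] [Finite G] [MulAction G Ω] {U : Ω → Subgroup G} {a b : Ω}
  {t w y : G} {p f l : ℕ}

local notation "m[" X "]" => Nat.card (CU U X a)

omit [Finite G] in
theorem Big.odd (B : Big U a b t w p f) (h : Rg U) : Odd p :=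
  Odd.of_dvd_nat (B.c2 ▸ odd_CU h {w, t}) (dvd_pow_self p B.f0.ne')

omit [Finite G] in
theorem Big.two_lt (B : Big U a b t w p f) (h : Rg U) : 2 < p := by
  have := B.pr.two_le
  obtain ⟨k, hk⟩ := B.odd h
  omega

/-- The possible orders of `C_U(y)`. -/
theorem opts (k1 : Kit1.{u}) (k2 : Kit2.{u}) (k3 : Kit3.{u}) (h : C3 U) (hab : a ≠ b)
    (B : Big U a b t w p f)
    (mx : ∀ y, Iv y a b → ¬ (TA U {y} a ∨ TL U {y} a b) → m[{y}] ≤ m[{t}]) (hy : Iv y a b)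
    (c : t * y = y * t) (e : m[{t, y}] = p ^ f) :
    (∃ j, m[{y}] = p ^ j ∧ f ≤ j ∧ j ≤ 3 * f ∧ (j = 3 * f → ¬ (TA U {y} a ∨ TL U {y} a b))) ∨
      (m[{y}] = p ^ f * (p ^ f + 2) ∧ ∃ k, m[{y}] + 1 = 2 ^ k) := by
  have f0 := B.f0
  have t2 := sq_of B.fr.1.2
  by_cases n : TA U {y} a ∨ TL U {y} a b
  · rcases n with ta | tl
    · rcases (klA k2 h.toRg hab hy.1 B.fr.1.1 t2 c ta).2 with e1 | e1
      · exact Or.inl ⟨f, e1.trans e, le_rfl, by omega, by omega⟩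
      · exact Or.inr (e ▸ e1)
    · rcases klL k1 k3 h.toRg hab hy.1 B.fr.1.1 t2 c tl with e1 | e1 | e1
      · exact Or.inl ⟨f, e1.trans e, le_rfl, by omega, by omega⟩
      · exact absurd (e.symm.trans e1) (Nat.one_lt_pow f0.ne' B.pr.one_lt).ne'
      · exact Or.inl ⟨f * 2, by rw [e1, e, pow_mul], by omega, by omega, by omega⟩
  obtain ⟨w', p', f', B'⟩ := big k1 k2 h hab hy n
  have d : p ^ f ∣ m[{y}] := e ▸ card_dvd_of_le CU_le1
  have c1 := B'.c1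
  rw [← pow_mul] at c1
  obtain rfl : p = p' := (Nat.prime_dvd_prime_iff_eq B.pr B'.pr).1
    (B.pr.dvd_of_dvd_pow (c1 ▸ (dvd_pow_self p f0.ne').trans d))
  have := mx y hy n
  rw [c1, B.c1, ← pow_mul, Nat.pow_le_pow_iff_right B.pr.one_lt] at this
  exact Or.inl ⟨_, c1, (Nat.pow_dvd_pow_iff_le_right B.pr.one_lt).1 (c1 ▸ d), by omega, fun _ => n⟩

theorem count (k1 : Kit1.{u}) (h : C3 U) (hab : a ≠ b) (hy : Iv y a b) {q r : ℕ} (e : m[{y}] = q)
    (n : Nat.card (U a) = q * r) : ∃ β γ : ℕ,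
      γ * Nat.card ↥(St G a b ⊓ centralizer {y}) = Nat.card (St G a b) ∧ β * (q + 1) = γ * (r - 1) := by
  obtain ⟨-, h1, h2, -⟩ := k1.cnt h.toRg hab hy.1 hy.2 (h.fx3 hab hy) e
  refine ⟨(Jsw y a b).ncard, _, h1, Nat.eq_of_mul_eq_mul_left (e ▸ Nat.card_pos : 0 < q) ?_⟩
  rw [mul_left_comm, h2, n, ← Nat.mul_sub_one q, mul_left_comm]

theorem zs3 (hl : l.Prime) (f0 : 0 < f) (h1 : l ∣ p ^ (6 * f) - 1)
    (z : ∀ k, l ∣ p ^ k - 1 → 6 * f ∣ k) : l ∣ (p ^ f) ^ 3 + 1 :=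
  dvd_add_one hl (by rwa [← pow_mul, ← pow_mul, show f * (3 * 2) = 6 * f by ring]) fun e => by
    have := Nat.le_of_dvd (by omega) (z _ (pow_mul p f 3 ▸ e))
    omega

theorem ldiv (k1 : Kit1.{u}) (h : C3 U) (hab : a ≠ b) (hy : Iv y a b) (hp : p.Prime)
    (hl : l.Prime) (f0 : 0 < f) (h1 : l ∣ p ^ (6 * f) - 1) (z : ∀ k, l ∣ p ^ k - 1 → 6 * f ∣ k)
    (e : m[{y}] = (p ^ f) ^ 3) {n : ℕ} (cU : Nat.card (U a) = p ^ n) (hn : n ≤ 7 * f) :
    ∃ Q ≤ St G a b, IsPGroup l Q ∧ ¬ Q ≤ centralizer {y} := by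
  have lt := lt_U h.toRg hab hy.1 (ne_of hy.2)
  rw [e, cU, ← pow_mul, Nat.pow_lt_pow_iff_right hp.one_lt] at lt
  obtain ⟨d, rfl⟩ := Nat.exists_eq_add_of_lt lt
  obtain ⟨β, γ, g1, g2⟩ := count k1 h hab hy e (r := p ^ (d + 1)) (by
    rw [cU, ← pow_mul, ← pow_add, add_assoc])
  refine sylQ hl g1 (((Nat.Prime.dvd_mul hl).1 (g2 ▸ (zs3 hl f0 h1 z).mul_left β)).resolve_right
    fun e => ?_)
  have := Nat.le_of_dvd (by omega) (z _ e)
  omega

/-- `U` is a `p`-group. -/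
theorem case1 (k1 : Kit1.{u}) (k2 : Kit2.{u}) (h : C3 U) (hab : a ≠ b) (B : Big U a b t w p f)
    {j n : ℕ} (cw : m[{w}] = p ^ j) (hw : j = 3 * f → ¬ (TA U {w} a ∨ TL U {w} a b))
    (cU : Nat.card (U a) = p ^ n) (hj : j ≤ 3 * f) (hn : n ≤ j + 4 * f) : False := by
  have f0 := B.f0
  obtain ⟨l, hl, h1, z⟩ := zs (B.two_lt h.toRg) (show 2 < 6 * f by omega)
  obtain ⟨Q, q1, q2, q3⟩ := ldiv k1 h hab B.fr.1 B.pr hl f0 h1 z B.c1 cU (by omega)
  have r := rank B.pr hl (by omega) h1 z (h.nil a) cU (by omega) q2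
    (fun g hg => norm_U h.toSp (q1 hg).1) fun e => q3 fun g hg => by
      rw [H61.Hk.faith h.toSp hab (q1 hg) fun u hu => e hu g hg]
      exact one_mem _
  have le : ∀ y : G, ⁅CU U {y} a, CU U {y} a⁆ ≤ ⁅U a, U a⁆ := fun y =>
    commutator_mono inf_le_left inf_le_left
  have d := B.der.trans (card_le_of_le (le t))
  have n7 := (Nat.mul_le_mul_right _ d).trans r
  rw [← pow_add, Nat.pow_le_pow_iff_right B.pr.one_lt] at n7
  obtain rfl : n = f + 6 * f := by omega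
  rw [pow_add] at r
  replace r := Nat.le_of_mul_le_mul_right r (pow_pos B.pr.pos _)
  obtain rfl : j = 3 * f := by omega
  rw [mul_comm, pow_mul] at cw
  obtain ⟨w', p', f', B'⟩ := big k1 k2 h hab B.fr.2.1 (hw rfl)
  have e : p' ^ f' = p ^ f := Nat.pow_left_injective (by decide) (B'.c1.symm.trans cw)
  have l1 : ⁅U a, U a⁆ ≤ CU U {t} a := (eq_of_le_of_card_ge (le t) (r.trans B.der)).ge.trans
    (commutator_le_of_le le_rfl le_rfl)
  have l2 : ⁅U a, U a⁆ ≤ CU U {w} a := (eq_of_le_of_card_ge (le w) (r.trans (e ▸ B'.der))).ge.trans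
    (commutator_le_of_le le_rfl le_rfl)
  have c := B.fin (eq_of_le_of_card_ge ((le_inf l1 (l2.trans inf_le_right)).trans CU_pair.le)
    (B.c2 ▸ d))
  obtain ⟨Q', q1', -, q3'⟩ := ldiv k1 h hab B.fr.2.1 B.pr hl f0 h1 z cw cU (by omega)
  exact q3' fun g hg => mem_centralizer_singleton_iff.2 (c g (q1' hg))

/-- `U` is not a `p`-group. -/
theorem case2 (k1 : Kit1.{u}) (h : C3 U) (hab : a ≠ b) (B : Big U a b t w p 1)
    (cU : Nat.card (U a) = p ^ 3 * (p + 2) ∨ Nat.card (U a) = p ^ 3 * (p + 2) ^ 2 ∨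
      Nat.card (U a) = p ^ 5 * (p + 2)) : False := by
  have hp := B.pr
  have := Fact.mk hp
  have p2 := B.two_lt h.toRg
  have ht := B.fr.1
  have t2 := sq_of ht.2
  have c1 := B.c1
  rw [pow_one] at c1
  have pg : IsPGroup p (CU U {t} a) := IsPGroup.of_card c1
  obtain ⟨S, s1, s2, -, s3⟩ := H26.exists_isPGroup_of_nilpotent (h.nil a) p
  obtain ⟨c, cS⟩ := s2.exists_card_eq
  have nU : ∀ g ∈ St G a b, g ∈ normalizer (U a : Set G) := fun g hg => norm_U h.toSp hg.1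
  have nS : ∀ g ∈ St G a b, g ∈ normalizer (S : Set G) := fun g hg =>
    mem_normalizer_of_cj_le (s3 _ (cj_le_of_le s1 (nU g hg)) (isPGroup_cj g s2))
  have cop : p.Coprime (p + 2) := by
    simpa using (Nat.coprime_primes hp Nat.prime_two).2 p2.ne'
  have cle : ∀ i j, Nat.card (U a) = p ^ i * (p + 2) ^ j → c ≤ i := fun i j e =>
    (Nat.pow_dvd_pow_iff_le_right hp.one_lt).1
      ((cop.pow c j).dvd_of_dvd_mul_right (e ▸ cS ▸ card_dvd_of_le s1))
  have zz : ∀ g ∈ St G a b, t * (g * t * g⁻¹) ∈ centralizer (S : Set G) → g ∈ centralizer {t} :=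
    fun g hg hc => by
      have iv := fun r hr => inverts (r := r) hp (h.nil a) (h.odd a) (nU t ht.1) t2 pg hr
      have e : t * (g * t * g⁻¹) = 1 := H61.Hk.faith h.toSp hab
        (mul_mem ht.1 (mul_mem (mul_mem hg ht.1) (inv_mem hg))) fun u hu => by
          obtain ⟨i, j, e1, ⟨k, e2⟩, e3⟩ := H24.exists_p_decomp hp u
          have a1 : Commute (u ^ i) (t * (g * t * g⁻¹)) := hc _ (s3 _
            (zpowers_le.2 (pow_mem hu i)) (H26.isPGroup_zpowers_of_pow (e2 ▸ pow_orderOf_eq_one _))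
            (mem_zpowers _))
          have r1 := pow_mem hu j
          generalize u ^ j = r at e1 e3 r1
          have a2 := iv r⁻¹ (inv_mem r1) (by rwa [orderOf_inv])
          have a3 := iv (g⁻¹ * r * g) (conj_mem_of_mem_normalizer' (nU g hg) r1) (by
            have := H24.orderOf_conj' g⁻¹ r
            rwa [inv_inv] at this ▸ e3)
          have a4 : Commute r (t * (g * t * g⁻¹)) := by
            refine Eq.symm (mul_inv_eq_iff_eq_mul.1 ?_)
            calc t * (g * t * g⁻¹) * r * (t * (g * t * g⁻¹))⁻¹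
                = t * (g * (t * (g⁻¹ * r * g) * t⁻¹) * g⁻¹) * t⁻¹ := by group
              _ = t * r⁻¹ * t⁻¹ := by rw [a3]; group
              _ = r := by rw [a2, inv_inv]
          exact (e1 ▸ a1.mul_left a4).symm
      exact mem_centralizer_singleton_iff.2
        (mul_inv_eq_iff_eq_mul.1 (mul_left_cancel (e.trans t2.symm)))
  have small : ∀ j, Nat.card (U a) = p ^ 3 * (p + 2) ^ j → 0 < j → j ≤ 2 → False :=
    fun j e j0 j2 => by
      have eS : CU U {t} a = S := eq_of_le_of_card_ge (s3 _ inf_le_left pg)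
        (by rw [cS, c1]; exact Nat.pow_le_pow_right hp.pos (cle _ _ e))
      have tS : t ∈ centralizer (S : Set G) := fun u hu => (mem_CU1.1 (eS.ge hu)).2
      obtain ⟨β, γ, g1, g2⟩ := count k1 h hab ht c1 e
      rw [inf_of_le_left fun g hg => zz g hg (mul_mem tS (conj_mem_of_mem_normalizer
        (normalizer_le_normalizer_centralizer S (nS g hg)) tS))] at g1
      obtain rfl : γ = 1 := Nat.eq_of_mul_eq_mul_right Nat.card_pos (g1.trans (one_mul _).symm)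
      have b1 : 1 < (p + 2) ^ j := Nat.one_lt_pow j0.ne' (by omega)
      have b2 : (p + 2) ^ j ≤ (p + 2) ^ 2 := Nat.pow_le_pow_right (by omega) j2
      have b3 := Nat.le_of_dvd (by omega) (Dvd.intro_left _ g2)
      have b4 : (p + 2) ^ 2 ≤ p ^ 3 := by nlinarith [Nat.mul_le_mul p2 p2]
      omega
  rcases cU with e | e | e
  · exact small 1 (by rw [e, pow_one]) one_pos (by decide)
  · exact small 2 e two_pos le_rfl
  obtain ⟨l, hl, h1, z⟩ := zs p2 (show 2 < 6 * 1 by decide)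
  have l3 := zs3 hl one_pos h1 z
  rw [pow_one] at l3
  obtain ⟨β, γ, g1, g2⟩ := count k1 h hab ht c1 (r := p ^ 2 * (p + 2)) (by rw [e]; ring)
  obtain ⟨Q, q1, q2, q3⟩ := sylQ hl g1
    (((Nat.Prime.dvd_mul hl).1 (g2 ▸ l3.mul_left β)).resolve_right fun d => by
      have b1 : 1 ≤ p ^ 2 := Nat.one_le_pow _ _ hp.pos
      have d1 := Nat.dvd_sub d l3
      rw [show p ^ 2 * (p + 2) - 1 - (p ^ 3 + 1) = 2 * (p ^ 2 - 1) by
        rw [show p ^ 2 * (p + 2) = p ^ 3 + 2 * p ^ 2 by ring]; omega] at d1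
      rcases (Nat.Prime.dvd_mul hl).1 d1 with d2 | d2
      · exact zs_ne_two (B.odd h.toRg) (by decide) z
          ((Nat.prime_dvd_prime_iff_eq hl Nat.prime_two).1 d2)
      · exact absurd (z _ d2) (by decide))
  obtain ⟨c', k, e1, e2⟩ := fixc hp hl (by decide) h1 z cS q2 fun g hg => nS g (q1 hg)
  have c5 := cle 5 1 (by rw [e, pow_one])
  have eS : S ≤ centralizer (Q : Set G) := (eq_of_le_of_card_ge inf_le_left (by
    rw [cS, e1, show c = c' by omega])).ge.trans inf_le_right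
  refine q3 fun g hg => zz g (q1 hg) ?_
  have gS : g ∈ centralizer (S : Set G) := fun u hu => (eS hu g hg).symm
  have := mul_mem (conj_mem_of_mem_normalizer
    (normalizer_le_normalizer_centralizer S (nS t ht.1)) gS) (inv_mem gS)
  rwa [inv_eq_of_mul_eq_one_right t2, mul_assoc t, mul_assoc t] at this

theorem par (k1 : Kit1.{u}) (h : C3 U) (hab : a ≠ b) (hy : Iv y a b) :
    m[{y}] % 4 = Nat.card (U a) % 4 := by
  have h1 := (k1.par h.pre).2.2 y (sq_of hy.2)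
  rw [(k1.fx h.toRg hab (sub1 hy.1)).2.1, k1.card h.toRg a, Nat.ModEq] at h1
  omega

theorem case2' (k1 : Kit1.{u}) (h : C3 U) (hab : a ≠ b) (B : Big U a b t w p f) {m₁ m₂ k : ℕ}
    (W : Nat.card (U a) * (p ^ f) ^ 2 = m₁ * (p ^ f) ^ 3 * m₂) (e1 : m₁ = p ^ f * (p ^ f + 2))
    (e2 : m₁ + 1 = 2 ^ k) (e3 : m₂ % 4 = Nat.card (U a) % 4)
    (o : (∃ j, m₂ = p ^ j ∧ f ≤ j ∧ j ≤ 3 * f) ∨ m₂ = p ^ f * (p ^ f + 2)) : False := by
  obtain ⟨rfl, p3⟩ := mersenne (B.two_lt h.toRg) (B.odd h.toRg) B.f0 (e1 ▸ e2)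
  have e4 := par k1 h hab B.fr.1
  rw [B.c1, ← e3] at e4
  simp only [pow_one] at W e1 o e4
  have can : ∀ {x}, m₁ * p ^ 3 * m₂ = x * p ^ 2 → Nat.card (U a) = x := fun e =>
    Nat.eq_of_mul_eq_mul_right (pow_pos B.pr.pos 2) (W.trans e)
  refine case2 k1 h hab B ?_
  rcases o with ⟨j, rfl, j1, j3⟩ | rfl
  · obtain rfl | rfl | rfl : j = 1 ∨ j = 2 ∨ j = 3 := by omega
    · exact Or.inl (can (by rw [e1]; ring))
    · rw [Nat.pow_mod, Nat.pow_mod p 2, p3] at e4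
      omega
    · exact Or.inr (Or.inr (can (by rw [e1]; ring)))
  · exact Or.inr (Or.inl (can (by rw [e1]; ring)))

theorem jobT1 (k1 : Kit1.{u}) (k2 : Kit2.{u}) (k3 : Kit3.{u}) : JobT1.{u} := by
  intro G Ω _ _ _ U h a b t₀ hab h0
  by_contra n0
  obtain ⟨t, ⟨ht, n⟩, mx⟩ := Set.exists_max_image
    {y | Iv y a b ∧ ¬ (TA U {y} a ∨ TL U {y} a b)} (fun y => Nat.card (CU U {y} a))
    (Set.toFinite _) ⟨t₀, h0, n0⟩
  obtain ⟨w, p, f, B⟩ := big k1 k2 h hab ht n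
  obtain ⟨-, hw, tw, c⟩ := B.fr
  have t2 := sq_of ht.2
  have w2 := sq_of hw.2
  have hv : Iv (w * t) a b := ⟨mul_mem hw.1 ht.1, ord2 (by
    rw [mul_assoc, ← mul_assoc t, c, mul_assoc, t2, mul_one, w2]) fun e =>
      tw (mul_left_cancel (e.trans w2.symm))⟩
  have W := wieU k1 h.toRg ht.1 hw.1 t2 w2 c.symm
  rw [B.c1, B.c2] at W
  have o1 := opts k1 k2 k3 h hab B (fun y p q => mx y ⟨p, q⟩) hw c (by rw [CU_swap, B.c2])
  have o2 := opts k1 k2 k3 h hab B (fun y p q => mx y ⟨p, q⟩) hv (by rw [← mul_assoc, c])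
    (by rw [CU_swap, CU_mul, B.c2])
  rcases o1 with ⟨j, e1, j1, j2, j3⟩ | ⟨e1, k, e2⟩
  · rcases o2 with ⟨i, e2, i1, i2, -⟩ | ⟨e2, k, e3⟩
    · refine case1 k1 k2 h hab B e1 j3 (n := j + f + i) ?_ j2 (by omega)
      refine Nat.eq_of_mul_eq_mul_right (pow_pos (pow_pos B.pr.pos f) 2) ?_
      rw [W, e1, e2]
      ring
    · exact case2' k1 h hab B (W.trans (by ring)) e2 e3 (par k1 h hab hw) (Or.inl ⟨j, e1, j1, j2⟩)
  · exact case2' k1 h hab B W e1 e2 (par k1 h hab hv)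
      (o2.imp (fun ⟨i, e2, i1, i2, _⟩ => ⟨i, e2, i1, i2⟩) And.left)

end H71.HK
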