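import Cfsg.Agent.H64.YESpec

/-! STD-SP endgame (row S3129), slot HU: the `2`-elements of `C_K(Z)` lie in `G₁`. -/

set_option autoImplicit false
set_option linter.unusedSectionVars false

namespace H71.YeHU

open H64.SG (Syl Cz Cs Ns cjs Is2 Inv2 mem_Cs mem_Cz is2_of_sq isPGroup_iff_is2 syl_iff)
open Subgroup H67.UA H67.SP H64.YE
open H67.SA (cm)
open H59.SO (Ind AutOn mem_Cs_map mem_Cs_range)

universe u

section Gen

variable {G : Type*} [Group G]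

/-- Two involutions whose product is a `2`-element lie in a `2`-group. -/
theorem dih2 {s t : G} (hs : s * s = 1) (ht : t * t = 1) (h : Is2 (s * t)) :
    IsPGroup 2 (zpowers (s * t) ⊔ zpowers t : Subgroup G) := by
  refine h.zpowers.to_sup_of_normal_left' (is2_of_sq ht).zpowers (zpowers_le.2 ?_)
  rw [← H98.cj_eq_self_iff, H98.cj, MonoidHom.map_zpowers, ← zpowers_inv]
  congr 1
  have hs' : s⁻¹ = s := inv_eq_of_mul_eq_one_right hs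
  have ht' : t⁻¹ = t := inv_eq_of_mul_eq_one_right ht
  change (t * (s * t) * t⁻¹)⁻¹ = s * t
  rw [show (t * (s * t) * t⁻¹)⁻¹ = s⁻¹ * t⁻¹ by group, hs', ht']

/-- If `(a b)² = y o` with `y` a `2`-element and `o` of odd order, a power `u` of `o` makes
`u⁻¹ a u b` a `2`-element. -/
theorem exists_odd_conj {a b y o : G} (ha : a * a = 1) (hb : b * b = 1)
    (h : a * b * (a * b) = y * o) (hc : Commute y o) (hy : Is2 y) (ho : Odd (orderOf o)) :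
    ∃ u ∈ zpowers o, Is2 (u⁻¹ * a * u * b) := by
  obtain ⟨N, hN⟩ := hy
  have hcop : (2 * 2 ^ N * 2).Coprime (orderOf o) := by
    have := Nat.coprime_two_left.2 ho
    exact (this.mul_left (this.pow_left N)).mul_left this
  obtain ⟨m, hm⟩ := exists_pow_eq_self_of_coprime hcop
  set w := a * b with hw
  have ha' : a⁻¹ = a := inv_eq_of_mul_eq_one_right ha
  have hb' : b⁻¹ = b := inv_eq_of_mul_eq_one_right hb
  have e1 : w ^ (2 * 2 ^ N * m) = o ^ (2 ^ N * m) := by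
    rw [mul_assoc, pow_mul, sq, h, hc.mul_pow, pow_mul y, hN, one_pow, one_mul]
  have e2 : a * w * a⁻¹ = w⁻¹ := by
    rw [hw, mul_inv_rev, hb', ← mul_assoc, ha, one_mul]
  set u := w ^ (2 * 2 ^ N * m) with hu
  have e3 : a * u * a⁻¹ = u⁻¹ := by rw [hu, ← conj_pow, e2, inv_pow]
  have e4 : u⁻¹ * a * u * b = u⁻¹ * u⁻¹ * w := by
    rw [hw, ← e3]; group
  have e5 : Commute u w := (Commute.refl w).pow_left _
  have e6 : u * u * (u * u) = o := by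
    rw [e1, ← pow_add, ← pow_add]
    conv_rhs => rw [← hm, ← pow_mul]
    congr 1
    ring
  refine ⟨u, e1 ▸ pow_mem (mem_zpowers o) _, ?_⟩
  refine H64.SG.Is2.of_pow (k := 1) ?_
  rw [pow_one, e4, ((e5.inv_left.mul_left e5.inv_left)).mul_pow, sq, sq, h,
    show u⁻¹ * u⁻¹ * (u⁻¹ * u⁻¹) = (u * u * (u * u))⁻¹ by group, e6, hc.eq, inv_mul_cancel_left]
  exact ⟨N, hN⟩

end Gen

section Main

variable {n : ℕ} {F : Type} [Field F] [StarRing F] [TrivialStar F] [CharP F 2] [Finite F]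
  {Y : Type} [Group Y] [Finite Y] [QS Y] {G : Type u} [Group G] [Finite G] {ι : XU n F →* Y}
  {τ : MulAut Y} {Gd Go : XU n F → Prop} {U : Subgroup Y} {e : XU n F →* G} {t : G} {Φ : Y →* G}
  {K₀ : Subgroup G} {r : Y} {Z Q : Subgroup Y}

theorem exists_aut (hk : Φ.ker ≤ center Y) {A : Subgroup Y} (hA : IsPGroup 2 A) {g : G}
    (hg : g ∈ Ns (A.map Φ)) : ∃ θ, AutOn A θ ∧ ∀ x ∈ A, g * Φ x * g⁻¹ = Φ (θ x) := by
  classical
  have h2 := isPGroup_iff_is2.1 hA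
  have ex : ∀ x, ∃ y, x ∈ A → y ∈ A ∧ g * Φ x * g⁻¹ = Φ y := fun x => by
    by_cases hx : x ∈ A
    · obtain ⟨y, hy, e1⟩ := H98.conj_mem_of_mem_normalizer hg (mem_map_of_mem Φ hx)
      exact ⟨y, fun _ => ⟨hy, e1.symm⟩⟩
    · exact ⟨1, fun h => absurd h hx⟩
  choose θ hθ using ex
  refine ⟨θ, ⟨⟨fun x hx => (hθ x hx).1, fun x hx y hy e1 => ?_, fun y hy => ?_⟩,
    fun a ha b hb => ?_⟩, fun x hx => (hθ x hx).2⟩
  · refine inj2 hk (h2 x hx) (h2 y hy) ?_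
    have := (hθ x hx).2
    rw [e1, ← (hθ y hy).2] at this
    simpa using this
  · obtain ⟨x, hx, e1⟩ := H98.conj_mem_of_mem_normalizer' hg (mem_map_of_mem Φ hy)
    refine ⟨x, hx, inj2 hk (h2 _ (hθ x hx).1) (h2 y hy) ?_⟩
    rw [← (hθ x hx).2, e1]; group
  · refine inj2 hk (h2 _ (hθ _ (mul_mem ha hb)).1) (h2 _ (mul_mem (hθ a ha).1 (hθ b hb).1)) ?_
    rw [map_mul, ← (hθ _ (mul_mem ha hb)).2, ← (hθ a ha).2, ← (hθ b hb).2, map_mul]; group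

variable (h : E1 ι τ Gd Go U e t Φ K₀) (rd : RD ι τ Go U r Z Q)
include h rd

omit h in
theorem root_sq {d : Y} (hd : IsConj r d) : d * d = 1 := by
  obtain ⟨w, rfl⟩ := isConj_iff.1 hd
  rw [show w * r * w⁻¹ * (w * r * w⁻¹) = w * (r * r) * w⁻¹ by group, rd.inv.1]; group

omit h in
theorem nq {d : Y} (hd : d ∈ Cs Z) {x : Y} (hx : x ∈ Q) : d * x * d⁻¹ ∈ Q := by
  refine (rd.stq (MulAut.conj d) (H67.SA.mem_St_of_finite fun z hz => ?_) x).1 hx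
  rwa [MulAut.conj_apply, ← mem_Cs.1 hd z hz, mul_inv_cancel_right]

theorem q2 : IsPGroup 2 Q := h.syl.2.1.to_le rd.qu

theorem z2 : IsPGroup 2 Z := (q2 h rd).to_le rd.zq

omit rd in
theorem mem_H {d : Y} (hd : d ∈ Cs Z) : Φ d ∈ K₀ ⊓ Cs (Z.map Φ) :=
  ⟨h.le ⟨d, rfl⟩, mem_Cs_map.2 fun z hz => by rw [← map_mul, ← map_mul, mem_Cs.1 hd z hz]⟩

theorem sylH : H98.IsSyl 2 (U.map Φ) (K₀ ⊓ Cs (Z.map Φ)) :=
  (syl_iff.1 h.sylK).of_le (by rintro _ ⟨u, hu, rfl⟩; exact mem_H h (rd.uz hu)) inf_le_left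

theorem root (rf : RF Φ r) {y y' : Y} (hy : IsConj r y) (hy' : Is2 y') {g : G}
    (hg : g * Φ y * g⁻¹ = Φ y') : IsConj r y' := by
  obtain ⟨w, rfl⟩ := isConj_iff.1 hy
  obtain ⟨m, hm, c, hc, e1⟩ := rf (g * Φ w) ⟨y', by rw [← hg]; simp [mul_assoc]⟩
  obtain ⟨β, hβ⟩ := exists_ind h.ker hm
  have e2 : Φ (β r) = Φ y' := by
    rw [← hβ, ← hg, map_mul, map_mul, map_inv,
      show g * (Φ w * Φ r * (Φ w)⁻¹) * g⁻¹ = g * Φ w * Φ r * (g * Φ w)⁻¹ by group, e1,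
      show m * c * Φ r * (m * c)⁻¹ = m * (c * Φ r) * c⁻¹ * m⁻¹ by group, ← mem_Cz.1 hc]
    group
  rw [← inj2 h.ker ((is2_of_sq rd.inv.1).map β.toMonoidHom) hy' e2]
  exact rd.ra β

/-- Conjugation by `C(Φ Z)` preserves "lies in `Z`". -/
theorem tz {g : G} (hg : g ∈ Cs (Z.map Φ)) {a b : Y} (hb : Is2 b) (e1 : g * Φ a * g⁻¹ = Φ b)
    (ha : a ∈ Z) : b ∈ Z := by
  rw [← mem_Cs_map.1 hg a ha, mul_inv_cancel_right] at e1
  exact inj2 h.ker (isPGroup_iff_is2.1 (z2 h rd) a ha) hb e1 ▸ ha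

theorem claim (rh : RH U r Z Q) (rf : RF Φ r) (cn : CN Φ K₀ Z Q) (cq : CQ Φ K₀ Z Q) {g : G}
    (hg : g ∈ K₀ ⊓ Cs (Z.map Φ)) {d : Y} (hd : d ∈ Cs Z) (hr : IsConj r d) :
    g * Φ d * g⁻¹ ∈ Φ.range := by
  have hk := h.ker
  have hq := isPGroup_iff_is2.1 (q2 h rd)
  have hu := isPGroup_iff_is2.1 h.syl.2.1
  by_cases hz : d ∈ Z
  · exact ⟨d, by rw [← mem_Cs_map.1 hg.2 d hz, mul_inv_cancel_right]⟩
  set a := g * Φ d * g⁻¹ with ha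
  have aH : a ∈ K₀ ⊓ Cs (Z.map Φ) := mul_mem (mul_mem hg (mem_H h hd)) (inv_mem hg)
  have a2 : a * a = 1 := by
    rw [ha, show g * Φ d * g⁻¹ * (g * Φ d * g⁻¹) = g * (Φ d * Φ d) * g⁻¹ by group, ← map_mul,
      root_sq rd hr, map_one]; group
  obtain ⟨θ, hθ, eθ⟩ := exists_aut hk (q2 h rd) (cn hg)
  obtain ⟨δ, hδ, eδ⟩ := exists_aut hk (q2 h rd) (cn aH)
  have mθ : ∀ x ∈ Q, θ x ∈ Q := fun x hx => hθ.bij.mapsTo hx
  have mδ : ∀ x ∈ Q, δ x ∈ Q := fun x hx => hδ.bij.mapsTo hx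
  obtain ⟨d₂, hd₂, hr₂, -, hA, ⟨x₀, hx₀, x₀', hx₀', hB, hB'⟩, hC⟩ := rh.ha θ δ hθ (fun z hz' =>
    inj2 hk (hq _ (mθ z (rd.zq hz'))) (hq z (rd.zq hz')) (by
      rw [← eθ z (rd.zq hz'), ← mem_Cs_map.1 hg.2 z hz', mul_inv_cancel_right])) d hd hr hz
    fun x hx => inj2 hk (hq _ (mδ _ (mθ x hx))) (hq _ (mθ _ (nq rd hd hx))) (by
      rw [← eδ _ (mθ x hx), ← eθ x hx, ← eθ _ (nq rd hd hx), ha, map_mul, map_mul, map_inv]; group)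
  have bH := mem_H h hd₂ (K₀ := K₀)
  have d2 := root_sq rd hr₂
  set b := Φ d₂ with hb
  have b2 : b * b = 1 := by rw [hb, ← map_mul, d2, map_one]
  have wH := mul_mem (mul_mem aH bH) (mul_mem aH bH)
  obtain ⟨y, hy, o, ho, eo⟩ := cq _ wH.1 wH.2 (cn wH) fun x hx => by
    have e1 := eδ _ (nq rd hd₂ hx)
    have e2 := eδ x hx
    have e3 := mem_Cs_map.1 aH.2 _ (hA x hx)
    have e4 := mem_Cs_map.1 bH.2 _ (hA x hx)
    refine ⟨_, hA x hx, ?_⟩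
    set z := Φ (δ (d₂ * x * d₂⁻¹) * (d₂ * δ x * d₂⁻¹)⁻¹) with hz'
    have e5 : a * (b * Φ x * b⁻¹) * a⁻¹ = z * (b * (a * Φ x * a⁻¹) * b⁻¹) := by
      rw [hz', e2, hb, ← map_inv, ← map_mul, ← map_mul, e1, ← map_mul, ← map_mul, ← map_mul,
        inv_mul_cancel_right]
    have ia : a⁻¹ = a := inv_eq_of_mul_eq_one_right a2
    have ib : b⁻¹ = b := inv_eq_of_mul_eq_one_right b2
    symm
    calc cm (a * b * (a * b)) (Φ x)
        = a * b * (a * (b * Φ x * b⁻¹) * a⁻¹) * b⁻¹ * a⁻¹ * (Φ x)⁻¹ := by simp only [cm]; group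
      _ = a * (b * z) * (b * a * Φ x * a⁻¹ * b⁻¹ * b⁻¹ * a⁻¹ * (Φ x)⁻¹) := by rw [e5]; group
      _ = (a * z) * ((b * b) * a * Φ x * a⁻¹ * (b * b)⁻¹ * a⁻¹ * (Φ x)⁻¹) := by rw [← e4]; group
      _ = z * ((a * a) * Φ x * (a * a)⁻¹ * (Φ x)⁻¹) := by rw [← e3, b2]; group
      _ = z := by rw [a2]; group
  obtain ⟨v, hv, h2⟩ := exists_odd_conj a2 b2 eo (mem_Cs_range.1 ho y) ((hq y hy).map Φ)
    (H64.SG.odd_orderOf_of_mem h.odd ho)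
  have vC : v ∈ Cs Φ.range := zpowers_le.2 ho hv
  have oH : o ∈ K₀ ⊓ Cs (Z.map Φ) := by
    rw [show o = (Φ y)⁻¹ * (a * b * (a * b)) by rw [eo]; group]
    exact mul_mem (inv_mem (mem_H h (rd.uz (rd.qu hy)))) wH
  have vH : v ∈ K₀ ⊓ Cs (Z.map Φ) := zpowers_le.2 oH hv
  set a' := v⁻¹ * a * v with ha'
  have a'H : a' ∈ K₀ ⊓ Cs (Z.map Φ) := mul_mem (mul_mem (inv_mem vH) aH) vH
  have a'2 : a' * a' = 1 := by
    rw [ha', show v⁻¹ * a * v * (v⁻¹ * a * v) = v⁻¹ * (a * a) * v by group, a2]; group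
  have eδ' : ∀ x ∈ Q, a' * Φ x * a'⁻¹ = Φ (δ x) := fun x hx => by
    rw [ha', show v⁻¹ * a * v * Φ x * (v⁻¹ * a * v)⁻¹ = v⁻¹ * (a * (v * Φ x) * v⁻¹ * a⁻¹) * v by
      group, ← mem_Cs_range.1 vC x, show a * (Φ x * v) * v⁻¹ * a⁻¹ = a * Φ x * a⁻¹ by group,
      eδ x hx, mul_assoc, mem_Cs_range.1 vC, inv_mul_cancel_left]
  obtain ⟨k, kH, hle⟩ := (sylH h rd).exists_cj_le (dih2 a'2 b2 h2)
    (sup_le (zpowers_le.2 (mul_mem a'H bH)) (zpowers_le.2 bH))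
  have mb : b ∈ zpowers (a' * b) ⊔ zpowers b := mem_sup_right (mem_zpowers b)
  have ma : a' ∈ zpowers (a' * b) ⊔ zpowers b := by
    have := mul_mem (mem_sup_left (mem_zpowers (a' * b))) (inv_mem mb)
    rwa [mul_inv_cancel_right] at this
  obtain ⟨d₁', u₁, e₁⟩ := hle (mem_map_of_mem _ ma)
  obtain ⟨d₂', u₂, e₂⟩ := hle (mem_map_of_mem _ mb)
  change Φ d₁' = k * a' * k⁻¹ at e₁
  change Φ d₂' = k * b * k⁻¹ at e₂
  have r₁ : IsConj r d₁' := root h rd rf hr (hu _ u₁) (g := k * v⁻¹ * g) (by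
    rw [e₁, ha', ha]; group)
  have r₂ : IsConj r d₂' := root h rd rf hr₂ (hu _ u₂) e₂.symm
  obtain ⟨κ, hκ, eκ⟩ := exists_aut hk (q2 h rd) (cn kH)
  have mκ : ∀ x ∈ Q, κ x ∈ Q := fun x hx => hκ.bij.mapsTo hx
  have c₁ : ∀ x ∈ Q, k * Φ (δ x * x⁻¹) * k⁻¹ = Φ (cm d₁' (κ x)) := fun x hx => by
    simp only [cm, map_mul, map_inv]
    rw [← eκ x hx, e₁, ← eδ' x hx]; group
  have c₂ : ∀ x ∈ Q, ∀ x' ∈ Q, k * Φ (δ x * x⁻¹ * (cm d₂ x')⁻¹) * k⁻¹ =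
      Φ (cm d₁' (κ x) * (cm d₂' (κ x'))⁻¹) := fun x hx x' hx' => by
    rw [map_mul Φ (cm d₁' (κ x)), ← c₁ x hx]
    simp only [cm, map_mul, map_inv]
    rw [← eκ x' hx', e₂, hb]; group
  have mc : ∀ p ∈ Cs Z, ∀ x ∈ Q, cm p x ∈ Q := fun p hp x hx => mul_mem (nq rd hp hx) (inv_mem hx)
  have inv : ∀ {p q : G}, k * p * k⁻¹ = q → k⁻¹ * q * k⁻¹⁻¹ = p := fun e1 => by rw [← e1]; group
  have hb' := rh.hb d₁' u₁ d₂' u₂ r₁ r₂ ⟨κ x₀, mκ _ hx₀, κ x₀', mκ _ hx₀', fun hc => hB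
    (tz h rd (inv_mem kH.2) (hq _ (mul_mem (mδ _ hx₀) (inv_mem hx₀))) (inv (c₁ _ hx₀)) hc),
    tz h rd kH.2 (hq _ (mul_mem (mc _ (rd.uz u₁) _ (mκ _ hx₀))
      (inv_mem (mc _ (rd.uz u₂) _ (mκ _ hx₀'))))) (c₂ _ hx₀ _ hx₀') hB'⟩
  obtain ⟨d₃, hd₃, hD⟩ := hC fun x hx => by
    obtain ⟨x', hx', e1⟩ := hb' _ (mκ x hx)
    obtain ⟨x'', hx'', rfl⟩ := hκ.bij.surjOn hx'
    exact ⟨x'', hx'', tz h rd (inv_mem kH.2) (hq _ (mul_mem (mul_mem (mδ _ hx) (inv_mem hx))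
      (inv_mem (mc _ hd₂ _ hx'')))) (inv (c₂ _ hx _ hx'')) e1⟩
  have gH := mul_mem (inv_mem (mem_H h hd₃ (K₀ := K₀))) aH
  obtain ⟨y₃, -, o₃, ho₃, e₃⟩ := cq _ gH.1 gH.2 (cn gH) fun x hx => by
    refine ⟨_, hD x hx, ?_⟩
    have e1 := mem_Cs.1 hd₃ _ (hD x hx)
    rw [show δ x * (d₃ * x * d₃⁻¹)⁻¹ = d₃⁻¹ * (d₃ * (δ x * (d₃ * x * d₃⁻¹)⁻¹)) by group, ← e1]
    simp only [cm, map_mul, map_inv]
    rw [← eδ x hx]; group
  refine h.two2 a ?_ (is2_of_sq a2) aH.1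
  rw [show a = Φ d₃ * (Φ y₃ * o₃) by rw [← e₃]; group]
  exact mul_mem (le_normalizer ⟨d₃, rfl⟩) (mul_mem (le_normalizer ⟨y₃, rfl⟩)
    (centralizer_le_normalizer _ ho₃))

end Main

theorem jobHU : JobHU.{u} := by
  intro n F _ _ _ _ _ _ G _ _ e t Y _ _ _ ι τ Gd Go U Φ K₀ h r Z Q rd rh rf cn cq g g1 g2 g3
  obtain ⟨k, kH, hle⟩ := (sylH h rd).exists_cj_le g3.zpowers (zpowers_le.2 ⟨g1, g2⟩)
  obtain ⟨u, hu, e1⟩ := hle (mem_map_of_mem _ (mem_zpowers g))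
  change Φ u = k * g * k⁻¹ at e1
  have key : closure {d | d ∈ Cs Z ∧ IsConj r d} ≤
      Φ.range.comap ((MulAut.conj k⁻¹).toMonoidHom.comp Φ) :=
    (closure_le _).2 fun d hd => claim h rd rh rf cn cq (inv_mem kH) hd.1 hd.2
  have := key (rh.pd hu)
  change k⁻¹ * Φ u * k⁻¹⁻¹ ∈ Φ.range at this
  rw [e1] at this
  simpa [mul_assoc] using this

end H71.YeHU
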