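/- FS tower: there is no faithful split digon. -/
import Cfsg.Agent.H7.FSSpec
import Cfsg.Agent.H46.Nil
import Cfsg.Agent.H46.Coprime

set_option autoImplicit false

namespace H71.FSDig

open Cfsg Subgroup H46

variable {L : Type} [Group L] [Finite L] {π : Set ℕ} {N : Subgroup L} {x y : L}

theorem mem_core (hN : Group.IsNilpotent N) : x ∈ piCoreOf π N ↔ x ∈ N ∧ IsPiElt π x :=
  ⟨fun h => ⟨piCoreOf_le π N h, (isPi_piCoreOf π N).elt h⟩, fun h =>
    nil_le_piCoreOf hN (zpowers_le.2 h.1) (isPi_zpowers.2 h.2) (mem_zpowers x)⟩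

theorem comm_of_nil (hN : Group.IsNilpotent N) (hx : x ∈ N) (hy : y ∈ N) (h1 : IsPiElt π x)
    (h2 : IsPiElt πᶜ y) : Commute x y :=
  (mem_centralizer_iff.1 (nil_cent_of_isPi hN (zpowers_le.2 hx) (zpowers_le.2 hy)
    (isPi_zpowers.2 h1) (isPi_zpowers.2 h2) (mem_zpowers x)) y (mem_zpowers y)).symm

omit [Finite L] in
/-- An element commuting with an element of coprime order that moves a point in the same way modulo
`W` fixes the `W`-orbit of the point. -/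
theorem orbit_fix {X : Type} [MulAction L X] {W : Subgroup L} {g v w : L} {t : X}
    (hg : ∀ u ∈ W, g * u * g⁻¹ ∈ W) (hv : ∀ u ∈ W, v * u * v⁻¹ ∈ W) (hc : Commute g v)
    (hcop : (orderOf g).Coprime (orderOf v)) (hw : w ∈ W) (h : g • t = w • v • t) :
    ∃ u ∈ W, g • t = u • t := by
  have hvk : ∀ k : ℕ, ∀ u ∈ W, v ^ k * u * (v ^ k)⁻¹ ∈ W := by
    intro k
    induction k with
    | zero => simp
    | succ k ih =>
      intro u hu
      have := hv _ (ih u hu)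
      rwa [show v * (v ^ k * u * (v ^ k)⁻¹) * v⁻¹ = v ^ (k + 1) * u * (v ^ (k + 1))⁻¹ by
        rw [pow_succ']; group] at this
  have key : ∀ k : ℕ, ∃ u ∈ W, g ^ k • t = u • v ^ k • t := by
    intro k
    induction k with
    | zero => exact ⟨1, W.one_mem, by simp⟩
    | succ k ih =>
      obtain ⟨u, hu, e⟩ := ih
      refine ⟨g * u * g⁻¹ * (v ^ k * w * (v ^ k)⁻¹), W.mul_mem (hg u hu) (hvk k w hw), ?_⟩
      have e1 : g * u * v ^ k = g * u * g⁻¹ * v ^ k * g := by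
        rw [mul_assoc _ (v ^ k) g, ← (hc.pow_right k).eq]; group
      rw [pow_succ', mul_smul, e, ← mul_smul, ← mul_smul, e1, mul_smul, h]
      simp only [← mul_smul]
      congr 1
      rw [pow_succ]; group
  obtain ⟨k, h1, h0⟩ := Nat.chineseRemainder hcop 1 0
  obtain ⟨u, hu, e⟩ := key k
  rw [pow_eq_pow_iff_modEq.2 h1, pow_eq_pow_iff_modEq.2 h0, pow_one, pow_zero, one_smul] at e
  exact ⟨u, hu, e⟩

theorem jobDig : H7.FS.JobDig := by
  intro L X Y _ _ _ _ _ _ a b b' U n fX fY hX hbb hU hfix hnrm htr na nb nb'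
  classical
  have hne : ∀ (g : L) (x : X), g • a = a → x ≠ a → g • x ≠ a := fun g x hg hx h =>
    hx (MulAction.injective g (h.trans hg.symm))
  have ext' : ∀ g : L, g • a = a → (∀ x, x ≠ a → g • x = x) → g = 1 := fun g h1 h2 =>
    fX g fun x => by
      by_cases hx : x = a
      · rw [hx, h1]
      · exact h2 x hx
  have inv_fix : ∀ {Z : Type} [MulAction L Z] {g : L} {z z' : Z}, g • z = z' → g⁻¹ • z' = z :=
    fun h => by rw [← h, inv_smul_smul]
  -- `U ≠ 1`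
  have hU1 : U ≠ ⊥ := by
    intro h
    have := Fintype.ofFinite X
    have h2 : 1 < (Finset.univ.erase a).card := by
      rw [Finset.card_erase_of_mem (Finset.mem_univ a), Finset.card_univ, ← Nat.card_eq_fintype_card]
      omega
    obtain ⟨x, hx, x', hx', hxx⟩ := Finset.one_lt_card.1 h2
    obtain ⟨u, hu, e, -⟩ := htr x x' b' b' (Finset.ne_of_mem_erase hx) (Finset.ne_of_mem_erase hx')
      hbb.symm hbb.symm
    rw [h, mem_bot] at hu
    rw [hu, one_smul] at e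
    exact hxx e
  let V : Subgroup L := U ⊓ MulAction.stabilizer L b'
  have hVn : ∀ g : L, g • a = a → g • b = b → g • b' = b' → ∀ v ∈ V, g * v * g⁻¹ ∈ V :=
    fun g h1 h2 h3 v hv => ⟨hnrm g h1 h2 v hv.1, by
      change (g * v * g⁻¹) • b' = b'
      rw [mul_smul, mul_smul, inv_fix h3, show v • b' = b' from hv.2, h3]⟩
  have hVt : ∀ x x', x ≠ a → x' ≠ a → ∃ v ∈ V, v • x = x' := fun x x' hx hx' => by
    obtain ⟨u, hu, e, e'⟩ := htr x x' b' b' hx hx' hbb.symm hbb.symm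
    exact ⟨u, ⟨hu, e'⟩, e⟩
  have hV : Group.IsNilpotent V := nil_of_le hU inf_le_left
  let V' : Subgroup L := cj n V
  have hV'f : ∀ g ∈ V', g • a = a ∧ g • b = b ∧ g • b' = b' := by
    rintro _ ⟨v, hv, rfl⟩
    change (n * v * n⁻¹) • a = a ∧ (n * v * n⁻¹) • b = b ∧ (n * v * n⁻¹) • b' = b'
    simp only [mul_smul]
    rw [inv_fix na, inv_fix nb', inv_fix nb, (hfix v hv.1).1, (hfix v hv.1).2,
      show v • b' = b' from hv.2]
    exact ⟨na, nb', nb⟩
  have hV'n : ∀ g : L, g • a = a → g • b = b → g • b' = b' → ∀ v ∈ V', g * v * g⁻¹ ∈ V' := by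
    intro g h1 h2 h3 v hv
    rw [mem_cj] at hv ⊢
    have := hVn (n⁻¹ * g * n) (by rw [mul_smul, mul_smul, na, h1, inv_fix na])
      (by rw [mul_smul, mul_smul, nb, h3, inv_fix nb])
      (by rw [mul_smul, mul_smul, nb', h2, inv_fix nb']) _ hv
    rwa [show n⁻¹ * g * n * (n⁻¹ * v * n) * (n⁻¹ * g * n)⁻¹ = n⁻¹ * (g * v * g⁻¹) * n by group]
      at this
  have hF : Group.IsNilpotent ↥(V ⊔ V') := nil_sup_of_nrm
    (fun g hg => mem_normalizer_fintype (hVn g (hV'f g hg).1 (hV'f g hg).2.1 (hV'f g hg).2.2))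
    (fun g hg => mem_normalizer_fintype (hV'n g (hfix g hg.1).1 (hfix g hg.1).2 hg.2)) hV
    (nil_cj hV n)
  -- the prime
  have hZ := zc_ne_bot_of_nil hU hU1
  obtain ⟨p, hp, hpd⟩ := Nat.exists_prime_and_dvd (mt (card_eq_one (H := Zc U)).1 hZ)
  have := Fact.mk hp
  -- (1)
  have hWn : ∀ g : L, g • a = a → g • b = b → ∀ u ∈ piCoreOf {p}ᶜ U,
      g * u * g⁻¹ ∈ piCoreOf {p}ᶜ U := fun g h1 h2 u hu =>
    (mem_core hU).2 ⟨hnrm g h1 h2 u ((mem_core hU).1 hu).1, isPiElt_conj.2 ((mem_core hU).1 hu).2⟩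
  have step1 : ∀ g ∈ V', IsPiElt {p}ᶜ g → ∀ x, x ≠ a → ∃ w ∈ piCoreOf {p}ᶜ U, g • x = w • x := by
    intro g hg hg' x hx
    obtain ⟨v, hv, e⟩ := hVt x (g • x) hx (hne g x (hV'f g hg).1 hx)
    have hv1 := piPart_mem {p} hv
    refine orbit_fix (v := piPart {p} v) (w := piPart {p}ᶜ v)
      (hWn g (hV'f g hg).1 (hV'f g hg).2.1) (hWn _ (hfix _ hv1.1).1 (hfix _ hv1.1).2)
      (comm_of_nil hF (mem_sup_left hv1) (mem_sup_right hg) (isPiElt_piPart _ _) hg').symm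
      ((isPiElt_piPart {p} v).coprime hg').symm
      ((mem_core hU).2 ⟨(piPart_mem _ hv).1, isPiElt_piPart _ _⟩) ?_
    rw [← mul_smul, ← (commute_piPart {p} {p}ᶜ v).eq, piPart_mul_piPart_compl, e]
  have step1' : ∀ g ∈ V', IsPiElt {p}ᶜ g → ∀ u ∈ U, IsPiElt {p} u → Commute g u := by
    intro g hg hg' u hu hu'
    obtain ⟨ga, gb, -⟩ := hV'f g hg
    have hc : g * u * g⁻¹ * u⁻¹ ∈ piCoreOf {p} U := mul_mem
      ((mem_core hU).2 ⟨hnrm g ga gb u hu, isPiElt_conj.2 hu'⟩) (inv_mem ((mem_core hU).2 ⟨hu, hu'⟩))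
    obtain ⟨hc1, hc2⟩ := (mem_core hU).1 hc
    suffices h : g * u * g⁻¹ * u⁻¹ = 1 from commutatorElement_eq_one_iff_commute.1 h
    refine ext' _ (hfix _ hc1).1 fun x hx => ?_
    obtain ⟨w, hw, e⟩ := step1 g⁻¹ (inv_mem hg) hg'.inv (u⁻¹ • x)
      (hne _ x (inv_fix (hfix u hu).1) hx)
    obtain ⟨w', hw', e'⟩ := step1 g hg hg' x hx
    have hw2 := mul_mem (hWn g ga gb _ (hWn u (hfix u hu).1 (hfix u hu).2 w hw)) hw'
    obtain ⟨hw3, hw4⟩ := (mem_core hU).1 hw2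
    have e2 : (g * u * g⁻¹ * u⁻¹) • x = (1 : L) • (g * (u * w * u⁻¹) * g⁻¹ * w') • x := by
      rw [one_smul, mul_smul _ w', ← e', mul_smul, mul_smul, e]
      simp only [← mul_smul]
      congr 1
      group
    obtain ⟨_, h1, e3⟩ := orbit_fix (W := ⊥)
      (fun u hu => by rw [mem_bot.1 hu, mul_one, mul_inv_cancel]; exact one_mem _)
      (fun u hu => by rw [mem_bot.1 hu, mul_one, mul_inv_cancel]; exact one_mem _)
      (comm_of_nil hU hc1 hw3 hc2 hw4) (hc2.coprime hw4) (one_mem _) e2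
    rw [e3, mem_bot.1 h1, one_smul]
  -- (2)
  let Z : Subgroup L := Zc U ⊓ piCoreOf {p} U
  have hZn : piCoreOf {p} V' ≤ Nrm Z := fun g hg => mem_normalizer_fintype fun z hz => by
    obtain ⟨ga, gb, -⟩ := hV'f g (piCoreOf_le _ _ hg)
    refine ⟨⟨hnrm g ga gb z hz.1.1, mem_centralizer_iff.2 fun u hu => ?_⟩,
      (mem_core hU).2 ⟨hnrm g ga gb z hz.1.1, isPiElt_conj.2 ((mem_core hU).1 hz.2).2⟩⟩
    have h1 := mem_centralizer_iff.1 hz.1.2 _ (hnrm g⁻¹ (inv_fix ga) (inv_fix gb) u hu)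
    calc u * (g * z * g⁻¹) = g * (g⁻¹ * u * g⁻¹⁻¹ * z) * g⁻¹ := by group
      _ = g * z * g⁻¹ * u := by rw [h1]; group
  have hZ1 : Z ≠ ⊥ := by
    obtain ⟨z, hz⟩ := exists_prime_orderOf_dvd_card' p hpd
    have hz' : orderOf (z : L) = p := by rw [orderOf_coe, hz]
    intro h
    have h1 : (z : L) ∈ Z := ⟨z.2, (mem_core hU).2 ⟨z.2.1, fun r hr hd => by
      rw [hz'] at hd
      exact (Nat.prime_dvd_prime_iff_eq hr hp).1 hd⟩⟩
    rw [h, mem_bot] at h1
    rw [h1, orderOf_one] at hz'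
    exact hp.one_lt.ne hz'
  have hN : IsPi {p} (Z ⊔ piCoreOf {p} V') :=
    (isPi_piCoreOf {p} U).inf_right.sup (isPi_piCoreOf _ _) hZn
  obtain ⟨⟨z, ⟨hz, hz0⟩, hzc⟩, hz1⟩ := ne_bot_iff_exists_ne_one.1 (nil_meet_cent hN.nil
    (sup_le le_normalizer hZn) (A := Z) (by rwa [inf_eq_left.2 le_sup_left]))
  have hz1' : z ≠ 1 := fun h => hz1 (Subtype.ext h)
  have hzp := ((mem_core hU).1 hz.2).2
  have hzV : ∀ v ∈ V, Commute v z := fun v hv => mem_centralizer_iff.1 hz.1.2 v hv.1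
  have hzV' : ∀ v ∈ V', Commute v z := fun v hv => by
    rw [← piPart_mul_piPart_compl {p} v]
    exact Commute.mul_left (mem_centralizer_iff.1 hzc _ (mem_sup_right
      ((mem_core (nil_cj hV n)).2 ⟨piPart_mem _ hv, isPiElt_piPart _ _⟩)))
      (step1' _ (piPart_mem _ hv) (isPiElt_piPart _ _) z hz.1.1 hzp)
  have hzY : ∀ y, z • y = y → y = b := fun y hy => by
    by_contra hyb
    obtain ⟨x, hx⟩ : ∃ x, x ≠ a := by
      have : Nontrivial X := Finite.one_lt_card_iff_nontrivial.1 (by omega)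
      exact exists_ne a
    refine hz1' (fY z fun y' => ?_)
    by_cases hy' : y' = b
    · rw [hy', (hfix z hz.1.1).2]
    · obtain ⟨u, hu, -, rfl⟩ := htr x x y y' hx hx hyb hy'
      rw [← mul_smul, ← mem_centralizer_iff.1 hz.1.2 u hu, mul_smul, hy]
  -- (3)
  let P := piCoreOf {p} (V ⊔ V')
  let E : Subgroup L :=
    { carrier := {d | d • a = a ∧ (∀ f ∈ V ⊔ V', Commute f d) ∧
        ∀ x, x ≠ a → ∃ f ∈ P, d • x = f • x}
      mul_mem' := by
        rintro d e ⟨d1, d2, d3⟩ ⟨e1, e2, e3⟩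
        refine ⟨by rw [mul_smul, e1, d1], fun f hf => (d2 f hf).mul_right (e2 f hf), fun x hx => ?_⟩
        obtain ⟨f, hf, h⟩ := e3 x hx
        obtain ⟨f', hf', h'⟩ := d3 x hx
        refine ⟨f * f', mul_mem hf hf', ?_⟩
        rw [mul_smul, h, ← mul_smul, ← (d2 f (piCoreOf_le _ _ hf)).eq, mul_smul, h', mul_smul]
      one_mem' := ⟨one_smul _ _, fun f _ => Commute.one_right f, fun x _ => ⟨1, one_mem _, rfl⟩⟩
      inv_mem' := by
        rintro d ⟨d1, d2, d3⟩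
        refine ⟨inv_fix d1, fun f hf => (d2 f hf).inv_right, fun x hx => ?_⟩
        obtain ⟨f, hf, h⟩ := d3 x hx
        refine ⟨f⁻¹, inv_mem hf, inv_fix ?_⟩
        rw [← mul_smul, ← (d2 f (piCoreOf_le _ _ hf)).inv_left.eq, mul_smul, h, inv_smul_smul] }
  have hmem : ∀ d : L, d • a = a → IsPiElt {p} d → (∀ v ∈ V, Commute v d) →
      (∀ v ∈ V', Commute v d) → d ∈ E := by
    intro d d1 dp d2 d3
    have d4 : ∀ f ∈ V ⊔ V', Commute f d := fun f hf => by
      have : V ⊔ V' ≤ Cent1 d := sup_le (fun v hv => mem_centralizer_singleton_iff.2 (d2 v hv))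
        (fun v hv => mem_centralizer_singleton_iff.2 (d3 v hv))
      exact mem_centralizer_singleton_iff.1 (this hf)
    refine ⟨d1, d4, fun x hx => ?_⟩
    obtain ⟨v, hv, e⟩ := hVt x (d • x) hx (hne d x d1 hx)
    have hv1 : piPart {p}ᶜ v ∈ V ⊔ V' := mem_sup_left (piPart_mem _ hv)
    refine orbit_fix (v := piPart {p}ᶜ v) (w := piPart {p} v) (fun u hu => ?_) (fun u hu => ?_)
      (d4 _ hv1).symm (dp.coprime (isPiElt_piPart _ _))
      ((mem_core hF).2 ⟨mem_sup_left (piPart_mem _ hv), isPiElt_piPart _ _⟩) ?_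
    · rwa [← (d4 u (piCoreOf_le _ _ hu)).eq, mul_inv_cancel_right]
    · exact (mem_core hF).2 ⟨mul_mem (mul_mem hv1 (piCoreOf_le _ _ hu)) (inv_mem hv1),
        isPiElt_conj.2 ((mem_core hF).1 hu).2⟩
    · rw [← mul_smul, piPart_mul_piPart_compl, e]
  have hE : IsPGroup p E := by
    obtain ⟨k, hk⟩ := (isPi_piCoreOf {p} (V ⊔ V')).exists_pow hp
    rintro ⟨d, d1, d2, d3⟩
    refine ⟨k, Subtype.ext (ext' (d ^ p ^ k) (MulAction.mem_stabilizer_iff.1
      (pow_mem (MulAction.mem_stabilizer_iff.2 d1) _)) fun x hx => ?_)⟩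
    obtain ⟨f, hf, h⟩ := d3 x hx
    have h1 : ∀ j : ℕ, d ^ j • x = f ^ j • x := by
      intro j
      induction j with
      | zero => simp
      | succ j ih =>
        rw [pow_succ', mul_smul, ih, ← mul_smul, ← ((d2 f (piCoreOf_le _ _ hf)).pow_left j).eq,
          mul_smul, h, ← mul_smul, ← pow_succ]
    have h2 : f ^ p ^ k = 1 := by
      rw [← hk]
      exact congrArg Subtype.val (pow_card_eq_one' (x := (⟨f, hf⟩ : P)))
    rw [h1, h2, one_smul]
  have hz2 : z ∈ E := hmem z (hfix z hz.1.1).1 hzp hzV hzV'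
  have hz3 : n * z * n⁻¹ ∈ E := by
    have hcj : ∀ v : L, Commute (n⁻¹ * v * n) z → Commute v (n * z * n⁻¹) := fun v h => by
      simpa [mul_assoc] using h.map (MulAut.conj n)
    refine hmem _ (by rw [mul_smul, mul_smul, inv_fix na, (hfix z hz.1.1).1, na])
      (isPiElt_conj.2 hzp) (fun v hv => hcj v (hzV' _ ?_)) fun v hv => hcj v (hzV _ (mem_cj.1 hv))
    rw [mem_cj]
    have := hVn (n⁻¹ * n⁻¹) (by rw [mul_smul, inv_fix na, inv_fix na])
      (by rw [mul_smul, inv_fix nb', inv_fix nb]) (by rw [mul_smul, inv_fix nb, inv_fix nb']) v hv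
    rwa [show n⁻¹ * n⁻¹ * v * (n⁻¹ * n⁻¹)⁻¹ = n⁻¹ * (n⁻¹ * v * n) * n by simp [mul_assoc]] at this
  have hY : ¬ p ∣ Nat.card Y := by
    have h1 := (hE.to_le (zpowers_le.2 hz2)).card_modEq_card_fixedPoints Y
    have h2 : MulAction.fixedPoints (zpowers z) Y = {b} := by
      ext y
      refine ⟨fun h => hzY y (h ⟨z, mem_zpowers z⟩), ?_⟩
      rintro rfl ⟨g, hg⟩
      exact (hfix g (zpowers_le.2 hz.1.1 hg)).2
    rw [h2, show Nat.card ({b} : Set Y) = 1 from Nat.card_unique] at h1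
    intro h
    exact hp.one_lt.ne' (Nat.dvd_one.1 ((h1.dvd_iff dvd_rfl).1 h))
  obtain ⟨y, hy⟩ := hE.nonempty_fixed_point_of_prime_not_dvd_card Y hY
  have h1 : y = b := hzY y (hy ⟨z, hz2⟩)
  have h2 : (n * z * n⁻¹) • y = y := hy ⟨_, hz3⟩
  rw [h1, mul_smul, mul_smul, inv_fix nb'] at h2
  exact hbb (hzY b' (MulAction.injective n (h2.trans nb'.symm))).symm

end H71.FSDig
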