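import Cfsg.Agent.H51.A12Spec
import Cfsg.Agent.H3.Gaschutz

/-! Job WD2 of tower A12: `N(E) / O(N(E))` is `W(D₆)`. -/

set_option autoImplicit false

namespace H71.WD2

open Cfsg Subgroup H14 H98 H1.Gold H31.S2 H20.X16.BV Function Equiv H51.X12
open H20.X16 (BV pw)
open H20.AF (P12 t0)
open H20.AR (Cen)

universe u

theorem bv_sq : ∀ x : BV 5, x * x = 1 := by decide +kernel

theorem even_sd : ∀ I J : Finset (Fin 6), Even I.card → Even J.card → Even (symmDiff I J).card := by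
  decide +kernel

theorem lb_inj {ε : Finset (Fin 6) → BV 5} (h : Lb ε) {I J : Finset (Fin 6)} (hI : Even I.card)
    (hJ : Even J.card) (e : ε I = ε J) : I = J :=
  symmDiff_eq_bot.1 (h.inj _ (even_sd I J hI hJ) (by rw [h.mul I J hI hJ, e, bv_sq]))

theorem perm_eq {σ τ : Perm (Fin 6)}
    (h : ∀ I : Finset (Fin 6), Even I.card → I.map σ.toEmbedding = I.map τ.toEmbedding) : σ = τ := by
  refine Equiv.ext fun i => ?_
  obtain ⟨j, k, ij, ik, jk⟩ : ∃ j k : Fin 6, i ≠ j ∧ i ≠ k ∧ j ≠ k := by revert i; decide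
  have key : ∀ j, i ≠ j → σ i = τ i ∨ σ i = τ j := fun j ij => by
    have := h {i, j} (by rw [Finset.card_pair ij]; decide) ▸
      Finset.mem_map_of_mem σ.toEmbedding (Finset.mem_insert_self i {j})
    simpa using this
  rcases key j ij with a | a
  · exact a
  · exact (key k ik).elim id fun b => absurd (τ.injective (a.symm.trans b)) jk

/-- a complement of `E` in `M` -/
def Cm : Subgroup M :=
  sub (fun x => (Nat.beq x.r.1 0 || Nat.beq x.r.1 4) && Nat.beq (Nat.land x.a.1 42) 0)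
    (by decide +kernel)

instance : DecidablePred (· ∈ Cm) := inferInstanceAs (DecidablePred (· ∈ sub _ _))

theorem Cm_inf : ∀ x : M, x ∈ Cm → x ∈ E → x = 1 := by decide +kernel
theorem Cm_sup : ∀ x : M, ∃ c : M, c ∈ Cm ∧ x * c⁻¹ ∈ E := by decide +kernel

theorem mem_E {x : M} : x ∈ E ↔ ∃ a, iE a = x := by rw [← range_iE]; rfl

theorem E_conj (m : M) {x : M} (h : x ∈ E) : m * x * m⁻¹ ∈ E := by
  obtain ⟨a, rfl⟩ := mem_E.1 h
  exact mem_E.2 ⟨_, (conj_iE m a).symm⟩

theorem elem_E {G : Type u} [Group G] (φ : M →* G) : IsElementaryAbelian 2 (E.map φ) :=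
  elem_map φ fun x hx => by
    obtain ⟨a, rfl⟩ := mem_E.1 hx
    rw [← map_mul, bv_sq, map_one]

section Core

variable {W : Type u} [Group W] [Finite W] {χ : M →* W} {ε : Finset (Fin 6) → BV 5}

/-- `w` permutes the labels by `σ`. -/
def Rl (χ : M →* W) (ε : Finset (Fin 6) → BV 5) (w : W) (σ : Perm (Fin 6)) : Prop :=
  ∀ I : Finset (Fin 6), Even I.card →
    w * χ (iE (ε I)) * w⁻¹ = χ (iE (ε (I.map σ.toEmbedding)))

theorem core (wd : WD1.{u}) (c : Sy χ) (L : Lab χ ε) [hn : (E.map χ).Normal]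
    (hc : cen (E.map χ) ≤ E.map χ) : ∃ p : W →* Perm P12, Injective p ∧ p.range = Cen t0 ∧
      ∀ I : Finset (Fin 6), Even I.card → p (χ (iE (ε I))) = ep0 I := by
  have : Fact (Nat.Prime 2) := ⟨Nat.prime_two⟩
  have ex : ∀ w, ∃ σ, Rl χ ε w σ := fun w => by
    obtain ⟨F, hF⟩ := c.indE (cj_eq_self_of_normal w _).le
    obtain ⟨σ, hσ⟩ := L.only w F hF
    exact ⟨σ, fun I hI => hσ I hI ▸ hF (ε I)⟩
  have un : ∀ {w σ τ}, Rl χ ε w σ → Rl χ ε w τ → σ = τ := fun h h' => perm_eq fun I hI =>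
    lb_inj L.toLb (by rwa [Finset.card_map]) (by rwa [Finset.card_map])
      (iE_inj (c.inj ((h I hI).symm.trans (h' I hI))))
  choose lm hl using ex
  let lam : W →* Perm (Fin 6) := MonoidHom.mk' lm fun a b => un (hl _) fun I hI => by
    have e := hl a _ (show Even (I.map (lm b).toEmbedding).card by rwa [Finset.card_map])
    rw [← hl b I hI, Finset.map_map] at e
    rw [show (lm a * lm b).toEmbedding = (lm b).toEmbedding.trans (lm a).toEmbedding from rfl, ← e]
    group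
  have mem : ∀ {w}, w ∈ E.map χ ↔ ∃ I : Finset (Fin 6), Even I.card ∧ w = χ (iE (ε I)) := by
    refine ⟨?_, fun ⟨I, _, e⟩ => e ▸ mem_map_of_mem χ (mem_E.2 ⟨_, rfl⟩)⟩
    rintro ⟨x, hx, rfl⟩
    obtain ⟨a, rfl⟩ := mem_E.1 hx
    obtain ⟨I, hI, rfl⟩ := L.onto a
    exact ⟨I, hI, rfl⟩
  have ker : ∀ {w}, lam w = 1 ↔ w ∈ E.map χ := fun {w} => by
    refine ⟨fun h => hc (mem_cen_iff.2 fun x hx => ?_), fun h => un (hl w) fun I hI => ?_⟩
    · obtain ⟨I, hI, rfl⟩ := mem.1 hx
      have := hl w I hI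
      rw [show lm w = 1 from h, show (1 : Perm (Fin 6)).toEmbedding = Embedding.refl _ from rfl,
        Finset.map_refl] at this
      exact mul_inv_eq_iff_eq_mul.1 this
    · rw [show (1 : Perm (Fin 6)).toEmbedding = Embedding.refl _ from rfl, Finset.map_refl,
        elem_comm (elem_E χ) h (mem.2 ⟨I, hI, rfl⟩), mul_inv_cancel_right]
  have := (elem_E χ).1
  obtain ⟨H, hH⟩ := H3.gaschutz_exists_sylow (E.map χ) (c.pg E) c.syl.toSylowTop (Cm.map χ)
    (by
      rw [← map_inf _ _ _ c.inj, eq_bot_iff]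
      rintro _ ⟨x, hx, rfl⟩
      rw [Cm_inf x hx.1 hx.2, map_one]; exact one_mem _)
    (by
      rw [← Subgroup.map_sup, IsSyl.coe_toSylowTop, MonoidHom.range_eq_map]
      refine congrArg _ (eq_top_iff.2 fun x _ => ?_)
      obtain ⟨y, h1, h2⟩ := Cm_sup x
      simpa using mul_mem (mem_sup_left h2 : _ ∈ E ⊔ Cm) (mem_sup_right h1))
  have bij : Bijective (lam.comp H.subtype) := by
    refine ⟨(injective_iff_map_eq_one _).2 fun a ha => Subtype.ext ?_, fun σ => ?_⟩
    · exact (disjoint_def.1 hH.disjoint) (ker.1 ha) a.2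
    · obtain ⟨g, f, h1, h2⟩ := L.full σ
      obtain ⟨⟨k, h⟩, e, -⟩ := hH.existsUnique g
      refine ⟨h, ?_⟩
      have : lam g = σ := un (hl g) fun I hI => h2 I hI ▸ h1 (ε I)
      rw [← this, ← e, map_mul, ker.2 k.2, one_mul]; rfl
  let l : Perm (Fin 6) →* W := H.subtype.comp (MulEquiv.ofBijective _ bij).symm.toMonoidHom
  have ll : ∀ σ, lam (l σ) = σ := fun σ => (MulEquiv.ofBijective _ bij).apply_symm_apply σ
  refine wd W (fun I => χ (iE (ε I))) l ⟨fun I J hI hJ => by rw [L.mul I J hI hJ, map_mul, map_mul],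
    fun σ I hI => ?_, fun σ I hI e => ?_, fun w => ⟨fun _ => ?_, fun _ => trivial⟩⟩
  · have := hl (l σ) I hI
    rwa [show lm (l σ) = σ from ll σ] at this
  · have e1 : σ = 1 := by
      have := congrArg lam e
      rwa [map_mul, ker.2 (mem.2 ⟨I, hI, rfl⟩), one_mul, ll, map_one] at this
    rw [e1, map_one, mul_one] at e
    exact ⟨L.inj I hI (iE_inj (c.inj (by rw [e, map_one, map_one]))), e1⟩
  · obtain ⟨I, hI, e⟩ := mem.1 (ker.1 (show lam (w * (l (lam w))⁻¹) = 1 by
      rw [map_mul, map_inv, ll, mul_inv_cancel]))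
    exact ⟨lam w, I, hI, mul_inv_eq_iff_eq_mul.1 e⟩

theorem core2 (ps : Psi) (wm : WM) (wd : WD1.{u}) (c : Sy χ) (L : Lab χ ε) [(E.map χ).Normal]
    (hc : cen (E.map χ) ≤ E.map χ) : ∃ (α : MulAut M) (p : W →* Perm P12), Injective p ∧
      p.range = Cen t0 ∧ (∀ m, p (χ (α m)) = psi m) ∧ E.map α.toMonoidHom = E := by
  have : Fact (Nat.Prime 2) := ⟨Nat.prime_two⟩
  obtain ⟨p, pi, pr, pe⟩ := core wd c L hc
  have sy : IsSyl 2 psi.range (Cen t0) :=
    ps.st.syl.of_le (by rintro _ ⟨x, rfl⟩; exact ps.le x) inf_le_left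
  obtain ⟨g, hg, e⟩ := sy.exists_cj_le (c.syl.isPGroup.map p) (pr ▸ map_le_range p _)
  let q : W →* Perm P12 := (MulAut.conj g).toMonoidHom.comp p
  have qi : Injective q := (MulAut.conj g).injective.comp pi
  choose b hb using fun m => e (conj_mem_cj (mem_map_of_mem p ⟨m, rfl⟩))
  let β : M →* M := MonoidHom.mk' b fun m n => ps.inj (by
    rw [map_mul, hb, hb, hb, map_mul, map_mul]; group)
  have bi : Injective β := fun m n h => c.inj (qi ((hb m).symm.trans ((congrArg psi h).trans (hb n))))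
  let α := MulEquiv.ofBijective β (Finite.injective_iff_bijective.1 bi)
  have hE : E.map α.toMonoidHom = E := by
    refine eq_of_le_of_card_ge ?_ (card_map_of_injective α.injective).ge
    rintro _ ⟨x, hx, rfl⟩
    obtain ⟨a, rfl⟩ := mem_E.1 hx
    obtain ⟨I, hI, rfl⟩ := L.onto a
    obtain ⟨σ, J, hJ, rfl⟩ := (wm.wr.mem g).1 hg
    refine (mem_map_iff_mem ps.inj).1 (show psi (b _) ∈ _ from ?_)
    have m1 := (wm.E _).2 ⟨J, hJ, rfl⟩
    have m2 := (wm.E _).2 ⟨I.map σ.toEmbedding, by rwa [Finset.card_map], rfl⟩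
    rw [← wm.wr.act σ I hI] at m2
    rw [hb, pe I hI]
    simpa [mul_assoc] using mul_mem (mul_mem m1 m2) (inv_mem m1)
  refine ⟨α.symm, q, qi, ?_, fun m => (hb _).symm.trans (congrArg psi (α.apply_symm_apply m)), ?_⟩
  · rw [MonoidHom.range_comp, pr]; exact cj_eq_self_of_mem hg
  · conv_lhs => rw [← hE, map_map]
    simp

end Core

section Quot

variable {H : Type u} [Group H] [Finite H] {φ : M →* H} {ε : Finset (Fin 6) → BV 5}

theorem quot (ps : Psi) (wm : WM) (wd : WD1.{u}) (c : Sy φ) (L : Lab φ ε) [hn : (E.map φ).Normal] :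
    ∃ (α : MulAut M) (p : H →* Perm P12), Odd (Nat.card p.ker) ∧
      p.range = Cen t0 ∧ (∀ m, p (φ (α m)) = psi m) ∧ E.map α.toMonoidHom = E := by
  have : Fact (Nat.Prime 2) := ⟨Nat.prime_two⟩
  let C := cen (E.map φ)
  have nC : ∀ g, g ∈ nor C := fun g =>
    normalizer_le_normalizer_centralizer _ (le_normalizer_of_normal (mem_top g))
  have sC : IsSyl 2 (E.map φ) C := by
    have := c.syl.inf_of_le_normalizer (N := C) le_top fun g _ => nC g
    rwa [show φ.range ⊓ C = E.map φ from le_antisymm ?_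
      (le_inf (map_le_range _ _) (elem_le_cen (elem_E φ) le_rfl))] at this
    rintro _ ⟨⟨m, rfl⟩, hm⟩
    exact mem_map_of_mem φ (cen_E m fun i _ => c.inj (by
      rw [map_mul, map_mul]
      exact mem_cen_iff.1 hm _ (mem_map_of_mem φ (mem_E.2 ⟨_, rfl⟩))))
  let O := opp 2 C
  have : O.Normal := normal_of_top_le_normalizer fun g _ => normalizer_le_normalizer_opp C (nC g)
  have hO : (Nat.card O).Coprime 2 := coprime_card_opp C
  have dec : ∀ g ∈ C, ∃ k ∈ O, ∃ x ∈ E.map φ, g = k * x := fun g hg => by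
    obtain ⟨P, hP⟩ := sC.exists_sylow
    have hc := MonoidHom.ker_transferSylow_isComplement' P fun d _ y hy =>
      Subtype.ext (d.2 y (hP.le hy))
    obtain ⟨⟨k, y⟩, e, -⟩ := hc.existsUnique ⟨g, hg⟩
    refine ⟨k.1, mem_map_of_mem _ (?_ : _ ∈ pPrimeCore 2 C), y.1, hP.le y.2,
      (congrArg Subtype.val e).symm⟩
    rw [← opp_top]
    refine le_opp le_top le_normalizer_of_normal ?_ k.2
    rw [← hc.index_eq_card]
    exact ((Nat.Prime.coprime_iff_not_dvd Nat.prime_two).2 P.not_dvd_index).symm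
  let π := QuotientGroup.mk' O
  have dj : ∀ x ∈ O, x ∈ φ.range → x = 1 := fun x h1 h2 => by
    obtain ⟨n, hn⟩ := IsPGroup.iff_card.1 c.syl.isPGroup
    exact disjoint_def.1 (disjoint_of_coprime_natCard (hn ▸ hO.pow_right n)) h1 h2
  have c' : Sy (π.comp φ) := by
    refine ⟨(injective_iff_map_eq_one _).2 fun m hm => c.inj ?_, ?_⟩
    · rw [map_one]; exact dj _ ((QuotientGroup.eq_one_iff _).1 hm) ⟨m, rfl⟩
    · have := c.syl.map π
      rwa [map_top_of_surjective _ (QuotientGroup.mk'_surjective O), ← MonoidHom.range_comp] at this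
  have up : ∀ {g f}, Ind φ iE g f → Ind (π.comp φ) iE (π g) f := fun h x => by
    have := congrArg π (h x)
    rwa [map_mul, map_mul, map_inv] at this
  have : (E.map (π.comp φ)).Normal := by
    rw [← map_map]; exact hn.map _ (QuotientGroup.mk'_surjective O)
  obtain ⟨α, p, pi, pr, pv, pe⟩ := core2 ps wm wd c' (ε := ε) ⟨L.toLb, fun σ => by
    obtain ⟨g, f, h1, h2⟩ := L.full σ
    exact ⟨_, f, up h1, h2⟩, fun g f h => by
      obtain ⟨g, rfl⟩ := QuotientGroup.mk'_surjective O g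
      obtain ⟨F, hF⟩ := c.indE (cj_eq_self_of_normal g _).le
      exact L.only g f (hF.congr fun x => iE_inj (c'.uniq (up hF x) (h x)))⟩ (fun g hg => by
    obtain ⟨g, rfl⟩ := QuotientGroup.mk'_surjective O g
    obtain ⟨k, hk, x, hx, rfl⟩ := dec g (mem_cen_iff.2 fun x hx => by
      have e : π g * π x = π x * π g := mem_cen_iff.1 hg (π x) (by
        rw [← map_map]; exact mem_map_of_mem _ hx)
      have := dj (g * x * g⁻¹ * x⁻¹) ((QuotientGroup.eq_one_iff _).1 (show π _ = 1 by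
        simp only [map_mul, map_inv]; rw [e]; group))
        (map_le_range φ E (mul_mem (hn.conj_mem x hx g) (inv_mem hx)))
      rwa [mul_inv_eq_one, mul_inv_eq_iff_eq_mul] at this)
    rw [map_mul, show QuotientGroup.mk' O k = 1 from (QuotientGroup.eq_one_iff _).2 hk, one_mul,
      ← map_map]
    exact mem_map_of_mem _ hx)
  refine ⟨α, p.comp π, ?_, ?_, pv, pe⟩
  · rw [MonoidHom.ker_comp_of_injective _ _ pi, QuotientGroup.ker_mk']
    exact Nat.coprime_two_right.1 hO
  · rw [MonoidHom.range_comp, MonoidHom.range_eq_top.2 (QuotientGroup.mk'_surjective O),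
      ← MonoidHom.range_eq_map, pr]

end Quot

theorem jobWD2 : JobWD2.{u} := by
  intro ps wm wd G _ _ φ ε c L
  let N := nor (E.map φ)
  have hN : ∀ m, φ m ∈ N := fun m => mem_normalizer_of_cj_le (le_of_cj fun x hx =>
    ⟨_, E_conj m hx, cj_self φ m x⟩)
  let ψ : M →* N := φ.codRestrict N hN
  have e : E.map ψ = (E.map φ).subgroupOf N := by
    apply map_injective N.subtype_injective
    rw [map_map, subgroupOf_map_subtype, inf_eq_left.2 le_normalizer]; rfl
  have : (E.map ψ).Normal := by rw [e]; infer_instance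
  have c' : Sy ψ := by
    refine ⟨fun a b h => c.inj (congrArg Subtype.val h), IsSyl.of_map_injective N.subtype_injective ?_⟩
    rw [← MonoidHom.range_comp, ← MonoidHom.range_eq_map, range_subtype]
    exact c.syl.of_le (by rintro _ ⟨m, rfl⟩; exact hN m) le_top
  obtain ⟨α, p, h1, h2, h3, h4⟩ := quot ps wm wd c' (ε := ε) ⟨L.toLb, fun σ => by
    obtain ⟨g, f, h1, h2⟩ := L.full σ
    exact ⟨⟨g, by have := h1.nor; rwa [range_iE] at this⟩, f, fun x => Subtype.ext (h1 x), h2⟩,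
    fun g f h => L.only g f fun x => congrArg Subtype.val (h x)⟩
  exact ⟨α, N, p, by rw [← map_map, h4], h2, h1, fun m _ => h3 m⟩

end H71.WD2
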