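import Cfsg.Agent.H71.Glue
import Cfsg.Agent.H71.BMCNa
import Cfsg.Agent.H71.BMCNb
import Cfsg.Agent.H71.BMCNp
import Cfsg.Agent.H71.BMCNm
import Cfsg.Agent.H71.BMCNq
import Cfsg.Agent.H71.BMCNe
import Cfsg.Agent.H71.BMCNg
import Cfsg.Agent.H71.BMCNd
import Cfsg.Agent.H71.BMCNh
import Cfsg.Agent.H71.BMCNx
import Cfsg.Agent.H71.BMCNy
import Cfsg.Agent.H71.BMCNw
import Cfsg.Agent.H71.BMCNs
import Cfsg.Agent.H71.BMCNc
set_option maxRecDepth 1000000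
set_option Elab.async false
namespace H71.BMC
noncomputable def gensN : List Net := []
noncomputable def invsN : List Net := [N.na, N.nb, N.np, N.nm, N.nq, N.ne, N.ng, N.nd, N.nh, N.nx, N.ny, N.nw, N.ns, N.nc]
noncomputable def A : ℕ → ℕ → ℕ := mkA gensN invsN
noncomputable def π : ℕ → Equiv.Perm ℕ := mkPi gensN invsN
theorem vG : ∀ r ∈ ([] : List Net), Net.valid 98304 r = true := by simp
theorem vI : ∀ r ∈ ([N.na, N.nb, N.np, N.nm, N.nq, N.ne, N.ng, N.nd, N.nh, N.nx, N.ny, N.nw, N.ns, N.nc] : List Net), Net.valid 98304 r = true := by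
  intro r hr
  simp only [List.mem_cons, List.not_mem_nil, or_false] at hr
  rcases hr with rfl | rfl | rfl | rfl | rfl | rfl | rfl | rfl | rfl | rfl | rfl | rfl | rfl | rfl
  · exact N.vna
  · exact N.vnb
  · exact N.vnp
  · exact N.vnm
  · exact N.vnq
  · exact N.vne
  · exact N.vng
  · exact N.vnd
  · exact N.vnh
  · exact N.vnx
  · exact N.vny
  · exact N.vnw
  · exact N.vns
  · exact N.vnc
theorem env : Env 98304 π A := env_mk vG vI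
theorem hN : 98304 ≤ 2 ^ 17 := by norm_num
theorem pinv : ∀ l, π (linv 0 l) = (π l)⁻¹ := mkPi_inv (gens := gensN) (invs := invsN) fun r hr => perm_mul_self hN (vI r hr) (by
  simp only [invsN, List.mem_cons, List.not_mem_nil, or_false] at hr
  rcases hr with rfl | rfl | rfl | rfl | rfl | rfl | rfl | rfl | rfl | rfl | rfl | rfl | rfl | rfl
  · exact N.ina
  · exact N.inb
  · exact N.inp
  · exact N.inm
  · exact N.inq
  · exact N.ine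
  · exact N.ing
  · exact N.ind
  · exact N.inh
  · exact N.inx
  · exact N.iny
  · exact N.inw
  · exact N.ins
  · exact N.inc
  )
def R : List (List ℕ) := [[0,1,0,1,0,1],
  [0,1,5,9,0,1,5,9,0,1,5,9],
  [0,1,5,10,0,1,5,10,0,1,5,10],
  [0,7,0,7],
  [0,5,0,5,0,5],
  [0,6,0,6,0,6],
  [0,6,9,10,11,0,6,9,10,11],
  [0,8,0,8],
  [0,3,0,3],
  [0,2,0,2],
  [0,4,0,4],
  [0,11,0,11,0,11],
  [0,9,0,9,0,9],
  [0,10,0,10,0,10],
  [1,7,1,7],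
  [1,5,1,5],
  [1,6,1,6],
  [1,8,1,8],
  [1,3,1,3],
  [1,2,1,2,1,2],
  [1,2,3,11,1,2,3,11,1,2,3,11],
  [1,2,3,10,1,2,3,10,1,2,3,10],
  [1,4,1,4],
  [1,11,1,11],
  [1,9,1,9],
  [1,10,1,10],
  [7,8,7,8],
  [7,11,7,11],
  [7,9,7,9],
  [7,10,7,10],
  [5,7,5,7],
  [5,6,5,6],
  [5,8,5,8],
  [5,11,5,11],
  [5,9,5,9],
  [5,10,5,10],
  [6,7,6,7],
  [6,8,6,8],
  [6,11,6,11],
  [6,9,6,9],
  [6,10,6,10],
  [8,11,8,11],
  [8,9,8,9],
  [8,10,8,10],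
  [3,7,3,7],
  [3,5,3,5],
  [3,6,3,6],
  [3,8,3,8],
  [3,4,3,4,3,4],
  [3,4,5,11,3,4,5,11,3,4,5,11],
  [3,4,5,9,3,4,5,9,3,4,5,9],
  [3,11,3,11],
  [3,9,3,9],
  [3,10,3,10],
  [2,7,2,7,2,7],
  [2,5,2,5],
  [2,6,2,6],
  [2,8,2,8],
  [2,3,2,3,2,3],
  [2,4,2,4],
  [2,11,2,11,2,11],
  [2,9,2,9,2,9],
  [2,10,2,10,2,10],
  [4,7,4,7],
  [4,5,4,5,4,5],
  [4,6,4,6],
  [4,8,4,8,4,8],
  [4,11,4,11,4,11],
  [4,9,4,9,4,9],
  [4,10,4,10,4,10],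
  [9,11,9,11],
  [9,10,9,10],
  [10,11,10,11],
  [12,0,12,0],
  [12,1,12,5],
  [12,2,12,4],
  [12,3,12,3],
  [12,6,12,6],
  [12,7,12,8],
  [12,9,12,10],
  [12,11,12,11],
  [13,0,13,4],
  [13,1,13,3],
  [13,2,13,2],
  [13,5,13,5],
  [13,6,13,8],
  [13,7,13,7],
  [13,9,13,9],
  [13,11,13,10],
  [12,13,12,13,12,13],
  [0,3,4,8,9,13,0,3,4,8,9,13,0,3,4,8,9,13],
  [6,7,8,9,10,11],
  [5,0,1,6,0,5,10,0,1,6,0,10,3,7,8]]
def RH : List (List ℕ) := []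
def HL : List ℕ := [0,1,2,3,4,5,6,7,8,9,13]
def S : List ℕ := [0,1,2,3,4,5,6,7,8,9,10,11,12,13]
end H71.BMC
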