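/- CO2T tower, section 5: `JobL1`. -/
import Cfsg.Agent.H41.C3Kit2

set_option autoImplicit false
set_option maxRecDepth 100000
set_option maxHeartbeats 400000
set_option synthInstance.maxSize 4000

namespace H71.C3M
open Cfsg H44 H56.L3 H42.L3 H98 Subgroup H41.C3

universe u
variable {G : Type u} [Group G] {ψ : HS L24 →* G} {r : G} {M N : J4 → J4}

def zv : J4 := (0, 1, 1, 1)
def dv : J4 := (0, 2, 2, 1)
def mT (x : J4) : J4 := (-x.1, x.2)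
def sm (x : J4) : ZMod 3 := x.2.1 + x.2.2.1 + x.2.2.2
def tp (x : J4) : ZMod 3 := sm x * qf x

theorem fixA : ∀ x : J4, sm x = 0 → ∃ i < 3, ∃ j < 3, (i ≠ 0 ∨ j ≠ 0) ∧ (mS^[i] ∘ mS'^[j]) x = x := by
  decide +kernel
theorem sqQ : ∀ i < 3, ∀ j < 3, ∀ y, (mS^[i] ∘ mS'^[j]) ((mS^[i] ∘ mS'^[j]) y) +
    (mS^[i] ∘ mS'^[j]) y + y ∈ ({0, zv, -zv} : Finset J4) := by decide +kernel
theorem neQ : ∀ i < 3, ∀ j < 3, (i ≠ 0 ∨ j ≠ 0) → ∃ y, (mS^[i] ∘ mS'^[j]) y ≠ y := by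
  decide +kernel
theorem sqQ' : ∀ i < 3, ∀ j < 3, (∀ y, (mS^[i] ∘ mS'^[j]) y = y) ∨
    ∃ y, (mS^[i] ∘ mS'^[j]) ((mS^[i] ∘ mS'^[j]) y) + (mS^[i] ∘ mS'^[j]) y + y = zv := by
  decide +kernel
theorem orb : ∀ x : J4, sm x ≠ 0 → ∃ i < 3, ∃ j < 3,
    (mS^[i] ∘ mS'^[j]) x = dv + (tp x).val • zv ∨ (mS^[i] ∘ mS'^[j]) x = -dv + (tp x).val • zv := by
  decide +kernel
theorem d8 : ∀ a : J4, qf a = 0 →
    qf (zv + dv - a) = 0 → ∀ b : J4, qf b = 0 → qf (zv + dv - b) = 0 → qf (dv + a + b) = 0 →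
    qf (zv + a + b) = 0 → qf (zv - dv + a - b) = 0 → qf (zv - dv - a + b) = 0 → ∃ i < 4, ∃ j < 2,
      zv = ((mT ∘ mR)^[i] ∘ mT^[j]) zv ∧ dv = ((mT ∘ mR)^[i] ∘ mT^[j]) dv ∧
      a = ((mT ∘ mR)^[i] ∘ mT^[j]) (0, 1, 2, 1) ∧ b = ((mT ∘ mR)^[i] ∘ mT^[j]) (1, 0, 0, 1) := by
  decide +kernel
theorem hyp : ∀ i0 < 3, ∀ i1 < 3, ∀ i2 < 3, ∀ i3 < 3, ∃ w : J4,
    qf w = 0 ∧ w ≠ 0 ∧ 3 ∣ i0 * w.1.val + i1 * w.2.1.val + i2 * w.2.2.1.val + i3 * w.2.2.2.val := by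
  decide +kernel

/-- `M` is induced by an element of `G` -/
def Rl (ψ : HS L24 →* G) (r : G) (M : J4 → J4) : Prop := ∃ g, Acts ψ r g M

theorem acts_mul {g h : G} (h1 : Acts ψ r g M) (h2 : Acts ψ r h N) : Acts ψ r (g * h) (M ∘ N) :=
  fun x => by rw [Function.comp, ← h1, ← h2]; group

theorem Rl.comp (h1 : Rl ψ r M) (h2 : Rl ψ r N) : Rl ψ r (M ∘ N) :=
  let ⟨_, a⟩ := h1; let ⟨_, b⟩ := h2; ⟨_, acts_mul a b⟩

theorem acts_pow {g : G} (h : Acts ψ r g M) (i : ℕ) : Acts ψ r (g ^ i) M^[i] := by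
  induction i with
  | zero => intro x; simp
  | succ i ih => rw [pow_succ, Function.iterate_succ]; exact acts_mul ih h

theorem Rl.iter (h : Rl ψ r M) (i : ℕ) : Rl ψ r M^[i] := let ⟨_, a⟩ := h; ⟨_, acts_pow a i⟩

theorem Rl.cancel (h1 : Rl ψ r N) (h2 : Rl ψ r (N ∘ M)) : Rl ψ r M := by
  obtain ⟨g, a⟩ := h1
  obtain ⟨h, b⟩ := h2
  refine ⟨g⁻¹ * h, fun x => ?_⟩
  calc _ = g⁻¹ * (h * vv ψ r x * h⁻¹) * g := by group
    _ = _ := by rw [b, Function.comp, ← a]; group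

theorem vz : vv ψ r zv = ψ zc := by rw [zc_eq]; exact vvB _
theorem vd : vv ψ r dv = ψ dH := by rw [dH_eq]; exact vvB _

/-- the conjugates of `z` in `J` -/
def OO (ψ : HS L24 →* G) (r : G) (x : J4) : Prop := IsConj (ψ zc) (vv ψ r x)

theorem Rl.oo (h : Rl ψ r M) (x : J4) : OO ψ r (M x) ↔ OO ψ r x := by
  obtain ⟨g, h⟩ := h
  have : IsConj (vv ψ r x) (vv ψ r (M x)) := isConj_iff.2 ⟨g, h x⟩
  exact ⟨fun e => e.trans this.symm, fun e => e.trans this⟩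

section
variable (h : L0 ψ r)
include h

theorem exists_acts {g : G} (hg : g ∈ nr (JG ψ r)) : ∃ M, Acts ψ r g M := by
  choose M hM using fun x => (h.mem _).1 (conj_mem_of_mem_normalizer hg (h.vmem x))
  exact ⟨M, fun x => (hM x).symm⟩

theorem Rl.add (h1 : Rl ψ r M) (x y : J4) : M (x + y) = M x + M y := by
  obtain ⟨g, a⟩ := h1
  exact h.inj (by rw [h.add, ← a, ← a, ← a, h.add]; group)

theorem Rl.inj (h1 : Rl ψ r M) : Function.Injective M := fun x y e => by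
  obtain ⟨g, a⟩ := h1
  have := a x
  rw [e, ← a y] at this
  exact h.inj (by simpa using this)

theorem Rl.symm (h1 : Rl ψ r M) : ∃ N, Rl ψ r N ∧ ∀ x, N (M x) = x := by
  obtain ⟨N, hN⟩ := (h1.inj h).hasLeftInverse
  have hs := Finite.injective_iff_surjective.1 (h1.inj h)
  refine ⟨N, h1.cancel ⟨1, fun x => ?_⟩, hN⟩
  obtain ⟨y, rfl⟩ := hs x
  simp [hN y]

theorem aS : Acts ψ r (ψ (ιK6 K6.s)) mS := by
  have := h.aK K6.s.k
  rwa [show (fun x : J4 => (x.1, K6.s.k • x.2)) = mS from funext (by decide +kernel)] at this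

theorem aS' : Acts ψ r (r * ψ (ιK6 K6.s) * r) mS' := by
  have := acts_mul (acts_mul h.aR (aS h)) h.aR
  rwa [show (mR ∘ mS) ∘ mR = mS' from funext (by decide +kernel)] at this

theorem rlS (i j : ℕ) : Rl ψ r (mS^[i] ∘ mS'^[j]) :=
  ⟨_, acts_mul (acts_pow (aS h) i) (acts_pow (aS' h) j)⟩

theorem oo_trans {x : J4} (hx : OO ψ r x) : ∃ M, Rl ψ r M ∧ M zv = x := by
  obtain ⟨g, hg⟩ := isConj_iff.1 hx
  obtain ⟨n, hn, e⟩ := h.fus (zpowers (ψ zc)) g (zpowers_le.2 (vz (r := r) ▸ h.vmem _)) (by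
    rintro _ ⟨_, ⟨k, rfl⟩, rfl⟩
    change g * ψ zc ^ k * g⁻¹ ∈ _
    rw [← conj_zpow, hg]; exact zpow_mem (h.vmem _) k)
  obtain ⟨M, hM⟩ := exists_acts h hn
  refine ⟨M, ⟨n, hM⟩, h.inj ?_⟩
  rw [← hM, vz, ← hg]
  have := e _ (mem_zpowers _)
  calc _ = n * (ψ zc * (n⁻¹ * g)) * g⁻¹ := by group
    _ = _ := by rw [this]; group

theorem oo_ne {x : J4} (hx : OO ψ r x) : x ≠ 0 := by
  rintro rfl
  obtain ⟨M, h1, h2⟩ := oo_trans h hx
  have h3 := h1.add h 0 0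
  rw [add_zero, left_eq_add] at h3
  exact absurd (h1.inj h (h2.trans h3.symm)) (by decide)

/-- (a) -/
theorem oo_A [Finite G] (st : St ψ r) {x : J4} (hx : OO ψ r x) (hA : sm x = 0) :
    x = zv ∨ x = -zv := by
  by_contra hne
  rw [not_or] at hne
  obtain ⟨M, ⟨g, hg⟩, rfl⟩ := oo_trans h hx
  have hM : Rl ψ r M := ⟨g, hg⟩
  obtain ⟨i, hi, j, hj, e0, e1⟩ := fixA _ hA
  obtain ⟨x0, e0⟩ := neQ i hi j hj e0
  have e2 := sqQ i hi j hj
  have hq := acts_mul (acts_pow (aS h) i) (acts_pow (aS' h) j)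
  have c := st.cm (ιK6 K6.s) (ιK6 K6.s) (by decide +kernel) (by decide +kernel)
  have s3 : ψ (ιK6 K6.s) ^ 3 = 1 := by
    rw [← map_pow, (by decide +kernel : ιK6 K6.s ^ 3 = 1), map_one]
  have s3' : (r * ψ (ιK6 K6.s) * r) ^ 3 = 1 := by
    have := conj_pow (i := 3) (a := r) (b := ψ (ιK6 K6.s))
    rwa [inv_eq_of_mul_eq_one_right st.rr, s3, mul_one, st.rr] at this
  have q3 : (ψ (ιK6 K6.s) ^ i * (r * ψ (ιK6 K6.s) * r) ^ j) ^ 3 = 1 := by
    rw [(c.pow_pow i j).mul_pow, ← pow_mul, ← pow_mul, mul_comm i, mul_comm j, pow_mul, pow_mul,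
      s3, s3']; simp
  generalize ψ (ιK6 K6.s) ^ i * (r * ψ (ιK6 K6.s) * r) ^ j = q at hq q3
  generalize mS^[i] ∘ mS'^[j] = Q at hq e0 e1 e2
  obtain ⟨i', hi', j', hj', h1⟩ := h.sz (g⁻¹ * q * g)
    (mul_mem (mul_mem (inv_mem (h.acts_nr hg)) (h.acts_nr hq)) (h.acts_nr hg)) (by
      have a1 := hg zv
      have a2 := hq (M zv)
      rw [e1, ← a1, vz] at a2
      change _ * _ = _ * _
      calc _ = g⁻¹ * (q * (g * ψ zc * g⁻¹) * q⁻¹) * q * g := by group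
        _ = _ := by rw [a2]; group)
    (by
      have := conj_pow (i := 3) (a := g⁻¹) (b := q)
      rw [inv_inv] at this
      rw [this, q3]; simp)
  have h2 : ∀ y, M ((mS^[i'] ∘ mS'^[j']) y) = Q (M y) := fun y => h.inj (by
    rw [← hg, ← h1, ← hq, ← hg]; group)
  rcases sqQ' i' hi' j' hj' with e | ⟨y, e⟩
  · obtain ⟨y, rfl⟩ := Finite.injective_iff_surjective.1 (hM.inj h) x0
    exact e0 (by rw [← h2, e])
  · have := e2 (M y)
    rw [← h2, ← h2, ← hM.add h, ← hM.add h, e] at this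
    simp only [Finset.mem_insert, Finset.mem_singleton] at this
    exact this.elim (oo_ne h hx) fun e => e.elim hne.1 hne.2

/-- (b) -/
theorem oo_ex (st : St ψ r) : ∃ x, OO ψ r x ∧ x ≠ zv ∧ x ≠ -zv := by
  obtain ⟨g, h1, h2⟩ := st.nwc
  obtain ⟨l, x, h3, h4⟩ := h.cz _ h1 (by
    rw [conj_pow, h.cube (vz (r := r) ▸ h.vmem _)]; simp)
  have key : vv ψ r x ∉ zpowers (ψ zc) := fun ⟨k, e⟩ => h2 ⟨k, by
    have := (h3.zpow_right k).eq
    change ψ zc ^ k = _ at e ⊢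
    calc _ = l⁻¹ * (l * ψ zc ^ k) := by group
      _ = _ := by rw [this, e, ← h4]; group⟩
  refine ⟨x, isConj_iff.2 ⟨l * g, by rw [← h4]; group⟩, ?_, ?_⟩
  · rintro rfl; exact key (vz (r := r) ▸ mem_zpowers _)
  · rintro rfl; exact key (by rw [h.neg, vz]; exact inv_mem (mem_zpowers _))

theorem exists_f (st : St ψ r) : ∃ M, Rl ψ r M ∧ M zv = zv ∧ M dv = -dv := by
  obtain ⟨f, h1, h2⟩ := st.ff
  have hz : ψ zc ∈ JG ψ r := vz (r := r) ▸ h.vmem _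
  have hd : ψ dH ∈ JG ψ r := vd (r := r) ▸ h.vmem _
  obtain ⟨n, hn, e⟩ := h.fus (closure {ψ zc, ψ dH}) f ((closure_le _).2 (by
    rintro _ (rfl | rfl) <;> assumption)) (by
      rw [H98.cj, MonoidHom.map_closure, closure_le]
      rintro _ ⟨_, rfl | rfl, rfl⟩
      · change f * _ * f⁻¹ ∈ _
        rwa [h1.eq, mul_inv_cancel_right]
      · change f * _ * f⁻¹ ∈ _
        rw [h2]; exact inv_mem hd)
  obtain ⟨M, hM⟩ := exists_acts h hn
  have key : ∀ a ∈ ({ψ zc, ψ dH} : Set G), n * a * n⁻¹ = f * a * f⁻¹ := fun a ha => by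
    have := e _ (subset_closure ha)
    calc _ = n * (a * (n⁻¹ * f)) * f⁻¹ := by group
      _ = _ := by rw [this]; group
  refine ⟨M, ⟨n, hM⟩, h.inj ?_, h.inj ?_⟩
  · rw [← hM, vz, key _ (by simp), h1.eq, mul_inv_cancel_right]
  · rw [← hM, h.neg, vd, key _ (by simp), h2]

theorem Rl.hom (h1 : Rl ψ r M) : ∃ f : J4 →+ J4, ⇑f = M := ⟨AddMonoidHom.mk' M (h1.add h), rfl⟩

theorem oo_tp (st : St ψ r) {x : J4} (hx : sm x ≠ 0) :
    OO ψ r x ↔ OO ψ r (dv + (tp x).val • zv) := by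
  obtain ⟨i, -, j, -, e | e⟩ := orb x hx
  · rw [← e, (rlS h i j).oo]
  · obtain ⟨M, h1, h2, h3⟩ := exists_f h st
    obtain ⟨f, rfl⟩ := h1.hom h
    rw [← h1.oo (dv + _), map_add, map_nsmul, h2, h3, ← e, (rlS h i j).oo]

end

/-- the candidates for the set of conjugates of `z` -/
def cand (a o0 o1 o2 : Bool) (x : J4) : Bool :=
  if sm x = 0 then x = zv || (x = -zv && a) else if tp x = 0 then o0 else if tp x = 1 then o1 else o2

def cnt (P : J4 → Bool) (v : J4) : ℕ := (Finset.univ.filter fun x => P x && P (v + x)).card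

theorem cand_spec : ∀ a o0 o1 o2 : Bool, ∀ k : ZMod 3, cand a o0 o1 o2 (dv + k.val • zv) = true →
    cnt (cand a o0 o1 o2) zv = cnt (cand a o0 o1 o2) (dv + k.val • zv) →
    a = true ∧ o0 = true ∧ o1 = false ∧ o2 = false := by decide +kernel

theorem oo_iff [Finite G] (h : L0 ψ r) (st : St ψ r) (x : J4) : OO ψ r x ↔ qf x = 0 ∧ x ≠ 0 := by
  classical
  let P := cand (OO ψ r (-zv)) (OO ψ r (dv + (0 : ZMod 3).val • zv))
    (OO ψ r (dv + (1 : ZMod 3).val • zv)) (OO ψ r (dv + (2 : ZMod 3).val • zv))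
  have hP : ∀ x, P x = true ↔ OO ψ r x := fun x => by
    by_cases hx : sm x = 0
    · simp only [P, cand, hx, if_true, Bool.or_eq_true, Bool.and_eq_true, decide_eq_true_eq]
      refine ⟨?_, fun e => (oo_A h st e hx).imp_right fun e' => ⟨e', e' ▸ e⟩⟩
      rintro (rfl | ⟨rfl, e⟩)
      · rw [OO, vz]
      · exact e
    · rw [oo_tp h st hx]
      simp only [P, cand, hx, if_false]
      rcases (by decide : ∀ k : ZMod 3, k = 0 ∨ k = 1 ∨ k = 2) (tp x) with e | e | e <;> rw [e]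
      · simp
      · rw [if_neg (by decide), if_pos rfl, decide_eq_true_eq]
      · rw [if_neg (by decide), if_neg (by decide), decide_eq_true_eq]
  obtain ⟨v, h1, h2, h3⟩ := oo_ex h st
  have h4 : sm v ≠ 0 := fun e => (oo_A h st h1 e).elim h2 h3
  have h5 := (oo_tp h st h4).1 h1
  obtain ⟨M, h6, h7⟩ := oo_trans h h5
  obtain ⟨e1, e2, e3, e4⟩ := cand_spec _ _ _ _ (tp v) ((hP _).2 h5)
    (Finset.card_bijective M (Finite.injective_iff_bijective.1 (h6.inj h)) fun y => by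
      change _ ∈ Finset.univ.filter (fun x => P x && P (zv + x)) ↔
        _ ∈ Finset.univ.filter (fun x => P x && P (_ + x))
      simp only [Finset.mem_filter, Finset.mem_univ, true_and, Bool.and_eq_true, hP]
      rw [← h7, ← h6.add h, h6.oo, h6.oo])
  rw [← hP]
  simp only [P, e1, e2, e3, e4]
  revert x
  decide +kernel

/-- injective additive maps preserving the singular vectors -/
def Gd (M : J4 → J4) : Prop :=
  (∀ x y, M (x + y) = M x + M y) ∧ (∀ x, M x = 0 → x = 0) ∧ ∀ x, qf x = 0 → qf (M x) = 0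

theorem Gd.comp [Finite G] (h : L0 ψ r) (st : St ψ r) (h1 : Rl ψ r N) (h2 : Gd M) : Gd (N ∘ M) := by
  obtain ⟨f, rfl⟩ := h1.hom h
  refine ⟨fun x y => by simp [h2.1], fun x e => h2.2.1 x (h1.inj h (e.trans f.map_zero.symm)),
    fun x e => ?_⟩
  by_cases e0 : M x = 0
  · rw [Function.comp, e0, map_zero]; rfl
  · exact ((oo_iff h st _).1 ((h1.oo _).2 ((oo_iff h st _).2 ⟨h2.2.2 x e, e0⟩))).1

theorem step3 (h : L0 ψ r) (hM : Gd M) (h1 : M zv = zv) (h2 : M dv = dv) : Rl ψ r M := by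
  obtain ⟨f, rfl⟩ : ∃ f : J4 →+ J4, ⇑f = M := ⟨AddMonoidHom.mk' M hM.1, rfl⟩
  obtain ⟨u, hu⟩ : ∃ u : J4, u = (0, 1, 2, 1) := ⟨_, rfl⟩
  obtain ⟨v, hv⟩ : ∃ v : J4, v = (1, 0, 0, 1) := ⟨_, rfl⟩
  have a1 := hM.2.2 (zv + dv - u) (by rw [hu]; decide)
  have a2 := hM.2.2 (zv + dv - v) (by rw [hv]; decide)
  have a3 := hM.2.2 (dv + u + v) (by rw [hu, hv]; decide)
  have a4 := hM.2.2 (zv + u + v) (by rw [hu, hv]; decide)
  have a5 := hM.2.2 (zv - dv + u - v) (by rw [hu, hv]; decide)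
  have a6 := hM.2.2 (zv - dv - u + v) (by rw [hu, hv]; decide)
  simp only [map_add, map_sub, h1, h2] at a1 a2 a3 a4 a5 a6
  obtain ⟨i, -, j, -, e1, e2, e3, e4⟩ := d8 (f u) (hM.2.2 u (by rw [hu]; decide)) a1 (f v)
    (hM.2.2 v (by rw [hv]; decide)) a2 a3 a4 a5 a6
  rw [← hu] at e3
  rw [← hv] at e4
  have hT : Rl ψ r mT := ⟨_, h.aT⟩
  have hN := ((hT.comp ⟨_, h.aR⟩).iter i).comp (hT.iter j)
  generalize (mT ∘ mR)^[i] ∘ mT^[j] = N at *
  obtain ⟨g, rfl⟩ := hN.hom h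
  rwa [show ⇑f = g from funext fun x => by
    obtain ⟨w, rfl⟩ := (by decide +kernel : ∀ x, ∃ w, x = ap4 zv dv (0, 1, 2, 1) (1, 0, 0, 1) w) x
    rw [← hu, ← hv]
    simp only [ap4, map_add, map_nsmul, h1, h2, ← e1, ← e2, e3, e4]]

theorem real [Finite G] (h : L0 ψ r) (st : St ψ r) (hM : Gd M) : Rl ψ r M := by
  have s2 : ∀ M, Gd M → M zv = zv → Rl ψ r M := fun M hM h1 => by
    obtain ⟨f, rfl⟩ : ∃ f : J4 →+ J4, ⇑f = M := ⟨AddMonoidHom.mk' M hM.1, rfl⟩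
    have hi : Function.Injective f := (injective_iff_map_eq_zero f).2 hM.2.1
    have a1 := hM.2.2 dv (by decide)
    have a2 : sm (f dv) ≠ 0 := fun e => by
      rcases (by decide +kernel : ∀ x, qf x = 0 → sm x = 0 → x = 0 ∨ x = zv ∨ x = -zv) _ a1 e
        with e | e | e
      · exact absurd (hM.2.1 _ e) (by decide)
      · exact absurd (hi (e.trans h1.symm)) (by decide)
      · exact absurd (hi (e.trans (by rw [map_neg, h1]))) (by decide : dv ≠ -zv)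
    obtain ⟨i, hi', j, hj', e⟩ := orb _ a2
    rw [tp, a1, mul_zero, ZMod.val_zero, zero_smul, add_zero, add_zero] at e
    have hN := rlS h i j
    have e0 : (mS^[i] ∘ mS'^[j]) zv = zv :=
      (by decide +kernel : ∀ i < 3, ∀ j < 3, (mS^[i] ∘ mS'^[j]) zv = zv) i hi' j hj'
    generalize mS^[i] ∘ mS'^[j] = N at *
    refine hN.cancel ?_
    rcases e with e | e
    · exact step3 h (hM.comp h st hN) (by rw [Function.comp, h1, e0]) e
    · obtain ⟨K, k1, k2, k3⟩ := exists_f h st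
      refine k1.cancel (step3 h ((hM.comp h st hN).comp h st k1)
        (by simp only [Function.comp, h1, e0, k2]) ?_)
      obtain ⟨g, rfl⟩ := k1.hom h
      simp only [Function.comp, e, map_neg, k3, neg_neg]
  obtain ⟨N, h1, h2⟩ := oo_trans h ((oo_iff h st (M zv)).2
    ⟨hM.2.2 _ (by decide), fun e => absurd (hM.2.1 _ e) (by decide)⟩)
  obtain ⟨K, h3, h4⟩ := h1.symm h
  exact h3.cancel (s2 _ (hM.comp h st h3) (by rw [Function.comp, ← h2, h4]))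

theorem sig [Finite G] (h : L0 ψ r) (st : St ψ r) : Sig (JG ψ r) := by
  intro K hK hn
  have key : ∀ x, qf x = 0 → x ≠ 0 → ∀ k ∈ K, vv ψ r x * k * (vv ψ r x)⁻¹ = k → k = 1 := by
    intro x h1 h2 k hk e
    obtain ⟨M, ⟨g, hg⟩, rfl⟩ := oo_trans h ((oo_iff h st x).2 ⟨h1, h2⟩)
    have hgn := h.acts_nr hg
    have h3 := h.sigz (H98.cj g⁻¹ (K ⊓ Ce (vv ψ r (M zv)))) (by
        rintro _ ⟨a, ha, rfl⟩
        have := conj_mem_Ce ha.2 g⁻¹
        rw [← hg, vz] at this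
        simpa [mul_assoc] using this)
      (by rw [card_cj]; exact hK.coprime_dvd_left (card_dvd_of_le inf_le_left)) (by
        intro j hj
        refine mem_normalizer_of_cj_le ?_
        rintro _ ⟨_, ⟨a, ha, rfl⟩, rfl⟩
        have hj' := conj_mem_of_mem_normalizer hgn hj
        refine ⟨g * j * g⁻¹ * a * (g * j * g⁻¹)⁻¹, ⟨hn _ hj' a ha.1, ?_⟩, ?_⟩
        · have := conj_mem_Ce ha.2 (g * j * g⁻¹)
          rwa [(h.comm hj' (h.vmem _)).eq, mul_inv_cancel_right] at this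
        · change g⁻¹ * _ * g⁻¹⁻¹ = j * (g⁻¹ * a * g⁻¹⁻¹) * j⁻¹
          group)
    have h4 : g⁻¹ * k * g⁻¹⁻¹ ∈ H98.cj g⁻¹ (K ⊓ Ce (vv ψ r (M zv))) :=
      ⟨k, ⟨hk, mem_Ce.2 (mul_inv_eq_iff_eq_mul.1 e).symm⟩, rfl⟩
    rw [h3, mem_bot] at h4
    exact conj_eq_one_iff.1 h4
  let f : Multiplicative J4 →* G := MonoidHom.mk' (fun c => vv ψ r c.toAdd) fun c d => h.add _ _
  have hc : Nat.card (Multiplicative J4) = 3 ^ 4 := by simp
  refine eq_bot_iff.2 (H1.le_of_cocyclic_fixed (MulAut.conj.comp f) K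
    (fun c x hx => hn _ (h.vmem _) x hx) (hc ▸ (hK.symm.pow_left 4 :)) ⊥ fun Y hY x hx e => ?_)
  obtain ⟨g, hg⟩ := IsCyclic.exists_generator (α := Multiplicative J4 ⧸ Y)
  have g3 : g ^ 3 = 1 := by
    obtain ⟨a, rfl⟩ := QuotientGroup.mk'_surjective Y g
    rw [← map_pow, (by decide +kernel : ∀ a : Multiplicative J4, a ^ 3 = 1) a, map_one]
  let χ : J4 → Multiplicative J4 ⧸ Y := fun w => QuotientGroup.mk' Y (Multiplicative.ofAdd w)
  obtain ⟨i0, h0, e0⟩ := (mem_zp3 g3).1 (hg (χ (1, 0, 0, 0)))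
  obtain ⟨i1, h1, e1⟩ := (mem_zp3 g3).1 (hg (χ (0, 1, 0, 0)))
  obtain ⟨i2, h2, e2⟩ := (mem_zp3 g3).1 (hg (χ (0, 0, 1, 0)))
  obtain ⟨i3, h3, e3⟩ := (mem_zp3 g3).1 (hg (χ (0, 0, 0, 1)))
  obtain ⟨w, w1, w2, w3⟩ := hyp i0 h0 i1 h1 i2 h2 i3 h3
  have h4 : χ w = 1 := by
    rw [(by decide +kernel : ∀ w : J4, w = ap4 (1, 0, 0, 0) (0, 1, 0, 0) (0, 0, 1, 0) (0, 0, 0, 1) w) w]
    obtain ⟨n, hn⟩ := w3
    simp only [χ, ap4, ofAdd_add, ofAdd_nsmul, map_mul, map_pow] at e0 e1 e2 e3 ⊢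
    rw [← e0, ← e1, ← e2, ← e3]
    simp only [← pow_mul, ← pow_add]
    rw [hn, pow_mul, g3, one_pow]
  exact key w w1 w2 x hx (e (Multiplicative.ofAdd w) ((QuotientGroup.eq_one_iff _).1 h4))

theorem jobL1 : JobL1.{u} := fun _ _ _ _ _ st h =>
  ⟨fun x hx => ((oo_iff h st x).1 hx).1, fun c0 c1 c2 c3 h1 h2 => real h st ⟨fun x y => by
    have e : ∀ a b : ZMod 3, ∀ c : J4, (a + b).val • c = a.val • c + b.val • c := by decide +kernel
    simp only [ap4, Prod.fst_add, Prod.snd_add, e]; abel, h1, h2⟩, sig h st⟩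

end H71.C3M
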