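/- Sectional rank three: tools for the local data used in Lemma K. -/
import Cfsg.Agent.H87.F3T

set_option autoImplicit false
set_option linter.unusedSectionVars false

namespace H71.F3K
open Cfsg H92 H93 Subgroup H92.Es H92.P5 H87.F3
open scoped commutatorElement

universe u

variable {Ω : Type u} [Group Ω] [Finite Ω] {A B C D E H J K L N P Q U : Subgroup Ω}
  {a x y z : Ω} {p : ℕ} [hp : Fact p.Prime]

theorem sp_of_two (hA : IsPGroup p A) (h1 : P ≤ A) (s : Sp p P B)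
    (e : Nat.card A = p ^ 2 * Nat.card B) : Sp p A P :=
  ⟨h1, hA, by rw [e, s.card]; ring⟩

theorem tv_of_w (s : Sp p A B) (hz : z ∈ Nm B) (hy : y ∈ A) (n : y ∉ B) (w : W z y B 1) :
    z ∈ Tv A B := W.tv hz fun _ hy' => W.same s hz hy n hy' w

theorem zp_tv (z : Ω) (E : Subgroup Ω) : z ∈ Tv E ⁅E, zpowers z⁆ :=
  tv_of_com (H1.le_normalizer_commutator_right E (zpowers z) (mem_zpowers z)) fun _ hx =>
    com_symm (commutator_mem_commutator hx (mem_zpowers z))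

theorem com_zp_le (h : z ∈ Tv E Q) : ⁅E, zpowers z⁆ ≤ Q := by
  rw [commutator_comm]; exact le_of_tv (zpowers_le.2 h)

section loc
variable (h : Loc p E N L)
include h

theorem pgN : IsPGroup p N := h.sp.pg

theorem pgE : IsPGroup p E := h.sp.pg.to_le h.sp.le

theorem lE : E ≤ L := h.sp.le.trans h.le

theorem nmC : L ≤ Nm (L ⊓ Ct E) := fun _ ha => mem_Nm_inf (le_Nm L ha) (mem_Nm_Ct (h.nm ha))

theorem pl (hx : x ∈ N) (hx' : x ∉ E) (hJ : x ∈ J) (hn : L ≤ Nm J) (hC : L ⊓ Ct E ≤ J) :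
    PMod p L J := by
  have n1 : L ≤ Nm (E ⊔ J) := fun _ ha => mem_Nm_sup (h.nm ha) (hn ha)
  have h1 : N ≤ E ⊔ J := h.sp.le_of le_sup_left hx hx' (mem_sup_right hJ)
  have h2 : L ≤ E ⊔ J := h.gen _ (fun a ha => (cj_mono a h1).trans (cj_eq_of_Nm (n1 ha)).le)
    (hC.trans le_sup_right)
  exact (pMod_sup (pgE h) ((lE h).trans hn)).mono h2 le_rfl

theorem rad (hx : x ∈ N) (hJ : x ∈ J) (hn : L ≤ Nm J) (hC : L ⊓ Ct E ≤ J)
    (hq : PMod p J (Ct E)) : x ∈ E :=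
  by_contra fun hx' => h.nn ((pl h hx hx' hJ hn hC).trans hq)

theorem pm_sup (hJ : J ≤ L) (hq : PMod p J (Ct E)) : PMod p (J ⊔ (L ⊓ Ct E)) (L ⊓ Ct E) :=
  PMod.sup (PMod.inf (PMod.of_le hJ) hq) (hJ.trans (nmC h))

theorem le_of_nm (hK : K ≤ N) (hn : L ≤ Nm K) : K ≤ E := fun _ hx =>
  rad h (hK hx) (J := K ⊔ (L ⊓ Ct E)) (mem_sup_left hx)
    (fun _ ha => mem_Nm_sup (hn ha) (nmC h ha)) le_sup_right
    ((pm_sup h (hK.trans h.le) (PMod.of_isPGroup ((pgN h).to_le hK) _)).mono le_rfl inf_le_right)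

theorem c_tv (hA : A ≤ E) (h1 : B ≤ A) : L ⊓ Ct E ≤ Tv A B := fun _ hg =>
  mem_Tv_of_Ct (Ct_anti hA hg.2) (Ct_le_Nm _ (Ct_anti (h1.trans hA) hg.2))

theorem pl_tv (hA : A ≤ E) (h1 : B ≤ A) (nA : L ≤ Nm A) (nB : L ≤ Nm B)
    (hq : ¬ PMod p L (Tv A B)) (hx : x ∈ N) (hJ : x ∈ Tv A B) : x ∈ E :=
  by_contra fun hx' => hq (pl h hx hx' hJ (fun _ ha => mem_Nm_Tv (nA ha) (nB ha)) (c_tv h hA h1))

theorem small (hA : A ≤ E) (h1 : B ≤ A) (nA : L ≤ Nm A) (nB : L ≤ Nm B)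
    (e : Nat.card A ≤ p * Nat.card B) : L ≤ Tv A B := by
  refine h.gen _ (fun a ha => ?_) (c_tv h hA h1)
  have l : cj a N ≤ L := cj_le_of_mem ha h.le
  refine tv_small (isPGroup_cj a (pgN h)) ?_ h1 (l.trans nA) (l.trans nB) e
  rw [← cj_eq_of_Nm (nA ha)]; exact cj_mono a (hA.trans h.sp.le)

theorem irr_two (hA : A ≤ E) (nA : L ≤ Nm A) (nB : L ≤ Nm B)
    (e : Nat.card A = p ^ 2 * Nat.card B) (hq : ¬ PMod p L (Tv A B)) : Irr L A B := by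
  intro U h1 h2 nU
  by_contra hc
  rw [not_or] at hc
  obtain ⟨s1, s2⟩ := sp_mid' ((pgE h).to_le hA) e (lt_of_le_of_ne h1 (Ne.symm hc.1))
    (lt_of_le_of_ne h2 hc.2)
  exact hq (PMod.tv2 s2.pg (PMod.of_le (small h hA h2 nA nU s1.card.le))
    (PMod.of_le (small h (h2.trans hA) h1 nU nB s2.card.le)))

theorem le_sup_of_normal (hJ : J ≤ L) (hn : L ≤ Nm J) (hq : PMod p J (Ct E)) :
    J ≤ E ⊔ (L ⊓ Ct E) := by
  have n1 : L ≤ Nm (J ⊔ (L ⊓ Ct E)) := fun _ ha => mem_Nm_sup (hn ha) (nmC h ha)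
  have h1 : J ≤ N ⊔ (L ⊓ Ct E) :=
    h.syl.le_of_normal le_sup_right (nmC h) (PMod.inf (PMod.of_le hJ) hq) hJ hn
  intro g hg
  obtain ⟨x, hx, c, hc, rfl⟩ := (mem_sup_of_le_Nm (h.le.trans (nmC h))).1 (h1 hg)
  have : x ∈ J ⊔ (L ⊓ Ct E) := by
    have := mul_mem (mem_sup_left hg : _ ∈ J ⊔ (L ⊓ Ct E)) (inv_mem (mem_sup_right hc))
    simpa using this
  exact mul_mem (mem_sup_left (rad h hx this n1 le_sup_right
    ((pm_sup h hJ hq).mono le_rfl inf_le_right))) (mem_sup_right hc)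

end loc

/-- `a` normalizes `⁅E, z⁆` if it commutes with the coprime element `z` modulo `E C(E)` -/
theorem nm_comm_of (hE : IsPGroup p E) (hc : (orderOf z).Coprime p) (ha : a ∈ Nm E)
    (hz : z ∈ Nm E) (e : a * z * a⁻¹ * z⁻¹ ∈ E ⊔ Ct E) : a ∈ Nm ⁅E, zpowers z⁆ := by
  have nQ : E ≤ Nm ⁅E, zpowers z⁆ := H1.le_normalizer_commutator_left E _
  have lQ : ⁅E, zpowers z⁆ ≤ E := H1.commutator_le_of_le_normalizer (zpowers_le.2 hz)
  have c : Ct E ≤ Tv E ⁅E, zpowers z⁆ := fun _ hg =>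
    mem_Tv_of_Ct hg (Ct_le_Nm _ (Ct_anti lQ hg))
  have m : a * z * a⁻¹ ∈ E ⊔ Tv E ⁅E, zpowers z⁆ := by
    have := mul_mem (sup_le_sup_left c E e) (mem_sup_right (zp_tv z E))
    simpa using this
  have t := PMod.mem (pMod_sup hE fun _ hg => mem_Nm_Tv (le_Nm E hg) (nQ hg)) m
    (by rw [orderOf_conj']; exact hc)
  refine mem_Nm_of_le ?_
  rw [cj_commutator, cj_eq_of_Nm ha, cj_zpowers]
  exact com_zp_le t

end H71.F3K
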