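/- Sectional rank three, Lemma K: both groups act on a chief factor. -/
import Cfsg.Agent.H71.F3K

set_option autoImplicit false
set_option linter.unusedSectionVars false

namespace H71.F3K
open Cfsg H92 H93 Subgroup H92.Es H92.P5 H87.F3
open scoped commutatorElement

universe u

variable {Ω : Type u} [Group Ω] [Finite Ω] {A B E E₁ E₂ H H' K L L₁ L₂ N P P' : Subgroup Ω}
  {p : ℕ} [hp : Fact p.Prime]

/-- `L` fixes the point `P / B` of the plane `K / B` -/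
structure Pt (p : ℕ) (E L K B P : Subgroup Ω) : Prop where
  sp : Sp p P B
  le : P ≤ K
  card : Nat.card K = p ^ 2 * Nat.card P
  nm : L ≤ Nm P
  tv : E ≤ Tv K P
  irr : Irr L K P
  eq : K ⊓ Tv E B = P

/-- `L` fixes the line `H / B` of the plane `K / B` -/
structure Ln (p : ℕ) (E N L K B H : Subgroup Ω) : Prop where
  sp : Sp p K H
  le : B ≤ H
  card : Nat.card H = p ^ 2 * Nat.card B
  nm : L ≤ Nm H
  tv : E ≤ Tv H B
  min : ∀ H', B ≤ H' → E ≤ Tv K H' → H ≤ H'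

theorem types (hs : SR p 3 N) (h : Loc p E N L) (hA : A ≤ E) (el : El p A B) (nA : L ≤ Nm A)
    (nB : L ≤ Nm B) (hq : ¬ PMod p L (Tv A B)) (hE : ¬ E ≤ Tv A B) :
    Nat.card A = p ^ 3 * Nat.card B ∧ ((∃ P, Pt p E L A B P) ∨ ∃ H, Ln p E N L A B H) := by
  have pA : IsPGroup p A := (pgE h).to_le hA
  have nAE : E ≤ Nm A := (lE h).trans nA
  have nBE : E ≤ Nm B := (lE h).trans nB
  have nBA : A ≤ Nm B := hA.trans nBE
  set A₁ := B ⊔ ⁅E, A⁆ with hA₁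
  have l1 : B ≤ A₁ := le_sup_left
  have l2 : A₁ ≤ A := sup_le el.le (com_le nAE)
  have n1 : L ≤ Nm A₁ := fun _ ha => mem_Nm_sup (nB ha) (mem_Nm_commutator (h.nm ha) (nA ha))
  have mn : ∀ H', B ≤ H' → E ≤ Tv A H' → A₁ ≤ H' := fun H' h1 h2 => sup_le h1 (le_of_tv h2)
  have t1 : E ≤ Tv A A₁ := tv_of_le ((lE h).trans n1) le_sup_right
  have k1 : ¬ A₁ ≤ B := fun e => hE (tv_of_le nBE (le_sup_right.trans e))
  have k2 : ¬ A ≤ A₁ := by
    obtain ⟨C, c1, c2, c3, -⟩ := exists_top (pgE h) hA el.le nAE nBE fun e => k1 (l2.trans e)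
    exact fun e => c2.not_le (e.trans (mn C c1 c3))
  obtain ⟨i, hi⟩ := exists_idx pA l2
  obtain ⟨j, hj⟩ := exists_idx (pA.to_le l2) l1
  have hij : i + j ≤ 3 := idx_le (B := B) (p := p) (by
    have := hs A B (hA.trans h.sp.le) el
    rwa [hi, hj, ← mul_assoc, ← pow_add] at this)
  have i0 : i ≠ 0 := fun e => k2 (eq_of_le_of_card_ge l2 (by rw [hi, e]; simp)).ge
  have j0 : j ≠ 0 := fun e => k1 (eq_of_le_of_card_ge l1 (by rw [hj, e]; simp)).ge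
  have s1 : i = 1 → L ≤ Tv A A₁ := fun e => small h hA l2 nA n1 (by rw [hi, e]; simp)
  have s2 : j = 1 → L ≤ Tv A₁ B := fun e => small h (l2.trans hA) l1 n1 nB (by rw [hj, e]; simp)
  have nU : ∀ U, L ≤ Nm U → L ≤ Nm (U ⊓ Tv E B) := fun U hU _ ha =>
    mem_Nm_inf (hU ha) (mem_Nm_Tv (h.nm ha) (nB ha))
  obtain ⟨rfl, rfl⟩ | ⟨rfl, rfl⟩ | ⟨rfl, rfl⟩ : (i = 1 ∧ j = 1) ∨ (i = 2 ∧ j = 1) ∨ (i = 1 ∧ j = 2) := by
    omega
  · exact absurd (PMod.tv2 (pA.to_le l2) (PMod.of_le (s1 rfl)) (PMod.of_le (s2 rfl))) hq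
  · have ir := irr_two h hA nA n1 hi fun e => hq (PMod.tv2 (pA.to_le l2) e (PMod.of_le (s2 rfl)))
    refine ⟨by rw [hi, hj]; ring, Or.inl ⟨A₁, ⟨l1, pA.to_le l2, by rw [hj]; simp⟩, l2, hi, n1, t1,
      ir, (ir _ (le_inf l2 (tv_symm (l2.trans nBA) ((lE h).trans (s2 rfl)))) inf_le_left
        (nU A nA)).resolve_right fun e => hE (tv_symm nBE (e.ge.trans inf_le_right))⟩⟩
  · have ir := irr_two h (l2.trans hA) n1 nB hj
      fun e => hq (PMod.tv2 (pA.to_le l2) (PMod.of_le (s1 rfl)) e)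
    obtain ⟨C, c1, c2, c3, -⟩ := exists_step (pgE h) (l2.trans hA) l1 ((lE h).trans n1) nBE k1
    have e := (ir _ (le_inf l1 (le_Tv_of_le_Nm nBE)) inf_le_left (nU A₁ n1)).resolve_left fun e =>
      c1.not_le ((le_inf c2 (tv_symm c1.nm c3)).trans e.le)
    exact ⟨by rw [hi, hj]; ring, Or.inr ⟨A₁, ⟨l2, pA, by rw [hi]; simp⟩, l1, hj, n1,
      tv_symm nBE (e.ge.trans inf_le_right), mn⟩⟩

theorem Pt.uniq (h : Loc p E N L) (t : Pt p E L K B P) (s : Sp p P' B) (l : P' ≤ K) (hK : K ≤ N)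
    (n : N ≤ Nm P') (nB : N ≤ Nm B) : P' = P :=
  Sp.eq_of_le' s t.sp (t.eq ▸ le_inf l (tv_symm s.nm fun _ hx =>
    s.tv (pgN h) (l.trans hK) (h.sp.le hx) (n (h.sp.le hx)) (nB (h.sp.le hx))))

theorem Ln.uniq (h : Loc p E N L) (t : Ln p E N L K B H) (s : Sp p K H') (l : B ≤ H') (hK : K ≤ N)
    (n : N ≤ Nm H') (nK : N ≤ Nm K) : H = H' :=
  Sp.eq_of_le t.sp s (t.min H' l fun _ hx =>
    s.tv (pgN h) hK (h.sp.le hx) (nK (h.sp.le hx)) (n (h.sp.le hx)))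

/-- the point-line case -/
theorem pt_ln (hs : SR p 3 N) (h1 : Loc p E₁ N L₁) (h2 : Loc p E₂ N L₂) (ne : E₁ ≠ E₂)
    (hK : K ≤ E₁ ⊓ E₂) (nK1 : L₁ ≤ Nm K) (nB1 : L₁ ≤ Nm B) (el : El p K B)
    (hR : N ⊓ Tv K B ≤ K) (nH : ¬ L₁ ≤ Nm H) (tP : Pt p E₁ L₁ K B P) (tH : Ln p E₂ N L₂ K B H) :
    False := by
  obtain ⟨m1, -, -, -⟩ := two_max h1.sp h2.sp ne
  set M := E₁ ⊓ E₂ with hM
  have lM : M ≤ E₁ := inf_le_left
  have lK : K ≤ E₁ := hK.trans lM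
  have lN := h1.sp.le
  have nBE : E₁ ≤ Nm B := (lE h1).trans nB1
  have nPE : E₁ ≤ Nm P := (lE h1).trans tP.nm
  have pp := hp.out.one_lt
  have cP := tP.sp.card
  have cK := tP.card
  have pos : 0 < Nat.card B := Nat.card_pos
  have tPB : P ≤ Tv E₁ B := tP.eq.ge.trans inf_le_right
  have tEB : E₁ ≤ Tv P B := tv_symm nBE tPB
  have tM : M ≤ Tv H B := inf_le_right.trans tH.tv
  -- `M / K` has order `p`
  obtain ⟨w, hw, hw'⟩ := tH.sp.ex
  have c1 : Nat.card M ≤ p * Nat.card K := by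
    refine (card_le_cm tP.sp (lM.trans tEB) (w := w)
      fun g hg => com_of_tv (tP.tv (lM hg)) hw).trans (Nat.mul_le_mul_left _ (card_le_of_le ?_))
    exact fun g hg => hR ⟨lN (lM hg.1), tH.sp.tv_of (tM hg.1) (lK.trans nBE) hw hw' hg.2.2⟩
  have c2 : M ≠ K := fun e => by
    obtain ⟨x, hx, hx'⟩ := m1.ex
    have c := card_le_cm tP.sp (lK.trans tEB) (w := x) fun g hg => com_symm (com_of_tv (tP.tv hx) hg)
    have l : K ⊓ Cm x B ≤ P := tP.eq ▸ fun g hg =>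
      ⟨hg.1, m1.tv_of (e ▸ el.ab hg.1) nBE hx hx' hg.2.2⟩
    have := c.trans (Nat.mul_le_mul_left _ (card_le_of_le l))
    rw [cK, ← pow_one p, ← pow_mul] at this
    have := idx_le this
    omega
  have sM : Sp p M K := (sp_of_card_le (m1.pg.to_le lM) hK c1).resolve_left c2
  obtain ⟨a, ha, ha'⟩ := SetLike.not_le_iff_exists.1 nH
  have ea : cj a K = K := cj_eq_of_Nm (nK1 ha)
  have eE : cj a E₁ = E₁ := cj_eq_of_Nm (h1.nm ha)
  have eP : cj a P = P := cj_eq_of_Nm (tP.nm ha)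
  have lM' : cj a M ≤ E₁ := eE ▸ cj_mono a lM
  have c3 : ¬ cj a M ≤ M := fun e => by
    have e' : cj a M = M := cj_eq_of_Nm (mem_Nm_of_le e)
    have t' : M ≤ Tv (cj a H) B := by
      rw [← e', ← cj_eq_of_Nm (nB1 ha), ← cj_Tv]; exact cj_mono a tM
    have lH : cj a H ≤ K := ea ▸ cj_mono a tH.sp.le
    have eK : H ⊔ cj a H = K := tH.sp.eq_of le_sup_left (sup_le tH.sp.le lH)
      fun e => ha' (mem_Nm_of_le (le_sup_right.trans e))
    exact sM.not_le fun g hg => hR ⟨lN (lM hg), eK ▸ mem_Tv_sup (tM hg) (t' hg)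
      (tH.sp.le.trans (lK.trans nBE)) (lH.trans (lK.trans nBE))⟩
  -- `E₁ / P` is abelian
  have ab : E₁ ≤ Tv E₁ P := by
    obtain ⟨s, hs1, hs2⟩ := m1.ex
    obtain ⟨r, hr1, hr2⟩ := sM.ex
    obtain ⟨g1, g2, g3⟩ := com_gen m1 sM tP.le tP.tv hs1 hs2 hr1 hr2
    have l : P ⊔ ⁅E₁, E₁⁆ ≤ P ⊔ zpowers ⁅s, r⁆ := sup_le le_sup_left g3
    have l' : P ⊔ zpowers ⁅s, r⁆ ≤ K := sup_le tP.le (zpowers_le.2 g1)
    rcases tP.irr (P ⊔ ⁅E₁, E₁⁆) le_sup_left (l.trans l') (fun _ hg =>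
      mem_Nm_sup (tP.nm hg) (mem_Nm_commutator (h1.nm hg) (h1.nm hg))) with e | e
    · exact tv_of_le nPE (le_sup_right.trans e.le)
    · exfalso
      have e' : K = P ⊔ zpowers ⁅s, r⁆ := le_antisymm (e.ge.trans l) l'
      by_cases hc : ⁅s, r⁆ ∈ P
      · have := card_le_of_le (e'.le.trans (sup_le le_rfl (zpowers_le.2 hc)))
        rw [cK, ← one_mul (Nat.card P), ← pow_zero p, ← mul_assoc, ← pow_add] at this
        have := idx_le this
        omega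
      · have := (sp_sup sM.pg (tP.le.trans hK) (hK g1) hc (nPE (lK g1)) g2).card
        rw [← e', cK, ← pow_one p, ← pow_mul] at this
        have := idx_le this.le
        omega
  have pw : ∀ m ∈ M, m ^ p ∈ P := fun m hm => tP.eq ▸ ⟨sM.pow hm,
    tv_of_com (nBE (lK (sM.pow hm))) fun e he => com_symm (W.com (W.powp (V := P ⊔ zpowers m)
      (W.of_tv (ab he) (lM hm))
      (tv_cyc rfl ((sup_le (tP.le.trans lK) (zpowers_le.2 (lM hm))).trans nBE)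
        ((sup_le (tP.le.trans lK) (zpowers_le.2 (lM hm))).trans tEB))
      (mem_sup_right (mem_zpowers m)) le_sup_left fun _ hu => tP.sp.pow hu)
      (nBE (lK (sM.pow hm))))⟩
  have e1 : El p M P := ⟨tP.le.trans hK, lM.trans (ab.trans (Tv_anti lM P)), pw⟩
  have e2 : El p (cj a M) P := eP ▸ e1.cj a
  have e3 := e1.sup e2 (lM.trans (ab.trans (Tv_anti lM' P)))
  rw [m1.eq_of le_sup_left (sup_le lM lM') fun e => c3 (le_sup_right.trans e)] at e3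
  have := hs E₁ P lN e3
  rw [m1.card, sM.card, cK, ← mul_assoc, ← mul_assoc, ← pow_two, ← pow_add] at this
  have := idx_le this
  omega

theorem jobK3 : JobK3.{u} := by
  intro Ω _ _ p _ N E₁ L₁ E₂ L₂ K A B _ hs h1 h2 ne hK nK1 nK2 mx l1 l2 l3 nA1 nA2 nB1 nB2 ir q1 q2
  have k1 := le_of_nm h1 hK nK1
  have k2 := le_of_nm h2 hK nK2
  obtain ⟨m1, m2, -, -⟩ := two_max h1.sp h2.sp ne
  have eK : El p K B := (el_phi ((pgN h1).to_le hK)).mono l1 (l2.trans l3)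
  have r : N ⊓ Tv A B ≤ E₁ ⊓ E₂ := fun _ hx =>
    ⟨pl_tv h1 (l3.trans k1) l2 nA1 nB1 q1 hx.1 hx.2, pl_tv h2 (l3.trans k2) l2 nA2 nB2 q2 hx.1 hx.2⟩
  obtain ⟨c, t1⟩ := types hs h1 (l3.trans k1) (eK.anti l2 l3) nA1 nB1 q1
    fun e => m1.not_le ((le_inf h1.sp.le e).trans r)
  obtain ⟨-, t2⟩ := types hs h2 (l3.trans k2) (eK.anti l2 l3) nA2 nB2 q2
    fun e => m2.not_le ((le_inf h2.sp.le e).trans r)
  obtain rfl : A = K := eq_of_le_of_card_ge l3 (c ▸ hs K B hK eK)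
  have hR : N ⊓ Tv A B ≤ A := by
    have e1 : N ⊓ Tv A B = E₁ ⊓ Tv A B :=
      le_antisymm (le_inf (r.trans inf_le_left) inf_le_right) (inf_le_inf_right _ h1.sp.le)
    have e2 : N ⊓ Tv A B = E₂ ⊓ Tv A B :=
      le_antisymm (le_inf (r.trans inf_le_right) inf_le_right) (inf_le_inf_right _ h2.sp.le)
    exact mx _ inf_le_left
      (e1 ▸ fun _ ha => mem_Nm_inf (h1.nm ha) (mem_Nm_Tv (nA1 ha) (nB1 ha)))
      (e2 ▸ fun _ ha => mem_Nm_inf (h2.nm ha) (mem_Nm_Tv (nA2 ha) (nB2 ha)))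
  have iP : ∀ {E L P}, Pt p E L A B P → L₁ ≤ Nm P → L₂ ≤ Nm P → False := fun t n1 n2 => by
    rcases ir _ t.sp.le t.le (sup_le n1 n2) with e | e
    · exact t.sp.not_le e.le
    · have := t.card
      rw [e, ← one_mul (Nat.card A), ← pow_zero p, ← mul_assoc, ← pow_add] at this
      have := idx_le this.ge
      omega
  have iH : ∀ {E L H}, Ln p E N L A B H → L₁ ≤ Nm H → L₂ ≤ Nm H → False := fun t n1 n2 => by
    rcases ir _ t.le t.sp.le (sup_le n1 n2) with e | e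
    · have := t.card
      rw [e, ← one_mul (Nat.card B), ← pow_zero p, ← mul_assoc, ← pow_add] at this
      have := idx_le this.ge
      omega
    · exact t.sp.not_le e.ge
  rcases t1 with ⟨P, t1⟩ | ⟨H, t1⟩ <;> rcases t2 with ⟨P', t2⟩ | ⟨H', t2⟩
  · obtain rfl := t1.uniq h1 t2.sp t2.le hK (h2.le.trans t2.nm) (h1.le.trans nB1)
    exact iP t1 t1.nm t2.nm
  · exact pt_ln hs h1 h2 ne (le_inf k1 k2) nK1 nB1 eK hR (fun n => iH t2 n t2.nm) t1 t2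
  · exact pt_ln hs h2 h1 ne.symm (le_inf k2 k1) nK2 nB2 eK hR (fun n => iH t1 t1.nm n) t2 t1
  · obtain rfl := t1.uniq h1 t2.sp t2.le hK (h2.le.trans t2.nm) (h1.le.trans nK1)
    exact iH t1 t1.nm t2.nm

end H71.F3K
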