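/- Sectional rank three, Lemma K: the mixed case. -/
import Cfsg.Agent.H71.F3K

set_option autoImplicit false
set_option linter.unusedSectionVars false

namespace H71.F3K
open Cfsg H92 H93 Subgroup H92.Es H92.P5 H87.F3
open scoped commutatorElement

universe u

variable {Ω : Type u} [Group Ω] [Finite Ω] {A₀ A₁ A₂ B B₀ E H L M N P : Subgroup Ω} {x z : Ω}
  {p : ℕ} [hp : Fact p.Prime]

/-- the cubic case: `z` acts trivially on `E / B` -/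
theorem cub_tv (c : Cub p E N E A₂ A₁ B) (el : El p E B) (sE : Sp p N E) (sM : Sp p E M)
    (lB : B ≤ M) (tN : N ≤ Tv N M) (hx : x ∈ N) (hx' : x ∉ E) (hz : z ∈ Tv N M) (nB : z ∈ Nm B)
    (hc : (orderOf z).Coprime p) : z ∈ Tv E B := by
  have l2 := c.s3.le
  have l1 := c.s2.le.trans l2
  have lM : M ≤ N := sM.le.trans sE.le
  have e : M = A₂ := Sp.eq_of_le sM c.s3 fun y hy => by_contra fun n => by
    have m2 := com_of_tv (tN hx) (lM hy)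
    have a2 := com_of_tv (c.t3 hx) (sM.le hy)
    have b2 := c.n3 x hx hx' y (sM.le hy) n
    have i1 : A₁ ≤ M := c.s1.le_of lB (com_of_tv (c.t2 hx) a2) (c.n2 x hx hx' _ a2 b2)
      (com_of_tv (tN hx) (lM m2))
    exact sM.not_le (c.s3.le_of (c.s2.le_of i1 a2 b2 m2) (sM.le hy) n hy)
  subst e
  obtain ⟨y, hy, hy'⟩ := sM.ex
  have a2 := com_of_tv (c.t3 hx) hy
  have b2 := c.n3 x hx hx' y hy hy'
  have a1 := com_of_tv (c.t2 hx) a2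
  have ab1 : E ≤ Tv E A₁ := (el.mono c.s1.le l1).ab
  have w2 : W z ⁅x, y⁆ A₁ (1 * 1) := W.comm (W.of_tv hz hx) (W.of_tv hz (sE.le hy)) hx hy l2
    (c.t2 hx).1 (ab1 hy).1 (l2.trans ab1) (tv_symm c.s2.nm c.t2) a1 (com_of_tv (ab1 hy) (l2 a2))
  have w1 : W z ⁅x, ⁅x, y⁆⁆ B (1 * (1 * 1)) := W.comm (W.of_tv hz hx) w2 hx (l2 a2) l1
    (c.t1 hx).1 (el.ab (l2 a2)).1 (l2.trans el.ab) (tv_symm c.s1.nm c.t1) (com_of_tv (c.t1 hx) a1)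
    (com_of_tv (el.ab (l2 a2)) (l1 a1))
  have t1 := tv_of_w c.s1 nB a1 (c.n2 x hx hx' _ a2 b2) w1
  have t2 := tv_of_w c.s2 (Nm_of_Tv t1 c.s1.le le_rfl) a2 b2 w2
  exact tv_trans c.s2.pg hc (Tv_anti sE.le _ hz) (tv_trans c.s1.pg hc t2 t1)

/-- the quadratic case: `z` acts trivially on the natural module -/
theorem qd_tv (h : Loc p E N L) (q : Qd p E N L E B A₀ P H B₀) (el : El p E B) (nL : L ≤ Nm B)
    (hq : ¬ PMod p L (Tv E B)) (sM : Sp p E M) (lB : B ≤ M) (nM : ¬ L ≤ Nm M) (tN : N ≤ Tv N M)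
    (hx : x ∈ N) (hx' : x ∉ E) (hz : z ∈ Tv N M) (nB : z ∈ Nm B) (zL : z ∈ Nm L)
    (hc : (orderOf z).Coprime p) : z ∈ Tv A₀ B := by
  have lN := h.sp.le
  have zE : z ∈ Nm E := Nm_of_Tv hz sM.le lN
  have lB0 : B ≤ A₀ := q.s1.le.trans q.s0.le
  have lP : P ≤ E := q.s0.le.trans q.lA
  have n0 : ¬ A₀ ≤ M := fun e => nM fun _ ha => Nm_of_Tv (q.tA ha) e sM.le
  have z0 : z ∈ Nm A₀ := by
    have t' : L ≤ Tv E (cj z A₀) := by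
      rw [← cj_eq_of_Nm zL, ← cj_eq_of_Nm zE, ← cj_Tv]; exact cj_mono z q.tA
    have tD : L ≤ Tv E (A₀ ⊓ cj z A₀) := fun _ ha => mem_Tv_inf (q.tA ha) (t' ha)
    have lD : B ≤ A₀ ⊓ cj z A₀ := le_inf lB0 (cj_eq_of_Nm nB ▸ cj_mono z lB0)
    rcases (inf_le_left : A₀ ⊓ cj z A₀ ≤ A₀).eq_or_lt with e | e
    · exact mem_Nm.2 (eq_of_le_of_card_ge (e.ge.trans inf_le_right) (card_cj z A₀).le).symm
    · refine absurd (PMod.tv2 (q.s0.pg.to_le inf_le_left) (PMod.of_le tD) (PMod.of_le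
        (small h (inf_le_left.trans q.lA) lD (fun _ ha => (tD ha).1) nL ?_))) hq
      rcases lD.eq_or_lt with e' | e'
      · rw [← e']; exact Nat.le_mul_of_pos_left _ hp.out.pos
      · exact (sp_mid' q.s0.pg (Sp.two q.s0 q.s1) e' e).2.card.le
  obtain ⟨y, hy, hy'⟩ := SetLike.not_le_iff_exists.1 q.nH
  have a1 := com_of_tv (q.t1 hx) (q.lA hy)
  have b1 : ⁅x, y⁆ ∉ B := fun e => q.ne x hx hx' y (q.lA hy) hy' (q.lB e)
  have pM : P ≤ M := q.s1.le_of lB a1 b1 (com_of_tv (tN hx) (lN (q.lA hy)))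
  have e : P = A₀ ⊓ M := Sp.eq_of_le q.s0 (sM.inf q.lA n0) (le_inf q.s0.le pM)
  have t0 : z ∈ Tv A₀ P := e ▸ mem_Tv_inf (mem_Tv_self z0) (Tv_anti (q.lA.trans lN) _ hz)
  have tP : N ≤ Tv P B := q.t2.trans (Tv_anti q.lP _)
  have w : W z ⁅x, y⁆ B (1 * 1) := W.comm (W.of_tv hz hx) (W.of_tv t0 hy) hx (q.lA hy) lP
    (tP hx).1 (el.ab (q.lA hy)).1 (sM.le.trans el.ab) (tv_symm q.s1.nm tP) (com_of_tv (tP hx) a1)
    (com_of_tv (el.ab (q.lA hy)) (lP a1))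
  exact tv_trans q.s1.pg hc t0 (tv_of_w q.s1 nB a1 b1 w)

theorem jobKM : JobKM.{u} := by
  intro SC Tor Ω _ _ p hp N G E₁ L₁ E₂ L₂ h2p hs h1 h2 x1 x2 ne nM lk
  obtain ⟨m1, m2, eN, -⟩ := two_max h1.sp h2.sp ne
  set M := E₁ ⊓ E₂ with hM
  have pM : IsPGroup p M := m1.pg.to_le m1.le
  have tM : L₂ ≤ Tv E₂ M := small h2 le_rfl m2.le h2.nm nM m2.card.le
  have nM1 : ¬ L₁ ≤ Nm M := fun e =>
    h2.nn (PMod.tvct pM (PMod.of_le tM) (lk M eN.le e nM))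
  have el2 := el_phi m2.pg
  have l2 : H9.phi E₂ ≤ M := phi_le_of_sp m2
  have n2 : L₂ ≤ Nm (H9.phi E₂) := fun _ ha => nm_phi (h2.nm ha)
  have pm : PMod p (L₂ ⊓ Tv M (H9.phi E₂)) (Ct E₂) :=
    (PMod.tv2 pM (PMod.of_le (inf_le_left.trans tM)) (PMod.of_le inf_le_right)).trans
      (pMod_phi m2.pg)
  have q2 : ¬ PMod p L₂ (Tv M (H9.phi E₂)) := fun e =>
    h2.nn ((PMod.inf (PMod.of_le le_rfl) e).trans pm)
  have c2 : Nat.card M = p ^ 2 * Nat.card (H9.phi E₂) := by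
    obtain ⟨i, hi⟩ := exists_idx pM l2
    have a1 : i + 1 ≤ 3 := idx_le (B := H9.phi E₂) (p := p) (by
      have := hs E₂ _ h2.sp.le el2
      rwa [m2.card, hi, ← mul_assoc, ← pow_succ'] at this)
    have a2 : ¬ i ≤ 1 := fun e => q2 (PMod.of_le (small h2 m2.le l2 nM n2 (by
      rw [hi]; exact Nat.mul_le_mul_right _ ((Nat.pow_le_pow_right hp.out.pos e).trans (by simp)))))
    rw [hi, show i = 2 by omega]
  have nl : ¬ M ≤ H9.phi E₂ := fun e => q2 (PMod.of_le fun _ ha =>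
    le_antisymm l2 e ▸ mem_Tv_self (n2 ha))
  obtain ⟨P, s1, s2, -, s4⟩ := exists_step (pgN h2) eN.le l2 (h2.le.trans nM) (h2.le.trans n2) nl
  have sP := sp_of_two pM s2 s1 c2
  obtain ⟨z, ⟨zL, zG⟩, zc, -, -, w1, w2⟩ := Tor Ω p E₂ N L₂ G M P (H9.phi E₂) (-1) (-1) h2 x2
    ⟨l2, m2.le, nM, n2, el2.ab.trans (Tv_anti m2.le _), fun y hy => el2.pw y (m2.le hy)⟩ sP s1 s4
    (fun e => (irr_two h2 m2.le nM n2 c2 q2 P s1.le s2 e).elim (fun e => s1.not_le e.le)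
      fun e => sP.not_le e.ge) pm (by simp)
  have w3 := w2 rfl rfl
  have zE : z ∈ Tv N E₂ := W.tv (h2.nm zL) (by simpa using w1)
  have zM : z ∈ Tv N M := tv_trans m2.pg zc zE (tM zL)
  have z1 : z ∈ Nm E₁ := Nm_of_Tv zM m1.le h1.sp.le
  have zL1 : z ∈ Nm L₁ := x1.gl ⟨zG, z1⟩
  have nc : z ∉ Ct M := fun e => nl fun y hy => W.fix (w3 y hy) (fun e' => two_ne h2p (by
    push_cast at e' ⊢; linear_combination -e')) (W.of_ct e hy _) (el2.pw y (m2.le hy))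
  have eQ : ⁅E₁, zpowers z⁆ = ⁅E₂, zpowers z⁆ := le_antisymm
    (com_zp_le (Tv_anti h1.sp.le _ (tv_trans m2.pg zc zE (zp_tv z E₂))))
    (com_zp_le (Tv_anti h2.sp.le _ (tv_trans m1.pg zc (mem_Tv_of_le zM m1.le z1) (zp_tv z E₁))))
  have nQ2 : L₂ ≤ Nm ⁅E₂, zpowers z⁆ := fun a ha => by
    refine nm_comm_of m2.pg zc (h2.nm ha) (h2.nm zL) (sup_le_sup_left inf_le_right E₂
      (le_sup_of_normal h2 inf_le_left (fun _ hb => mem_Nm_inf (le_Nm _ hb)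
        (mem_Nm_Tv (nM hb) (n2 hb))) pm (mem_inf.2 ⟨comm_mem_of_Nm (le_Nm _ ha) zL, ?_⟩)))
    have := tv_of_neg w3 (nM zL) (n2 zL) (inv_mem (nM ha)) (inv_mem (n2 ha))
    simpa only [inv_inv, mul_assoc] using this
  have el1 := el_phi m1.pg
  have n1 : L₁ ≤ Nm (H9.phi E₁) := fun _ ha => nm_phi (h1.nm ha)
  have q1 : ¬ PMod p L₁ (Tv E₁ (H9.phi E₁)) := fun e => h1.nn (e.trans (pMod_phi m1.pg))
  obtain ⟨x, hx, hx'⟩ := h1.sp.ex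
  rcases SC Ω p E₁ N L₁ E₁ (H9.phi E₁) h2p hs h1 ⟨el1.le, le_rfl, h1.nm, n1, el1.ab, el1.pw⟩ q1 with
    ⟨A₀, P₁, H, B₀, q⟩ | ⟨A₂, A₁, c, -⟩
  · have t := qd_tv h1 q el1 n1 q1 m1 (phi_le_of_sp m1) nM1 eN.ab hx hx' zM (nm_phi z1) zL1 zc
    have nT : L₁ ≤ Nm (Tv A₀ (H9.phi E₁)) := fun _ hb => mem_Nm_Tv (q.tA hb).1 (n1 hb)
    have nQ1 : L₁ ≤ Nm ⁅E₁, zpowers z⁆ := fun a ha =>
      nm_comm_of m1.pg zc (h1.nm ha) z1 (sup_le_sup_left inf_le_right E₁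
        (le_sup_of_normal h1 (J := L₁ ⊓ Tv A₀ (H9.phi E₁)) inf_le_left
          (fun _ hb => mem_Nm_inf (le_Nm _ hb) (nT hb))
          ((PMod.tv2 q.s0.pg (PMod.of_le (inf_le_left.trans q.tA)) (PMod.of_le inf_le_right)).trans
            (pMod_phi m1.pg)) ⟨comm_mem_of_Nm' zL1 ha, comm_mem_of_Nm (nT ha) t⟩))
    have lQ : ⁅E₂, zpowers z⁆ ≤ E₂ := H1.commutator_le_of_le_normalizer (zpowers_le.2 (h2.nm zL))
    exact nc (Ct_anti m2.le (ct_of_tv (m2.pg.to_le lQ) zc (zp_tv z E₂)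
      (PMod.mem (lk _ (lQ.trans h2.sp.le) (eQ ▸ nQ1) nQ2) zL zc)))
  · exact nc (Ct_anti m1.le (ct_of_tv_phi m1.pg
      (cub_tv c el1 h1.sp m1 (phi_le_of_sp m1) eN.ab hx hx' zM (nm_phi z1) zc) zc))

end H71.F3K
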