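import Cfsg.Agent.H71.Glue
set_option maxRecDepth 1000000
set_option Elab.async false
namespace H71.FiC1
noncomputable def nb_0 : ℕ := 0x1000
noncomputable def nb_1 : ℕ := 0xc0020
noncomputable def nb_2 : ℕ := 0x4080
noncomputable def nb_3 : ℕ := 0x40a80
noncomputable def nb_4 : ℕ := 0x8180
noncomputable def nb_5 : ℕ := 0x204080
noncomputable def nb_6 : ℕ := 0xc0020
noncomputable def nb_7 : ℕ := 0x1000
noncomputable def nb : Net := .cons 14 nb_0 <| .cons 7 nb_1 <| .cons 4 nb_2 <| .cons 1 nb_3 <| .cons 2 nb_4 <| .cons 4 nb_5 <| .cons 7 nb_6 <| .cons 14 nb_7 <| .nil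
theorem vnb : Net.valid 28 nb = true := by decide +kernel
noncomputable def nc_0 : ℕ := 0x70
noncomputable def nc_1 : ℕ := 0x14200
noncomputable def nc_2 : ℕ := 0x400100
noncomputable def nc_3 : ℕ := 0x210a00
noncomputable def nc_4 : ℕ := 0x440110
noncomputable def nc_5 : ℕ := 0x14200
noncomputable def nc_6 : ℕ := 0x70
noncomputable def nc : Net := .cons 7 nc_0 <| .cons 4 nc_1 <| .cons 2 nc_2 <| .cons 1 nc_3 <| .cons 2 nc_4 <| .cons 4 nc_5 <| .cons 7 nc_6 <| .nil
theorem vnc : Net.valid 28 nc = true := by decide +kernel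
noncomputable def nd_0 : ℕ := 0x100000
noncomputable def nd_1 : ℕ := 0x410201
noncomputable def nd_2 : ℕ := 0x2040002
noncomputable def nd_3 : ℕ := 0x2040001
noncomputable def nd_4 : ℕ := 0x2440902
noncomputable def nd_5 : ℕ := 0x410201
noncomputable def nd_6 : ℕ := 0x100000
noncomputable def nd : Net := .cons 7 nd_0 <| .cons 4 nd_1 <| .cons 2 nd_2 <| .cons 1 nd_3 <| .cons 2 nd_4 <| .cons 4 nd_5 <| .cons 7 nd_6 <| .nil
theorem vnd : Net.valid 28 nd = true := by decide +kernel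
noncomputable def ne_0 : ℕ := 0x3d00
noncomputable def ne_1 : ℕ := 0x140000
noncomputable def ne_2 : ℕ := 0x400300
noncomputable def ne_3 : ℕ := 0x100
noncomputable def ne_4 : ℕ := 0xa04
noncomputable def ne_5 : ℕ := 0x400100
noncomputable def ne_6 : ℕ := 0x414300
noncomputable def ne_7 : ℕ := 0x140000
noncomputable def ne_8 : ℕ := 0x3d00
noncomputable def ne : Net := .cons 14 ne_0 <| .cons 7 ne_1 <| .cons 4 ne_2 <| .cons 2 ne_3 <| .cons 1 ne_4 <| .cons 2 ne_5 <| .cons 4 ne_6 <| .cons 7 ne_7 <| .cons 14 ne_8 <| .nil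
theorem vne : Net.valid 28 ne = true := by decide +kernel
noncomputable def nf_0 : ℕ := 0x1000
noncomputable def nf_1 : ℕ := 0x8002
noncomputable def nf_2 : ℕ := 0x4004
noncomputable def nf_3 : ℕ := 0x8002
noncomputable def nf_4 : ℕ := 0xc18000
noncomputable def nf_5 : ℕ := 0x88000
noncomputable def nf_6 : ℕ := 0x1000
noncomputable def nf : Net := .cons 14 nf_0 <| .cons 2 nf_1 <| .cons 1 nf_2 <| .cons 2 nf_3 <| .cons 4 nf_4 <| .cons 7 nf_5 <| .cons 14 nf_6 <| .nil
theorem vnf : Net.valid 28 nf = true := by decide +kernel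
noncomputable def ng_0 : ℕ := 0x20000
noncomputable def ng_1 : ℕ := 0x18000
noncomputable def ng_2 : ℕ := 0x400000
noncomputable def ng_3 : ℕ := 0x250001
noncomputable def ng_4 : ℕ := 0x2400000
noncomputable def ng_5 : ℕ := 0x418000
noncomputable def ng_6 : ℕ := 0x20000
noncomputable def ng : Net := .cons 7 ng_0 <| .cons 4 ng_1 <| .cons 2 ng_2 <| .cons 1 ng_3 <| .cons 2 ng_4 <| .cons 4 ng_5 <| .cons 7 ng_6 <| .nil
theorem vng : Net.valid 28 ng = true := by decide +kernel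
noncomputable def nh_0 : ℕ := 0xc0020
noncomputable def nh_1 : ℕ := 0x2400000
noncomputable def nh_2 : ℕ := 0x2840000
noncomputable def nh_3 : ℕ := 0x2400090
noncomputable def nh_4 : ℕ := 0xc00100
noncomputable def nh_5 : ℕ := 0xc0020
noncomputable def nh : Net := .cons 7 nh_0 <| .cons 2 nh_1 <| .cons 1 nh_2 <| .cons 2 nh_3 <| .cons 4 nh_4 <| .cons 7 nh_5 <| .nil
theorem vnh : Net.valid 28 nh = true := by decide +kernel
noncomputable def gensN : List Net := [Net.nil]
noncomputable def invsN : List Net := [Net.nil, nb, nc, nd, ne, nf, ng, nh, Net.nil, Net.nil, Net.nil, Net.nil]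
noncomputable def A : ℕ → ℕ → ℕ := mkA gensN invsN
noncomputable def π : ℕ → Equiv.Perm ℕ := mkPi gensN invsN
theorem vG : ∀ r ∈ ([Net.nil] : List Net), Net.valid 28 r = true := by
  intro r hr
  simp only [List.mem_cons, List.not_mem_nil, or_false] at hr
  rcases hr with rfl
  · rfl
theorem vI : ∀ r ∈ ([Net.nil, nb, nc, nd, ne, nf, ng, nh, Net.nil, Net.nil, Net.nil, Net.nil] : List Net), Net.valid 28 r = true := by
  intro r hr
  simp only [List.mem_cons, List.not_mem_nil, or_false] at hr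
  rcases hr with rfl | rfl | rfl | rfl | rfl | rfl | rfl | rfl | rfl | rfl | rfl | rfl
  · rfl
  · exact vnb
  · exact vnc
  · exact vnd
  · exact vne
  · exact vnf
  · exact vng
  · exact vnh
  · rfl
  · rfl
  · rfl
  · rfl
theorem env : Env 28 π A := env_mk vG vI
theorem hN : 28 ≤ 2 ^ 5 := by norm_num
theorem pinv : ∀ l, π (linv 2 l) = (π l)⁻¹ := mkPi_inv' hN rfl vI (by decide +kernel)
def R : List (List ℕ) := [[3,4,3,4,3,4],
  [3,5,3,5],
  [3,6,3,6],
  [3,7,3,7],
  [3,8,3,8],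
  [3,9,3,9],
  [4,5,4,5,4,5],
  [4,6,4,6],
  [4,7,4,7],
  [4,8,4,8],
  [4,9,4,9],
  [5,6,5,6,5,6],
  [5,7,5,7],
  [5,8,5,8],
  [5,9,5,9,5,9],
  [6,7,6,7,6,7],
  [6,8,6,8],
  [6,9,6,9],
  [7,8,7,8,7,8],
  [7,9,7,9],
  [8,9,8,9],
  [3,4,5,6,7,8,9,3,4,5,6,7,8,9,3,4,5,6,7,8,9,3,4,5,6,7,8,9,3,4,5,6,7,8,9,3,4,5,6,7,8,9,3,4,5,6,7,8,9,3,4,5,6,7,8,9,3,4,5,6,7,8,9]]
def RH : List (List ℕ) := []
def HL : List ℕ := [3,4,5,6,7,9]
def S : List ℕ := [3,4,5,6,7,8,9]
theorem relP : ∀ r ∈ R, evw π r = 1 := env.eq_one_of_allId hN (by decide +kernel)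
def seeds : List (List ℕ) := []
theorem seeds_mem {G : Type*} [Group G] {val : ℕ → G} {H : Subgroup G} (hv : ∀ l, val (linv 2 l) = (val l)⁻¹) (he : val 14 = 1)
    (hR : ∀ r ∈ R ++ RH, evw val r = 1) (hH : ∀ l ∈ HL, val l ∈ H) : ∀ w ∈ seeds, evw val w ∈ H := by simp [seeds]
def spec : List ℕ := [8194,16386,24578,32768,32770,57346,65538,73728,73730,81922,98306,106496,106498,131072,131074,163842,122882,147458,24576,40962,65536,98304,155648,155650,90114,16384,57344,139264,139266,163840,49154,90112,114688,114690,122880,8192,40960,2,49152,147456,0,172044]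
noncomputable def rules : List (List ℕ) := spec.map (mkRule 2 R)
noncomputable def hs : List (List ℕ) := HL.map (fun z => [z]) ++ seeds
noncomputable def D0 : ℕ := Nat.shiftLeft 1 0
noncomputable def K0 : List ℕ := List.replicate 14 0
def steps0_0 : List ℕ := [3,16387,32771,49155,65539,81923,32,28,24,20,36,16,20,24,28,32,12,16,20,24,28,1,5,9,13,17,21,25,29,33,37,41,45,49,53,57,61,65,69,73,77,81,85,41,57,89,93,97,101,105,21,25,41,49,109,113,117,121,125,129,133,137,141,1,5,9,145,77,21,25,33,37,85,45,49,53,57,113,93,61,149,153,121,125,97,65,157,69,9,17,105,81,25,29,33,85,41,49,161,137,141,101,73,165,38,113]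
theorem run0 : tcRun A 2 0 rules hs (steps0_0) (finSt A S (ival 0 28)) D0 K0 = true := by decide +kernel
theorem done {G : Type*} [Group G] {val : ℕ → G} {H : Subgroup G} (hv : ∀ l, val (linv 2 l) = (val l)⁻¹) (he : val 14 = 1)
    (hR : ∀ r ∈ R ++ RH, evw val r = 1) (hH : ∀ l ∈ HL, val l ∈ H) : TCDone val H π 0 S (ival 0 28) := by
  have T : TCHyp val H 28 π A 2 rules hs := tcHyp_mk env hv pinv (fun r hr => hR r (List.mem_append_left _ hr)) relP hH (seeds_mem hv he hR hH) spec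
  have h0 : Inv val H π 0 D0 K0 := inv_init val H π 0 14
  exact tcRun_fin T h0 run0
end H71.FiC1
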