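import Cfsg.Agent.H71.Glue
set_option maxRecDepth 1000000
set_option Elab.async false
namespace H71.ThC
noncomputable def na_0 : ℕ := 0xde3c0d1704000900
noncomputable def na_1 : ℕ := 0x9e1b4b800000000630a2c00
noncomputable def na_2 : ℕ := 0x6d9800005bc0000004e800004100
noncomputable def na_3 : ℕ := 0xd400060068007c008000cc00400000
noncomputable def na_4 : ℕ := 0x60400000204040a0202040008000e
noncomputable def na_5 : ℕ := 0x200000200222000002000000000
noncomputable def na_6 : ℕ := 0x51140154515145141001504040001550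
noncomputable def na_7 : ℕ := 0x23010131331230332200322203200032
noncomputable def na_8 : ℕ := 0x405040a070a0c010a020204020e030e
noncomputable def na_9 : ℕ := 0xeb000500b500aa00c200cd007a0000
noncomputable def na_10 : ℕ := 0xa26300003dfe000004fc00004100
noncomputable def na_11 : ℕ := 0xae7b0f900000000630a2c00
noncomputable def na_12 : ℕ := 0xde3c0d1704000900
noncomputable def na : Net := .cons 64 na_0 <| .cons 32 na_1 <| .cons 16 na_2 <| .cons 8 na_3 <| .cons 4 na_4 <| .cons 2 na_5 <| .cons 1 na_6 <| .cons 2 na_7 <| .cons 4 na_8 <| .cons 8 na_9 <| .cons 16 na_10 <| .cons 32 na_11 <| .cons 64 na_12 <| .nil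
theorem vna : Net.valid 128 na = true := by decide +kernel
noncomputable def nb_0 : ℕ := 0xeb6b42a1ca8806a0
noncomputable def nb_1 : ℕ := 0x68c73492000000007b628aa0
noncomputable def nb_2 : ℕ := 0x348c0000a1f000009b04000014d4
noncomputable def nb_3 : ℕ := 0x60009200d800800098000a00500090
noncomputable def nb_4 : ℕ := 0xa0c00040c000c000e08000c000200
noncomputable def nb_5 : ℕ := 0x22022000000000000200000002000000
noncomputable def nb_6 : ℕ := 0x44411401500550500404010041000151
noncomputable def nb_7 : ℕ := 0x10331333320331310230200013003030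
noncomputable def nb_8 : ℕ := 0xe03000c050d000c010e080e030b0200
noncomputable def nb_9 : ℕ := 0xb6006d0049008000b8001a00500094
noncomputable def nb_10 : ℕ := 0x7efc0000a9f00000db05000014d4
noncomputable def nb_11 : ℕ := 0x68c73492000000007b628aa0
noncomputable def nb_12 : ℕ := 0xeb6b42a1ca8806a0
noncomputable def nb : Net := .cons 64 nb_0 <| .cons 32 nb_1 <| .cons 16 nb_2 <| .cons 8 nb_3 <| .cons 4 nb_4 <| .cons 2 nb_5 <| .cons 1 nb_6 <| .cons 2 nb_7 <| .cons 4 nb_8 <| .cons 8 nb_9 <| .cons 16 nb_10 <| .cons 32 nb_11 <| .cons 64 nb_12 <| .nil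
theorem vnb : Net.valid 128 nb = true := by decide +kernel
noncomputable def nc_0 : ℕ := 0xfff57a5008000000
noncomputable def nc_1 : ℕ := 0x552629580000000024100000
noncomputable def nc_2 : ℕ := 0x7cee000039300000a01a00001000
noncomputable def nc_3 : ℕ := 0x3a008a002800e400c00044002000b4
noncomputable def nc_4 : ℕ := 0x208000208000a06000a0006040004
noncomputable def nc_5 : ℕ := 0x220000000000002000002022000
noncomputable def nc_6 : ℕ := 0x54155145055055545414010004044140
noncomputable def nc_7 : ℕ := 0x2212000233212303002300132123102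
noncomputable def nc_8 : ℕ := 0xf070d0f060c0f0a06080a0a06040f04
noncomputable def nc_9 : ℕ := 0x7500c500ce00e400c70044003500b4
noncomputable def nc_10 : ℕ := 0x8311000039310000a01a00001000
noncomputable def nc_11 : ℕ := 0x552629580000000024100000
noncomputable def nc_12 : ℕ := 0xfff57a5008000000
noncomputable def nc : Net := .cons 64 nc_0 <| .cons 32 nc_1 <| .cons 16 nc_2 <| .cons 8 nc_3 <| .cons 4 nc_4 <| .cons 2 nc_5 <| .cons 1 nc_6 <| .cons 2 nc_7 <| .cons 4 nc_8 <| .cons 8 nc_9 <| .cons 16 nc_10 <| .cons 32 nc_11 <| .cons 64 nc_12 <| .nil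
theorem vnc : Net.valid 128 nc = true := by decide +kernel
noncomputable def nd_0 : ℕ := 0xf7da1c0881001200
noncomputable def nd_1 : ℕ := 0xb6c3131c0000000054605904
noncomputable def nd_2 : ℕ := 0x15c400008a4e00002bf2000036f8
noncomputable def nd_3 : ℕ := 0xea006600ea0012008000a200680062
noncomputable def nd_4 : ℕ := 0x6020004000802000004080c00000600
noncomputable def nd_5 : ℕ := 0x22020020022202222020002000200000
noncomputable def nd_6 : ℕ := 0x41445540411401141540551000140510
noncomputable def nd_7 : ℕ := 0x1213321021132112320302122201002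
noncomputable def nd_8 : ℕ := 0x206000c0207020f0207080c0f020604
noncomputable def nd_9 : ℕ := 0x5006600ea001200e600a2006800e2
noncomputable def nd_10 : ℕ := 0x15d400008e4e00002bf2000036f8
noncomputable def nd_11 : ℕ := 0xb6c3131c0000000054605904
noncomputable def nd_12 : ℕ := 0xf7da1c0881001200
noncomputable def nd : Net := .cons 64 nd_0 <| .cons 32 nd_1 <| .cons 16 nd_2 <| .cons 8 nd_3 <| .cons 4 nd_4 <| .cons 2 nd_5 <| .cons 1 nd_6 <| .cons 2 nd_7 <| .cons 4 nd_8 <| .cons 8 nd_9 <| .cons 16 nd_10 <| .cons 32 nd_11 <| .cons 64 nd_12 <| .nil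
theorem vnd : Net.valid 128 nd = true := by decide +kernel
noncomputable def ne_0 : ℕ := 0x1440001012080270
noncomputable def ne_1 : ℕ := 0xe3d22f24000000007f7eeb1c
noncomputable def ne_2 : ℕ := 0xf55000001e4c0000a2cc000016c2
noncomputable def ne_3 : ℕ := 0x7200c00026002e0024004000cc00b2
noncomputable def ne_4 : ℕ := 0xa040408000a0600080c0a0a000c00
noncomputable def ne_5 : ℕ := 0x20220220002000002000020000000000
noncomputable def ne_6 : ℕ := 0x10411114011550401115441414000504
noncomputable def ne_7 : ℕ := 0x13323221202333030203031033111010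
noncomputable def ne_8 : ℕ := 0xa080b0b08000a060b0805030508000e
noncomputable def ne_9 : ℕ := 0xa100a60026002e006400bf00cc006e
noncomputable def ne_10 : ℕ := 0x10d300001e4c0000a2cc00009ee2
noncomputable def ne_11 : ℕ := 0xe3d22f24000000007f7eeb1c
noncomputable def ne_12 : ℕ := 0x1440001012080270
noncomputable def ne : Net := .cons 64 ne_0 <| .cons 32 ne_1 <| .cons 16 ne_2 <| .cons 8 ne_3 <| .cons 4 ne_4 <| .cons 2 ne_5 <| .cons 1 ne_6 <| .cons 2 ne_7 <| .cons 4 ne_8 <| .cons 8 ne_9 <| .cons 16 ne_10 <| .cons 32 ne_11 <| .cons 64 ne_12 <| .nil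
theorem vne : Net.valid 128 ne = true := by decide +kernel
noncomputable def gensN : List Net := [Net.nil, Net.nil, Net.nil]
noncomputable def invsN : List Net := [na, nb, nc, nd, ne]
noncomputable def A : ℕ → ℕ → ℕ := mkA gensN invsN
noncomputable def π : ℕ → Equiv.Perm ℕ := mkPi gensN invsN
theorem vG : ∀ r ∈ ([Net.nil, Net.nil, Net.nil] : List Net), Net.valid 128 r = true := by
  intro r hr
  simp only [List.mem_cons, List.not_mem_nil, or_false] at hr
  rcases hr with rfl | rfl | rfl
  · rfl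
  · rfl
  · rfl
theorem vI : ∀ r ∈ ([na, nb, nc, nd, ne] : List Net), Net.valid 128 r = true := by
  intro r hr
  simp only [List.mem_cons, List.not_mem_nil, or_false] at hr
  rcases hr with rfl | rfl | rfl | rfl | rfl
  · exact vna
  · exact vnb
  · exact vnc
  · exact vnd
  · exact vne
theorem env : Env 128 π A := env_mk vG vI
theorem hN : 128 ≤ 2 ^ 7 := by norm_num
theorem pinv : ∀ l, π (linv 6 l) = (π l)⁻¹ := mkPi_inv' hN rfl vI (by decide +kernel)
def R : List (List ℕ) := [[6,7,6,7,6,7],
  [6,10,6,10],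
  [7,8,7,8,7,8],
  [7,9,7,9],
  [7,10,7,10],
  [6,9,8,9,8,9,8,9,8],
  [8,10,8,10],
  [9,10,9,10,9,10],
  [7,8,9,10,7,8,9,10,7,8,9,10,7,8,9,10,7,8,9,10,7,8,9,10,7,8,9,10,7,8,9,10]]
def RH : List (List ℕ) := []
def HL : List ℕ := [6,8,9,10]
def S : List ℕ := [6,7,8,9,10]
theorem relP : ∀ r ∈ R, evw π r = 1 := env.eq_one_of_allId hN (by decide +kernel)
def seeds : List (List ℕ) := []
theorem seeds_mem {G : Type*} [Group G] {val : ℕ → G} {H : Subgroup G} (hv : ∀ l, val (linv 6 l) = (val l)⁻¹) (he : val 11 = 1)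
    (hR : ∀ r ∈ R ++ RH, evw val r = 1) (hH : ∀ l ∈ HL, val l ∈ H) : ∀ w ∈ seeds, evw val w ∈ H := by simp [seeds]
def spec : List ℕ := [8194,24578,32770,49154,2,16384,16386,57344,40970,40974,40976,24576,32768,49152,0,57346,40960,40962,8192,40964,40968,65540]
noncomputable def rules : List (List ℕ) := spec.map (mkRule 6 R)
noncomputable def hs : List (List ℕ) := HL.map (fun z => [z]) ++ seeds
noncomputable def D0 : ℕ := Nat.shiftLeft 1 0
noncomputable def K0 : List ℕ := List.replicate 11 0
def steps0_0 : List ℕ := [3,16387,32771,49155,28,32,36,40,24,28,32,36,40,28,32,36,40,24,28,32,36,40,24,28,1,5,9,13,17,21,25,29,33,38,37,38,41,34,1,45,5,49,9,53,57,21,25,61,65,26,69,38,41,34,73,1,5,53,13,17,21,25,29,69,38,77,81,33,41,34,1,45,5,49,9,53,21,25,29,61,65,26,69,38,77,73,1,45,13,77,1,9,21,65,57,85,61,65,26,41,34,73,53,57,17,25,69,38,77,41,34,5,69]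
theorem run0 : tcRun A 6 0 rules hs (steps0_0) (finSt A S (ival 0 126)) D0 K0 = true := by decide +kernel
theorem done {G : Type*} [Group G] {val : ℕ → G} {H : Subgroup G} (hv : ∀ l, val (linv 6 l) = (val l)⁻¹) (he : val 11 = 1)
    (hR : ∀ r ∈ R ++ RH, evw val r = 1) (hH : ∀ l ∈ HL, val l ∈ H) : TCDone val H π 0 S (ival 0 126) := by
  have T : TCHyp val H 128 π A 6 rules hs := tcHyp_mk env hv pinv (fun r hr => hR r (List.mem_append_left _ hr)) relP hH (seeds_mem hv he hR hH) spec
  have h0 : Inv val H π 0 D0 K0 := inv_init val H π 0 11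
  exact tcRun_fin T h0 run0
end H71.ThC
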