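import Cfsg.Agent.H71.HKSk
import Cfsg.Agent.H44.HkU
import Cfsg.Agent.H26.NilpComm
import Cfsg.Agent.H19.Regular
import Cfsg.Agent.H2.CoreFree
import Cfsg.Agent.H27.Zsigmondy
import Cfsg.Agent.H99.Product

/-! HKS job T1, part 1: arithmetic, group theory, and the structure of the types U and R. -/

set_option autoImplicit false

namespace H71.HK

open MulAction Cfsg Subgroup H89.K H65 H7.HKS H98
open scoped commutatorElement

universe u

/-- A primitive prime divisor. -/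
theorem zs {p n : ℕ} (hp : 2 < p) (hn : 2 < n) :
    ∃ l : ℕ, l.Prime ∧ l ∣ p ^ n - 1 ∧ ∀ k, l ∣ p ^ k - 1 → n ∣ k := by
  obtain ⟨l, h1, h2, h3⟩ := H27.zsigmondy p n (by omega) (by omega) (by omega) (by omega)
  refine ⟨l, h1, h2, fun k hk => ?_⟩
  have h := Nat.dvd_gcd h2 hk
  rw [Nat.pow_sub_one_gcd_pow_sub_one] at h
  have h0 : 0 < n.gcd k := Nat.gcd_pos_of_pos_left _ (by omega)
  have h4 := Nat.gcd_le_left k (show 0 < n by omega)
  exact Nat.gcd_eq_left_iff_dvd.1 (le_antisymm h4 (not_lt.1 fun e => h3 _ h0 e h))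

theorem dvd_add_one {l x : ℕ} (hl : l.Prime) (h : l ∣ x ^ 2 - 1) (h1 : ¬ l ∣ x - 1) : l ∣ x + 1 := by
  rw [show x ^ 2 - 1 = (x + 1) * (x - 1) by simpa using Nat.sq_sub_sq x 1] at h
  exact ((Nat.Prime.dvd_mul hl).1 h).resolve_right h1

theorem zs_ne_two {p n l : ℕ} (hp : Odd p) (hn : 1 < n) (h : ∀ k, l ∣ p ^ k - 1 → n ∣ k) : l ≠ 2 := by
  rintro rfl
  have := Nat.le_of_dvd one_pos (h 1 (by obtain ⟨k, rfl⟩ := hp; simp))
  omega

/-- `(p^f + 1)²` is a power of two only for Mersenne primes. -/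
theorem mersenne {p f k : ℕ} (hp : 2 < p) (ho : Odd p) (hf : 0 < f)
    (h : p ^ f * (p ^ f + 2) + 1 = 2 ^ k) : f = 1 ∧ p % 4 = 3 := by
  have d : p ^ f + 1 ∣ 2 ^ k := ⟨p ^ f + 1, by rw [← h]; ring⟩
  obtain rfl : f = 1 := by
    by_contra n
    obtain ⟨l, h1, h2, h3⟩ := zs hp (show 2 < f * 2 by omega)
    have := dvd_add_one h1 (pow_mul p f 2 ▸ h2) fun e => by
      have := Nat.le_of_dvd hf (h3 _ e)
      omega
    exact zs_ne_two ho (by omega) h3
      ((Nat.prime_dvd_prime_iff_eq h1 Nat.prime_two).1 (h1.dvd_of_dvd_pow (this.trans d)))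
  obtain ⟨j, -, e⟩ := (Nat.dvd_prime_pow Nat.prime_two).1 d
  rw [pow_one] at e
  refine ⟨rfl, ?_⟩
  rcases j with _ | _ | j
  · omega
  · omega
  · rw [pow_add, pow_add] at e
    omega

section Grp

variable {G : Type u} [Group G] [Finite G] {W K Q C H : Subgroup G} {p l n e : ℕ}

theorem fixc (hp : p.Prime) (hl : l.Prime) (h0 : 0 < n) (h1 : l ∣ p ^ n - 1)
    (z : ∀ k, l ∣ p ^ k - 1 → n ∣ k) (hK : Nat.card K = p ^ e) (hQ : IsPGroup l Q)
    (hn : Q ≤ normalizer (K : Set G)) :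
    ∃ c k, Nat.card ↥(K ⊓ centralizer (Q : Set G)) = p ^ c ∧ e = c + n * k := by
  have := Fact.mk hl
  have h := H2.card_modEq_card_inf_centralizer hQ hn
  obtain ⟨c, hc, e1⟩ := (Nat.dvd_prime_pow hp).1
    (hK ▸ card_dvd_of_le (inf_le_left : K ⊓ centralizer (Q : Set G) ≤ K))
  obtain ⟨d, rfl⟩ := Nat.exists_eq_add_of_le hc
  rw [hK, e1, pow_add] at h
  have cop : l.Coprime (p ^ c) := (Nat.Prime.coprime_iff_not_dvd hl).2 fun x => by
    have h2 := (hl.dvd_of_dvd_pow x).trans (dvd_pow_self p h0.ne')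
    have h3 := Nat.dvd_sub h2 h1
    rw [Nat.sub_sub_self (Nat.one_le_pow _ _ hp.pos)] at h3
    exact hl.one_lt.ne' (Nat.dvd_one.1 h3)
  have h4 : p ^ d ≡ 1 [MOD l] := Nat.ModEq.cancel_left_of_coprime cop (by simpa using h)
  obtain ⟨k, rfl⟩ := z d ((Nat.modEq_iff_dvd' (Nat.one_le_pow _ _ hp.pos)).1 h4.symm)
  exact ⟨c, k, e1, rfl⟩

theorem le_of_sup_comm (hW : Group.IsNilpotent W) (hC : C ≤ W) (h : C ⊔ ⁅W, W⁆ = W) : W ≤ C := by
  have e : C.subgroupOf W ⊔ commutator W = ⊤ := by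
    apply map_injective W.subtype_injective
    rw [Subgroup.map_sup, commutator_def, Subgroup.map_commutator, ← MonoidHom.range_eq_map,
      range_subtype, map_subgroupOf_eq_of_le hC, h]
  exact subgroupOf_eq_top.1 (H19.eq_top_of_sup_commutator e)

/-- The Frattini quotient is large. -/
theorem rank (hp : p.Prime) (hl : l.Prime) (h0 : 0 < n) (h1 : l ∣ p ^ n - 1)
    (z : ∀ k, l ∣ p ^ k - 1 → n ∣ k) (hW : Group.IsNilpotent W) (cW : Nat.card W = p ^ e)
    (he : e < 2 * n) (hQ : IsPGroup l Q) (hn : Q ≤ normalizer (W : Set G))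
    (nc : ¬ W ≤ centralizer (Q : Set G)) : Nat.card ↥⁅W, W⁆ * p ^ n ≤ p ^ e := by
  have le : ⁅W, W⁆ ≤ W := commutator_le_of_le le_rfl le_rfl
  obtain ⟨d, hd, cN⟩ := (Nat.dvd_prime_pow hp).1 (cW ▸ card_dvd_of_le le)
  obtain ⟨c, k, e1, e2⟩ := fixc hp hl h0 h1 z cW hQ hn
  obtain ⟨c', k', e3, e4⟩ := fixc hp hl h0 h1 z cN hQ (le_normalizer_commutator hn hn)
  have k0 : k ≠ 0 := by
    rintro rfl
    exact nc ((eq_of_le_of_card_ge inf_le_left (by rw [cW, e1, e2]; simp)).ge.trans inf_le_right)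
  obtain rfl : k = 1 := by
    by_contra k1
    have := Nat.mul_le_mul_left n (show 2 ≤ k by omega)
    omega
  have s := H99.card_sup_mul_card_inf_of_le_normalizer (H := W ⊓ centralizer (Q : Set G))
    (K := ⁅W, W⁆) (inf_le_left.trans (le_normalizer_commutator le_normalizer le_normalizer))
  rw [inf_right_comm, inf_of_le_right le, e1, e3, cN, e4, pow_add, mul_comm (p ^ c'), ← mul_assoc]
    at s
  replace s := Nat.eq_of_mul_eq_mul_right (pow_pos hp.pos _) s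
  have l2 : W ⊓ centralizer (Q : Set G) ⊔ ⁅W, W⁆ ≤ W := sup_le inf_le_left le
  rcases Nat.eq_zero_or_pos k' with rfl | k1
  · have := card_le_of_le (inf_le_inf_right (centralizer (Q : Set G)) le)
    rw [e1, e3] at this
    rw [cN, e4, e2, mul_zero, add_zero, mul_one, pow_add]
    exact Nat.mul_le_mul_right _ this
  · refine (nc ((le_of_sup_comm hW inf_le_left (eq_of_le_of_card_ge l2 ?_)).trans
      inf_le_right)).elim
    rw [s, cW, e2, ← pow_add]
    exact Nat.pow_le_pow_right hp.pos (by nlinarith)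

theorem sylQ {γ : ℕ} (hl : l.Prime) (h : γ * Nat.card ↥(H ⊓ C) = Nat.card H) (d : l ∣ γ) :
    ∃ Q ≤ H, IsPGroup l Q ∧ ¬ Q ≤ C := by
  have := Fact.mk hl
  obtain ⟨S⟩ : Nonempty (Sylow l H) := inferInstance
  refine ⟨(S : Subgroup H).map H.subtype, map_subtype_le _, S.isPGroup'.map _, fun e => ?_⟩
  have h1 := card_dvd_of_le (le_inf (map_subtype_le _) e)
  rw [card_map_of_injective H.subtype_injective] at h1
  have h2 := mul_dvd_mul d h1
  rw [h, ← (S : Subgroup H).index_mul_card] at h2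
  exact S.not_dvd_index (Nat.dvd_of_mul_dvd_mul_right Nat.card_pos h2)

/-- An involution whose fixed points form a `p`-group inverts the `p'`-elements. -/
theorem inverts {t r : G} (hp : p.Prime) (hW : Group.IsNilpotent W) (ho : Odd (Nat.card W))
    (hn : t ∈ normalizer (W : Set G)) (t2 : t * t = 1) (hc : IsPGroup p ↥(W ⊓ centralizer {t}))
    (hr : r ∈ W) (h : ¬ p ∣ orderOf r) : t * r * t⁻¹ = r⁻¹ := by
  obtain ⟨i, hi, c, hcW, e1, e2, rfl⟩ := H44.HK.odd_dec ho hn t2 hr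
  have cm : c ∈ W ⊓ centralizer {t} := ⟨hcW, mem_centralizer_singleton_iff.2 e2⟩
  obtain ⟨k, hk⟩ := hc ⟨c, cm⟩
  have cop : (orderOf c).Coprime (orderOf (i * c)) :=
    (((Nat.Prime.coprime_iff_not_dvd hp).2 h).pow_left k).coprime_dvd_left
      (orderOf_dvd_of_pow_eq_one (congrArg Subtype.val hk))
  have c1 := H26.commute_of_coprime_orderOf_of_mem hW hcW hr cop
  have c2 : Commute c i := by simpa using c1.mul_right (Commute.refl c).inv_right
  have e3 : t * (i * c) * t⁻¹ = i⁻¹ * c := by rw [← e1, ← mul_assoc, mul_assoc _ c, mul_assoc _ t⁻¹,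
    (Commute.inv_right (e2 : Commute c t)).eq]
  have e4 : (i⁻¹ * c) ^ orderOf (i * c) = 1 := by rw [← e3, conj_pow, pow_orderOf_eq_one]; simp
  have e5 := pow_orderOf_eq_one (i * c)
  rw [c2.symm.mul_pow] at e5
  rw [c2.symm.inv_left.mul_pow, inv_pow, inv_mul_eq_one] at e4
  rw [e4] at e5
  obtain rfl : c = 1 := H44.HK.eq_one_of_cop hp hc cm
    (H44.HK.eq_one_of_sq (H44.HK.odd_ord ho (pow_mem hcW _)) e5) h
  simpa using e1

end Grp

variable {G Ω : Type u} [Group G] [Finite G] [MulAction G Ω] {U : Ω → Subgroup G} {a b c : Ω}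
  {X : Set G} {t w n z : G}

local notation "m[" X "]" => Nat.card (CU U X a)

omit [Finite G] in
theorem cjC (h : Sp U) (hn : n ∈ centralizer X) (hz : z ∈ CU U X c) :
    n * z * n⁻¹ ∈ CU U X (n • c) :=
  ⟨h.conj n c z hz.1, (centralizer X).mul_mem ((centralizer X).mul_mem hn hz.2)
    ((centralizer X).inv_mem hn)⟩

omit [Finite G] in
theorem cjZ (h : Sp U) (hn : n ∈ centralizer X) (hz : z ∈ ZU U X c) :
    n * z * n⁻¹ ∈ ZU U X (n • c) := ⟨cjC h hn hz.1, fun u hu => by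
  have := hz.2 _ (by simpa using cjC h (inv_mem hn) hu)
  calc u * (n * z * n⁻¹) = n * (n⁻¹ * u * n * z) * n⁻¹ := by group
    _ = _ := by rw [this]; group⟩

/-- The common part of the types U and R. -/
structure Big (U : Ω → Subgroup G) (a b : Ω) (t w : G) (p f : ℕ) : Prop where
  pr : p.Prime
  f0 : 0 < f
  fr : Fr t w a b
  c1 : Nat.card (CU U {t} a) = (p ^ f) ^ 3
  c2 : Nat.card (CU U {w, t} a) = p ^ f
  der : p ^ f ≤ Nat.card ↥⁅CU U {t} a, CU U {t} a⁆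
  fin : ⁅U a, U a⁆ = CU U {w, t} a → ∀ g ∈ St G a b, g * w = w * g

omit [Finite G] [MulAction G Ω] in
theorem central (hW : Group.IsNilpotent (U a)) {C : Subgroup G} (hC : C ≤ U a)
    (h : ⁅C, C⁆ ≠ ⊥) : ∃ x ∈ ⁅C, C⁆, x ≠ 1 ∧ x ∈ centralizer (C : Set G) := by
  obtain ⟨x, h1, h2, h3⟩ := H44.HK.central_mod (N := ⊥) (H2.isNilpotent_of_le hC)
    (commutator_le_of_le le_rfl le_rfl) (le_normalizer_commutator le_normalizer le_normalizer)
    (le_normalizer_bot _) (mt le_bot_iff.1 h)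
  exact ⟨x, h1, h2, fun u hu => commutatorElement_eq_one_iff_mul_comm.1 (h3 u hu)⟩

theorem bigU (k2 : Kit2.{u}) (h : Rg U) (hab : a ≠ b) (ht : Iv t a b) (tu : TU U {t} a b) :
    ∃ w p f, Big U a b t w p f := by
  obtain ⟨F, _, _, x, y, ld, c1, cz, -⟩ := tu
  have la : ZU U {t} a ≤ U a := inf_le_left.trans inf_le_left
  have lb : ZU U {t} b ≤ U b := inf_le_left.trans inf_le_left
  obtain ⟨-, cZ, -, hst, -, -, -, -, -, -, -, irr⟩ := k2.bas h.sr hab la lb ld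
  obtain ⟨p, -, f, hp, cF⟩ := FiniteField.card' F
  have n1 : (-1 : F) ≠ 0 := neg_ne_zero.2 one_ne_zero
  have hm := H44.HK.h_mem (L := centralizer {t}) (fun c => ((ld.rx _).2 ⟨c, rfl⟩).1.2)
    fun c => ((ld.ry _).2 ⟨c, rfl⟩).1.2
  have nz := H44.HK.zeta_ne k2 h hab ld c1
  have nc : ¬ CU U {t} a ≤ centralizer {sl2h x y (-1)} := fun e => nz (cz ▸ le_inf le_rfl e)
  have lc : ⁅CU U {t} a, CU U {t} a⁆ ≤ CU U {t} a := commutator_le_of_le le_rfl le_rfl
  rw [CU_pair] at cz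
  refine ⟨sl2h x y (-1), p, f, hp, f.2, ⟨ht, ⟨hst _ n1, ord2 (H44.HK.h_sq ld.rel) fun e => nc ?_⟩,
    fun e => nc (e ▸ inf_le_right), (mem_centralizer_singleton_iff.1 (hm _).2).symm⟩,
    cF ▸ c1, by rw [cz, cZ, cF], ?_, fun e g hg => ?_⟩
  · rw [e]
    exact fun u _ => mem_centralizer_singleton_iff.2 (by simp)
  · obtain ⟨z, z1, z2, z3⟩ := central (h.nil a) (C := CU U {t} a) inf_le_left fun e =>
      nz (le_inf le_rfl (commutator_eq_bot_iff_le_centralizer.1 e))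
    rcases irr (⁅CU U {t} a, CU U {t} a⁆ ⊓ ZU U {t} a) inf_le_right (fun c hc w hw => by
      have n := H66.HKS.mem_norm_CU h.toSp (hst c hc).1 (hm c).2
      exact ⟨conj_mem_of_mem_normalizer (le_normalizer_commutator le_rfl le_rfl n) hw.1,
        conj_mem_of_mem_normalizer (H66.HKS.mem_norm_ZU h.toSp (hst c hc).1 (hm c).2) hw.2⟩)
      with e | e
    · exact (z2 (mem_bot.1 (e ▸ ⟨z1, lc z1, z3⟩))).elim
    · rw [← cF, ← cZ]
      exact card_le_of_le (e.ge.trans inf_le_left)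
  · have na : ∀ g ∈ St G a b, g ∈ normalizer (ZU U {t} a : Set G) := fun g hg => by
      rw [← cz, ← e]
      exact le_normalizer_commutator le_rfl le_rfl (norm_U h.toSp hg.1)
    obtain ⟨s1, s2⟩ := ld.sw 1 one_ne_zero
    have hn := (hm 1).1
    generalize sl2n x y 1 = n at s1 s2 hn
    have s3 : n⁻¹ • b = a := by rw [← s1, inv_smul_smul]
    have s4 : n⁻¹ • a = b := by rw [← s2, inv_smul_smul]
    have nb : g ∈ normalizer (ZU U {t} b : Set G) := mem_normalizer_fintype fun z hz => by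
      have h1 := s3 ▸ cjZ h.toSp (inv_mem hn) hz
      have h2 : n⁻¹ * g * n ∈ St G a b := ⟨mem_stabilizer_iff.2 (by
        rw [mul_smul, mul_smul, s1, mem_stabilizer_iff.1 hg.2, s3]), mem_stabilizer_iff.2 (by
        rw [mul_smul, mul_smul, s2, mem_stabilizer_iff.1 hg.1, s4])⟩
      have h3 := s1 ▸ cjZ h.toSp hn (conj_mem_of_mem_normalizer (na _ h2) h1)
      exact (show n * (n⁻¹ * g * n * (n⁻¹ * z * n⁻¹⁻¹) * (n⁻¹ * g * n)⁻¹) * n⁻¹ = g * z * g⁻¹ by
        group) ▸ h3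
    obtain ⟨l, σ, -, -, -, -, e4⟩ := k2.semi h.sr hab la lb ld g hg (na g hg) nb
    have := e4 _ n1
    rw [map_neg, map_one] at this
    exact mul_inv_eq_iff_eq_mul.1 this

theorem bigR (k1 : Kit1.{u}) (h : Rg U) (hab : a ≠ b) (ht : Iv t a b) (tr : TR U {t} a b) :
    ∃ w p f, Big U a b t w p f := by
  obtain ⟨q, w, r⟩ := tr
  obtain ⟨f, rfl⟩ := r.pow
  have cw := r.cardw
  have q1 : 1 < 3 ^ (2 * f + 1) := Nat.one_lt_pow (by omega) (by decide)
  refine ⟨w, 3, _, Nat.prime_three, by omega, ⟨ht, ⟨r.st, r.ord⟩, ?_,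
    (k1.fx h hab (sub1 ht.1)).2.2.2.1 r.mem t rfl⟩, r.card, by rw [← CU_pair, cw], r.der, fun e => ?_⟩
  · rintro rfl
    rw [inf_of_le_left inf_le_right, r.card] at cw
    exact (Nat.pow_lt_pow_right q1 (by decide : 1 < 3)).ne' (cw.trans (pow_one _).symm)
  · rw [CU_pair] at cw
    obtain ⟨z, z1, z2, z3⟩ := central (h.nil a) le_rfl fun e' => by
      rw [← e, e', card_bot] at cw
      omega
    rw [e, ← CU_pair] at z1
    exact (z2 (mem_bot.1 (r.disj ▸ ⟨⟨z1.1, fun u hu => z3 u hu.1⟩, z1.2⟩))).elim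

theorem big (k1 : Kit1.{u}) (k2 : Kit2.{u}) (h : C3 U) (hab : a ≠ b) (ht : Iv t a b)
    (n : ¬ (TA U {t} a ∨ TL U {t} a b)) : ∃ w p f, Big U a b t w p f := by
  rcases h.loc {t} a b hab (sub1 ht.1) ⟨t, rfl, ne_of ht.2⟩ (h.fx3 hab ht) with e | e | e | e
  exacts [(n (Or.inl e)).elim, (n (Or.inr e)).elim, bigU k2 h.toRg hab ht e, bigR k1 h.toRg hab ht e]

end H71.HK
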