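import Cfsg.Agent.H7.HKSSpec3
import Cfsg.Agent.H61.HkIIr
import Cfsg.Agent.H66.HksBnd

/-! HKS chapter III: action of an involution on the fixed points of an involution of type A or L;
shared by the jobs M0a and T1. -/

set_option autoImplicit false

namespace H71.HK

open MulAction Cfsg Subgroup H89.K H65 H7.HKS

universe u

variable {G Ω : Type u} [Group G] [Finite G] [MulAction G Ω] {U : Ω → Subgroup G} {a b : Ω}
  {s g g' t v w : G}

local notation "m[" X "]" => Nat.card (CU U X a)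

omit [Finite G] in
theorem sq_of (h : orderOf s = 2) : s * s = 1 := by rw [← pow_two, ← h, pow_orderOf_eq_one]

omit [Finite G] in
theorem ne_of (h : orderOf s = 2) : s ≠ 1 := fun e => by simp [e] at h

omit [Finite G] in
theorem ord2 (h : s * s = 1) (h1 : s ≠ 1) : orderOf s = 2 :=
  orderOf_eq_prime (by rw [pow_two, h]) h1

theorem norm_U (h : Sp U) (hg : g • a = a) : g ∈ normalizer (U a : Set G) :=
  mem_normalizer_fintype fun u hu => hg ▸ h.conj g a u hu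

omit [Finite G] [MulAction G Ω] in
theorem mem_CU1 {u : G} : u ∈ CU U {s} a ↔ u ∈ U a ∧ Commute u s := by
  simp [mem_centralizer_iff, commute_iff_eq, eq_comm]

omit [Finite G] [MulAction G Ω] in
theorem mem_CU2 {u : G} : u ∈ CU U {g, s} a ↔ u ∈ U a ∧ Commute u g ∧ Commute u s := by
  rw [mem_inf, mem_centralizer_iff, Set.forall_mem_insert]
  simp [commute_iff_eq, eq_comm]

omit [Finite G] [MulAction G Ω] in
theorem CU_pair : CU U {s} a ⊓ centralizer {g} = CU U {g, s} a := by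
  ext u
  rw [mem_inf, mem_CU1, mem_CU2, mem_centralizer_singleton_iff, ← commute_iff_eq]
  tauto

omit [Finite G] [MulAction G Ω] in
theorem CU_mul : CU U {g * s, s} a = CU U {g, s} a := by
  ext u
  rw [mem_CU2, mem_CU2]
  refine and_congr_right fun _ => and_congr_left fun h => ⟨fun e => ?_, fun e => e.mul_right h⟩
  simpa using e.mul_right h.inv_right

omit [Finite G] [MulAction G Ω] in
theorem CU_swap : CU U {g, s} a = CU U {s, g} a := by rw [Set.pair_comm]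

omit [Finite G] [MulAction G Ω] in
theorem CU_le1 : CU U {g, s} a ≤ CU U {s} a := fun _ h => mem_CU1.2 ⟨h.1, (mem_CU2.1 h).2.2⟩

omit [Finite G] in
theorem sub1 (hs : s ∈ St G a b) : ({s} : Set G) ⊆ St G a b := Set.singleton_subset_iff.2 hs

omit [Finite G] in
theorem sub2 (hg : g ∈ St G a b) (hs : s ∈ St G a b) : ({g, s} : Set G) ⊆ St G a b :=
  Set.insert_subset hg (sub1 hs)

omit [Finite G] in
theorem odd_CU (h : Rg U) (X : Set G) : Odd m[X] :=
  (h.odd a).of_dvd_nat (card_dvd_of_le inf_le_left)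

theorem klA (k2 : Kit2.{u}) (h : Rg U) (hab : a ≠ b) (hs : s ∈ St G a b) (hg : g ∈ St G a b)
    (g2 : g * g = 1) (c : g * s = s * g) (ta : TA U {s} a) : 7 ≤ m[{s}] ∧
      (m[{s}] = m[{g, s}] ∨ (m[{s}] = m[{g, s}] * (m[{g, s}] + 2) ∧ ∃ k, m[{s}] + 1 = 2 ^ k)) := by
  obtain ⟨h7, E, e⟩ := ta
  obtain ⟨h1, ⟨k, h2⟩, -, -, h3⟩ := k2.aa h hab (sub1 hs) e
  refine ⟨h7, (((h3 g hg (mem_centralizer_singleton_iff.2 c)).2.2 g2 _ rfl).1).imp id fun e => ?_⟩
  exact ⟨e, k, h1 ▸ h2⟩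

theorem klL0 (k1 : Kit1.{u}) (k3 : Kit3.{u}) (h : Rg U) (hab : a ≠ b) (hs : s ∈ St G a b)
    (tl : TL U {s} a b) : ∃ (F : Type) (_ : Field F) (_ : Fintype F)
      (φ : normalizer ({s} : Set G) →* (F ≃+* F)), ∀ g : normalizer ({s} : Set G),
      (g : G) ∈ St G a b → (g : G) * g = 1 → m[{s}] = m[{(g : G), s}] ∨ m[{(g : G), s}] = 1 ∨
        (φ g ≠ 1 ∧ m[{s}] = m[{(g : G), s}] ^ 2) := by
  obtain ⟨F, _, _, x, y, ld⟩ := tl
  obtain ⟨d, φ, -, -, h3⟩ := k3.out h hab (sub1 hs) ld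
  refine ⟨F, _, ‹_›, φ, fun g hg g2 => ?_⟩
  have f1 := (k1.fx h hab (sub1 hs)).2.1
  have f2 := (k1.fx h hab (sub2 hg hs)).2.1
  have cF : m[{s}] = Fintype.card F := by
    rw [← Nat.card_eq_fintype_card]
    exact (Nat.card_congr (Equiv.ofBijective (fun c => (⟨x c, (ld.rx _).2 ⟨c, rfl⟩⟩ : CU U {s} a))
      ⟨fun c d e => ld.inj (congrArg Subtype.val e), fun u =>
        let ⟨c, e⟩ := (ld.rx _).1 u.2; ⟨c, Subtype.ext e⟩⟩)).symm
  by_cases tr : Triv Ω {s} g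
  · have : Fx Ω {(g : G), s} = Fx Ω {s} := by
      ext c
      exact Set.forall_mem_insert.trans ⟨fun e => e.2, fun e => ⟨tr c e, e⟩⟩
    rw [this] at f2
    omega
  rcases h3 g (fun c _ => by rw [g2, one_smul]) tr with ⟨p, -, r, e1, e2⟩ | ⟨-, e, -⟩ | ⟨-, e, -⟩
  · refine Or.inr (Or.inr ⟨p, ?_⟩)
    rw [cF, e1, show m[{(g : G), s}] = r by omega]
  · omega
  · rw [e, Set.ncard_empty] at f2
    omega

theorem klL (k1 : Kit1.{u}) (k3 : Kit3.{u}) (h : Rg U) (hab : a ≠ b) (hs : s ∈ St G a b)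
    (hg : g ∈ St G a b) (g2 : g * g = 1) (c : g * s = s * g) (tl : TL U {s} a b) :
    m[{s}] = m[{g, s}] ∨ m[{g, s}] = 1 ∨ m[{s}] = m[{g, s}] ^ 2 := by
  obtain ⟨F, _, _, φ, H⟩ := klL0 k1 k3 h hab hs tl
  exact (H ⟨g, centralizer_le_normalizer _ (mem_centralizer_singleton_iff.2 c)⟩ hg g2).imp id
    (Or.imp id And.right)

theorem aut_uniq {F : Type} [Field F] [Fintype F] {σ τ : F ≃+* F} (h1 : σ ≠ 1) (h2 : τ ≠ 1)
    (s2 : σ * σ = 1) (t2 : τ * τ = 1) : σ * τ = 1 := by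
  have k : ∀ ρ : F ≃+* F, ρ ≠ 1 → ρ * ρ = 1 → ∃ q, Fintype.card F = q ^ 2 ∧ ∀ c, ρ c = c ^ q :=
    fun ρ r1 r2 => by
      obtain ⟨q, hq, e⟩ := H59.exists_card_eq_sq (σ := (ρ : F →+* F))
        (fun e => r1 (RingEquiv.ext fun c => congrArg (fun f : F →+* F => f c) e))
        fun c => congrArg (fun f : F ≃+* F => f c) r2
      exact ⟨q, hq, fun c => congrArg (fun f : F →+* F => f c) e⟩
  obtain ⟨q, hq, e⟩ := k σ h1 s2
  obtain ⟨q', hq', e'⟩ := k τ h2 t2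
  obtain rfl : q = q' := Nat.pow_left_injective (by decide) (hq.symm.trans hq')
  rw [show τ = σ from RingEquiv.ext fun c => (e' c).trans (e c).symm, s2]

theorem klL3 (k1 : Kit1.{u}) (k3 : Kit3.{u}) (h : Rg U) (hab : a ≠ b) (hs : s ∈ St G a b)
    (hg : g ∈ St G a b) (hg' : g' ∈ St G a b) (g2 : g * g = 1) (g2' : g' * g' = 1)
    (c : g * s = s * g) (c' : g' * s = s * g') (cc : g * g' = g' * g) (tl : TL U {s} a b) :
    (m[{s}] = m[{g, s}] ∨ m[{s}] = m[{g', s}] ∨ m[{s}] = m[{g * g', s}]) ∨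
      m[{g, s}] = 1 ∨ m[{g', s}] = 1 ∨ m[{g * g', s}] = 1 := by
  obtain ⟨F, _, _, φ, H⟩ := klL0 k1 k3 h hab hs tl
  let x : normalizer ({s} : Set G) :=
    ⟨g, centralizer_le_normalizer _ (mem_centralizer_singleton_iff.2 c)⟩
  let y : normalizer ({s} : Set G) :=
    ⟨g', centralizer_le_normalizer _ (mem_centralizer_singleton_iff.2 c')⟩
  have h1 := H x hg g2
  have h2 := H y hg' g2'
  have h3 := H (x * y) (mul_mem hg hg') (show g * g' * (g * g') = 1 by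
    rw [mul_assoc, ← mul_assoc g', ← cc, mul_assoc, g2', mul_one, g2])
  have sq : ∀ z : normalizer ({s} : Set G), (z : G) * z = 1 → φ z * φ z = 1 := fun z e => by
    rw [← map_mul, show z * z = 1 from Subtype.ext e, map_one]
  have := fun p q => aut_uniq (σ := φ x) (τ := φ y) p q (sq x g2) (sq y g2')
  rw [← map_mul] at this
  change m[{s}] = m[{g, s}] ∨ m[{g, s}] = 1 ∨ _ at h1
  change m[{s}] = m[{g', s}] ∨ m[{g', s}] = 1 ∨ _ at h2
  change m[{s}] = m[{g * g', s}] ∨ m[{g * g', s}] = 1 ∨ _ at h3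
  tauto

/-- Brauer-Wielandt for the root group. -/
theorem wieU (k1 : Kit1.{u}) (h : Rg U) (hs : s ∈ St G a b) (hg : g ∈ St G a b) (s2 : s * s = 1)
    (g2 : g * g = 1) (c : g * s = s * g) :
    Nat.card (U a) * m[{g, s}] ^ 2 = m[{g}] * m[{s}] * m[{g * s}] :=
  (k1.wie (U a) g s (h.odd a) (norm_U h.toSp hg.1) (norm_U h.toSp hs.1) g2 s2 c).1

theorem lt_U (h : Rg U) (hab : a ≠ b) (hs : s ∈ St G a b) (h1 : s ≠ 1) : m[{s}] < Nat.card (U a) :=
  lt_of_le_of_ne (card_le_of_le inf_le_left) fun e => h1 (H61.Hk.faith h.toSp hab hs fun _ hu =>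
    (mem_CU1.1 ((eq_of_le_of_card_ge inf_le_left e.ge).ge hu)).2.symm)

/-- A four-group has at most one trivial member. -/
theorem line (k1 : Kit1.{u}) (h : Rg U) (hab : a ≠ b) (hs : s ∈ St G a b) (hg : g ∈ St G a b)
    (s2 : s * s = 1) (g2 : g * g = 1) (c : g * s = s * g) (n : g * s ≠ 1) (e1 : m[{g}] = m[{g, s}])
    (e2 : m[{s}] = m[{g, s}]) : False := by
  have h1 := wieU k1 h hs hg s2 g2 c
  have h2 := lt_U h hab (mul_mem hg hs) n
  rw [e1, e2, ← pow_two, mul_comm] at h1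
  exact h2.ne' (Nat.eq_of_mul_eq_mul_left (pow_pos Nat.card_pos 2) h1)

end H71.HK
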