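/- Tower HM (row S5175): the model `L₃(3):2` (jobs `JobM33`, `JobM33n`). -/
import Cfsg.Agent.H87.HMK2
import Cfsg.Agent.H57.PslAutDefs
import Cfsg.Agent.H57.SLGen
import Cfsg.Agent.H57.SLCard

set_option autoImplicit false

namespace H71.HMM33
open Cfsg H92 H93 Subgroup H87.HM Matrix SemidirectProduct
open H87.S4 (Co)

section gen
variable {G : Type} [Group G] {K : Type} [Field K] [CharP K 2] {B : Subgroup G}
  {m : K → K → K → K → G} {t : G}

/-- The group `B⟨t⟩` from coordinates. -/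
theorem exists_T4 (h : Co B m) (t2 : t * t = 1)
    (act : ∀ c y w a, ∃ c' y' w' a', t * m c y w a * t⁻¹ = m c' y' w' a') :
    ∃ T : Subgroup G, IsPGroup 2 T ∧ B ≤ T ∧ t ∈ T ∧ ∀ s ∈ T, s ∈ B ∨ s * t ∈ B := by
  have ti : t⁻¹ = t := inv_of_sq t2
  have n : ∀ b ∈ B, t * b * t ∈ B := fun b hb => by
    obtain ⟨c, y, w, a, rfl⟩ := h.surj b hb
    obtain ⟨c', y', w', a', e⟩ := act c y w a
    rw [ti] at e
    exact e ▸ h.mem ..
  have two : (2 : K) = 0 := CharTwo.two_eq_zero
  have p4 : ∀ b ∈ B, b ^ 2 ^ 2 = 1 := fun b hb => by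
    obtain ⟨c, y, w, a, rfl⟩ := h.surj b hb
    rw [show (2 : ℕ) ^ 2 = 2 * 2 from rfl, pow_mul, sq, sq, h.mul, h.mul, h.eq_one]
    simp [CharTwo.add_self_eq_zero, two]
  refine ⟨⟨⟨⟨{g | g ∈ B ∨ g * t ∈ B}, ?_⟩, .inl B.one_mem⟩, ?_⟩, ?_, fun g hg => .inl hg,
    .inr (t2 ▸ B.one_mem), fun s hs => hs⟩
  · rintro x y (hx | hx) (hy | hy)
    · exact .inl (mul_mem hx hy)
    · exact .inr (mul_assoc x y t ▸ mul_mem hx hy)
    · refine .inr ?_
      convert mul_mem hx (n _ hy) using 1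
      calc x * y * t = x * (t * t) * y * t := by rw [t2, mul_one]
        _ = _ := by group
    · refine .inl ?_
      convert mul_mem hx (n _ hy) using 1
      calc x * y = x * (t * t) * y * (t * t) := by rw [t2, mul_one, mul_one]
        _ = _ := by group
  · rintro x (hx | hx)
    · exact .inl (inv_mem hx)
    · refine .inr ?_
      convert n _ (inv_mem hx) using 1
      rw [_root_.mul_inv_rev, ← mul_assoc, mul_inv_cancel, one_mul]
  · rintro ⟨x, hx | hx⟩
    · exact ⟨2, Subtype.ext (p4 x hx)⟩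
    · refine ⟨3, Subtype.ext ?_⟩
      have : x * x ∈ B := by
        convert mul_mem hx (n _ hx) using 1
        calc x * x = x * (t * t) * x * (t * t) := by rw [t2, mul_one, mul_one]
          _ = _ := by group
      have e := p4 _ this
      rw [← sq, ← pow_mul] at e
      exact e

end gen

abbrev F3 := ZMod 3
abbrev F2 := ZMod 2
abbrev SL := Matrix.SpecialLinearGroup (Fin 3) F3
abbrev C2 := Multiplicative F2

/-- The nontrivial element of `C₂`. -/
abbrev o : C2 := Multiplicative.ofAdd 1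

theorem f2 : ∀ x : F2, x = 0 ∨ x = 1 := by decide

theorem c2 : ∀ u : C2, u = 1 ∨ u = o := by decide

/-- The graph automorphism as an action of `C₂`. -/
noncomputable def ph : C2 →* MulAut SL where
  toFun u := if u = 1 then 1 else H57.slGraph (Fin 3) F3
  map_one' := if_pos rfl
  map_mul' u v := by
    have e : o * o = 1 := by decide
    have e' : o ≠ 1 := by decide
    rcases c2 u with rfl | rfl <;> rcases c2 v with rfl | rfl <;>
      simp [e, e', H57.slGraph_mul_self]

abbrev GG := SL ⋊[ph] C2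

theorem gr_mul (M : SL) : (H57.slGraph (Fin 3) F3 M).1 * M.1ᵀ = 1 := by
  rw [H57.slGraph_coe, ← transpose_mul, H57.sl_mul_inv_coe, transpose_one]

theorem ph_eq (u : C2) {M N : SL} (h : M.1ᵀ * N.1 = 1) : ph u M = if u = 1 then M else N := by
  have : H57.slGraph (Fin 3) F3 M = N :=
    Subtype.ext (by rw [← mul_one (H57.slGraph (Fin 3) F3 M).1, ← h, ← mul_assoc, gr_mul, one_mul])
  change (if u = 1 then 1 else H57.slGraph (Fin 3) F3) M = _
  split_ifs
  exacts [rfl, this]

theorem ph_o (M : SL) : (ph o M).1 * M.1ᵀ = 1 := gr_mul M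

def s (k : F2) : F3 := if k = 0 then 1 else -1

def dm (c y a : F2) : Matrix (Fin 3) (Fin 3) F3 :=
  if c = 0 then !![s y, 0, 0; 0, s (y + a), 0; 0, 0, s a]
  else !![0, -s (y + a), 0; -s y, 0, 0; 0, 0, -s a]

theorem dm_det : ∀ c y a, (dm c y a).det = 1 := by
  simp only [det_fin_three]; decide

def d (c y a : F2) : SL := ⟨dm c y a, dm_det c y a⟩
def t0 : SL := ⟨!![1, 1, 0; 1, -1, 0; 0, 0, 1], by rw [det_fin_three]; decide⟩
def t1 : SL := ⟨!![-1, -1, 0; -1, 1, 0; 0, 0, 1], by rw [det_fin_three]; decide⟩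
def n0 : SL := ⟨!![0, 0, 1; 0, -1, 0; 1, 0, 0], by rw [det_fin_three]; decide⟩
def g0 : SL := ⟨!![1, 0, 0; -1, 1, 0; 0, 0, 1], by rw [det_fin_three]; decide⟩
def k0 : SL := ⟨!![0, 0, 1; 1, 0, 0; 0, 1, 1], by rw [det_fin_three]; decide⟩
def k1 : SL := ⟨!![0, -1, 1; 1, 0, 0; 0, 1, 0], by rw [det_fin_three]; decide⟩

theorem ph_d (u : C2) (c y a : F2) : ph u (d c y a) = d c y a := by
  have : ∀ c y a, (d c y a).1ᵀ * (d c y a).1 = 1 := by decide +kernel
  rw [ph_eq u (N := d c y a) (this c y a), ite_self]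

theorem ph_n (u : C2) : ph u n0 = n0 := by
  rw [ph_eq u (N := n0) (by decide), ite_self]

theorem ph_t (u : C2) : ph u t0 = if u = 1 then t0 else t1 := ph_eq u (by decide)

def m0 (c y w a : F2) : GG := ⟨d c y a, Multiplicative.ofAdd (c + y + w + a)⟩
def tt : GG := ⟨t0, o⟩
def nn : GG := ⟨n0, 1⟩

theorem m0_mul (c y w a c' y' w' a' : F2) : m0 c y w a * m0 c' y' w' a' =
    m0 (c + c') (y + y' + a * c') (w + w' + 2 * a * y' + a ^ 2 * c') (a + a') := by
  have h1 : ∀ c y a c' y' a', dm c y a * dm c' y' a' = dm (c + c') (y + y' + a * c') (a + a') := by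
    decide +kernel
  have h2 : ∀ c y w a c' y' w' a' : F2, c + y + w + a + (c' + y' + w' + a') =
      c + c' + (y + y' + a * c') + (w + w' + 2 * a * y' + a ^ 2 * c') + (a + a') := by decide +kernel
  refine SemidirectProduct.ext (Subtype.ext ?_) (congrArg Multiplicative.ofAdd (h2 ..))
  change (d c y a * ph _ (d c' y' a')).1 = _
  rw [ph_d]; exact h1 ..

theorem m0_inj {c y w a c' y' w' a' : F2} (e : m0 c y w a = m0 c' y' w' a') :
    c = c' ∧ y = y' ∧ w = w' ∧ a = a' := by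
  have h1 : ∀ c y a c' y' a', dm c y a = dm c' y' a' → c = c' ∧ y = y' ∧ a = a' := by
    decide +kernel
  obtain ⟨rfl, rfl, rfl⟩ := h1 c y a c' y' a' (congrArg (fun g : GG => g.left.1) e)
  have : c + y + w + a = c + y + w' + a := congrArg (fun g : GG => g.right.toAdd) e
  exact ⟨rfl, rfl, by simpa using this, rfl⟩

theorem tt_sq : tt * tt = 1 := by
  refine SemidirectProduct.ext ?_ (by decide)
  change t0 * ph o t0 = 1
  rw [ph_t]; decide

theorem tt_act (c y w a : F2) : tt * m0 c y w a * tt⁻¹ = m0 a (w + c * a) (y + c * a) c := by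
  have h1 : ∀ c y w a : F2, t0 * d c y a = d a (w + c * a) c *
      if Multiplicative.ofAdd (a + (w + c * a) + (y + c * a) + c) = 1 then t0 else t1 := by
    decide +kernel
  have h2 : ∀ c y w a : F2, 1 + (c + y + w + a) = a + (w + c * a) + (y + c * a) + c + 1 := by decide
  rw [mul_inv_eq_iff_eq_mul]
  refine SemidirectProduct.ext ?_ (congrArg Multiplicative.ofAdd (h2 ..))
  change t0 * ph _ (d c y a) = d _ _ _ * ph _ t0
  rw [ph_d, ph_t]; exact h1 ..

theorem nn_act (y w a : F2) : nn * m0 0 y w a * nn⁻¹ = m0 0 a w y := by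
  have h1 : ∀ y a : F2, n0 * d 0 y a = d 0 a y * n0 := by decide +kernel
  have h2 : ∀ y w a : F2, 0 + (0 + y + w + a) = 0 + a + w + y + 0 := by decide
  rw [mul_inv_eq_iff_eq_mul]
  refine SemidirectProduct.ext ?_ (congrArg Multiplicative.ofAdd (h2 ..))
  change n0 * ph _ (d 0 y a) = d _ _ _ * ph _ n0
  rw [ph_d, ph_n]; exact h1 ..

theorem fuse : (inl g0 : GG) * m0 1 0 0 1 * (inl g0)⁻¹ = tt * m0 0 0 1 0 := by
  rw [mul_inv_eq_iff_eq_mul]
  refine SemidirectProduct.ext ?_ (by decide)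
  change g0 * ph _ (d 1 0 1) = t0 * ph _ (d 0 0 0) * ph (o * Multiplicative.ofAdd (0 + 0 + 1 + 0)) g0
  rw [ph_d, ph_d, show o * Multiplicative.ofAdd (0 + 0 + 1 + 0) = 1 by decide, map_one]
  change g0 * d 1 0 1 = t0 * d 0 0 0 * g0
  decide

/-- The normalizer of `⟨γ, z, v⟩` centralizes `γ`. -/
theorem cen_of_nm (g : GG) (h : ∀ y w a, ∃ y' w' a', g * m0 0 y w a * g⁻¹ = m0 0 y' w' a') :
    g * m0 0 0 1 0 * g⁻¹ = m0 0 0 1 0 := by
  obtain ⟨M, u⟩ := g
  have key : ∀ y w a y' w' a', (⟨M, u⟩ : GG) * m0 0 y w a * (⟨M, u⟩ : GG)⁻¹ = m0 0 y' w' a' →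
      0 + y' + w' + a' = 0 + y + w + a ∧
        M * d 0 y a = d 0 y' a' * ph (Multiplicative.ofAdd (0 + y + w + a)) M := by
    intro y w a y' w' a' e
    rw [mul_inv_eq_iff_eq_mul] at e
    have e1 : M * ph u (d 0 y a) = d 0 y' a' * ph (Multiplicative.ofAdd (0 + y' + w' + a')) M :=
      congrArg (fun g : GG => g.left) e
    have e2 : u.toAdd + (0 + y + w + a) = 0 + y' + w' + a' + u.toAdd :=
      congrArg (fun g : GG => g.right.toAdd) e
    have e3 : 0 + y' + w' + a' = 0 + y + w + a := by linear_combination -e2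
    exact ⟨e3, by rwa [ph_d, e3] at e1⟩
  obtain ⟨y1, w1, a1, e1⟩ := h 1 1 0
  obtain ⟨y2, w2, a2, e2⟩ := h 0 1 1
  obtain ⟨y3, w3, a3, e3⟩ := h 0 1 0
  have r1 := congrArg Subtype.val (key _ _ _ _ _ _ e1).2
  have r2 := congrArg Subtype.val (key _ _ _ _ _ _ e2).2
  obtain ⟨r4, r3⟩ := key _ _ _ _ _ _ e3
  rw [show Multiplicative.ofAdd (0 + 1 + 1 + 0 : F2) = 1 by decide, map_one] at r1
  rw [show Multiplicative.ofAdd (0 + 0 + 1 + 1 : F2) = 1 by decide, map_one] at r2
  rw [show Multiplicative.ofAdd (0 + 0 + 1 + 0 : F2) = o by decide,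
    show d 0 0 0 = 1 by decide, mul_one] at r3
  have r5 : M.1 * M.1ᵀ = dm 0 y3 a3 := by
    have : M.1 = dm 0 y3 a3 * (ph o M).1 := congrArg Subtype.val r3
    calc M.1 * M.1ᵀ = dm 0 y3 a3 * (ph o M).1 * M.1ᵀ := by rw [← this]
      _ = _ := by rw [mul_assoc, ph_o, mul_one]
  change M.1 * dm 0 1 0 = dm 0 y1 a1 * M.1 at r1
  change M.1 * dm 0 0 1 = dm 0 y2 a2 * M.1 at r2
  have row : ∀ a b c e e' : F3, (-a = e * a ∧ -b = e * b ∧ c = e * c) ∧ a = e' * a ∧ -b = e' * b ∧
      -c = e' * c → a * a + b * b + c * c ≠ -1 := by decide +kernel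
  have s1 : s 1 = -1 := rfl
  have s0 : s 0 = 1 := rfl
  have sz : ∀ k, s k ≠ -1 → k = 0 := by decide
  have q : ∀ i, dm 0 y3 a3 i i ≠ -1 := fun i => by
    have f1 := fun j => congrFun (congrFun r1 i) j
    have f2 := fun j => congrFun (congrFun r2 i) j
    rw [← r5]
    simp only [mul_apply, Fin.sum_univ_three, transpose_apply]
    refine row _ _ _ (dm 0 y1 a1 i i) (dm 0 y2 a2 i i) ⟨⟨?_, ?_, ?_⟩, ?_, ?_, ?_⟩
    · have := f1 0; fin_cases i <;> simpa [mul_apply, Fin.sum_univ_three, dm, s1, s0] using this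
    · have := f1 1; fin_cases i <;> simpa [mul_apply, Fin.sum_univ_three, dm, s1, s0] using this
    · have := f1 2; fin_cases i <;> simpa [mul_apply, Fin.sum_univ_three, dm, s1, s0] using this
    · have := f2 0; fin_cases i <;> simpa [mul_apply, Fin.sum_univ_three, dm, s1, s0] using this
    · have := f2 1; fin_cases i <;> simpa [mul_apply, Fin.sum_univ_three, dm, s1, s0] using this
    · have := f2 2; fin_cases i <;> simpa [mul_apply, Fin.sum_univ_three, dm, s1, s0] using this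
  obtain rfl : y3 = 0 := sz _ (q 0)
  obtain rfl : a3 = 0 := sz _ (q 2)
  obtain rfl : w3 = 1 := by simpa using r4
  exact e3

theorem center_SL : center SL = ⊥ := by
  rw [← card_eq_one, H57.card_center_sl]; simp

theorem card_GG : Nat.card GG = 11232 := by
  rw [SemidirectProduct.card, H57.card_sl_fin_eq]
  simp [Finset.prod_range_succ]

instance : Finite GG := Nat.finite_of_card_ne_zero (by rw [card_GG]; decide)

theorem alt6 : Alt6 GG := by
  have e1 : SL ≃* (inl : SL →* GG).range := MonoidHom.ofInjective inl_injective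
  have e2 : ProjectiveSpecialLinearGroup (Fin 3) F3 ≃* SL :=
    (QuotientGroup.quotientMulEquivOfEq center_SL).trans QuotientGroup.quotientBot
  have := H57.psl_isSimpleGroup_of_three_le (ι := Fin 3) (F := F3) (by simp)
  have : IsSimpleGroup (inl : SL →* GG).range := (e2.trans e1).symm.isSimpleGroup
  have : (inl : SL →* GG).range.Normal := by rw [range_inl_eq_ker_rightHom]; infer_instance
  refine alt6_of (inl : SL →* GG).range (inl : SL →* GG).range (fun h => ?_) ?_ ?_
    (fun g hg => ⟨1, odd_one, by rwa [pow_one]⟩) F3 (.inl ⟨(e2.trans e1).symm⟩)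
  · have := h.is_comm.comm ⟨_, t0, rfl⟩ ⟨_, n0, rfl⟩
    have : t0 * n0 = n0 * t0 := inl_injective (by
      rw [map_mul, map_mul]; exact congrArg Subtype.val this)
    exact absurd this (by decide)
  · refine eq_bot_iff.2 fun ⟨M, u⟩ hg => ?_
    have c : ∀ N : SL, N * M = M * ph u N := fun N => by
      simpa using congrArg (fun g : GG => g.left) (hg (inl N) ⟨N, rfl⟩)
    rcases c2 u with rfl | rfl
    · have : M ∈ center SL := mem_center_iff.2 fun N => by simpa using c N
      rw [center_SL, mem_bot] at this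
      rw [this]; rfl
    · have e := c k0
      rw [ph_eq o (N := k1) (by decide), if_neg (by decide), ← eq_mul_inv_iff_mul_eq] at e
      have e3 : k0.1 = M.1 * k1.1 * (M⁻¹).1 := congrArg Subtype.val e
      have e4 : k0.1.trace = k1.1.trace := by
        rw [e3, trace_mul_comm, ← mul_assoc, H57.sl_inv_mul_coe, one_mul]
      exact absurd e4 (by decide)
  · rw [range_inl_eq_ker_rightHom, index_ker, MonoidHom.range_eq_top.2 rightHom_surjective, card_top]
    simp

theorem core (K : Type) [Field K] [CharP K 2] (σ : RingAut K) (hK : Nat.card K = 2) :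
    ∃ (T : Sylow 2 GG) (B : Subgroup GG) (m : K → K → K → K → GG) (t : GG) (h : T4 T B m t σ),
      (∃ n, Sw4 m n) ∧ (∀ g ∈ Nm (h.co.Q 0), g ∈ Nm h.co.Z) ∧ ¬ Sc (T : Subgroup GG) B := by
  have := Fact.mk Nat.prime_two
  have : Finite K := Nat.finite_of_card_ne_zero (by omega)
  have := Fintype.ofFinite K
  obtain ⟨f⟩ : Nonempty (K ≃+* F2) :=
    ⟨(ZMod.ringEquivOfPrime K Nat.prime_two (Nat.card_eq_fintype_card.symm.trans hK)).symm⟩
  have z := f2
  have z' : ∀ x : K, x = 0 ∨ x = 1 := fun x => by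
    rcases z (f x) with e | e
    exacts [.inl (f.injective (e.trans (map_zero f).symm)), .inr (f.injective (e.trans (map_one f).symm))]
  have hσ : ∀ x, σ x = x := fun x => by rcases z' x with rfl | rfl <;> simp
  have sq : ∀ x : K, x ^ 2 = x := fun x => by rcases z' x with rfl | rfl <;> simp
  let m : K → K → K → K → GG := fun c y w a => m0 (f c) (f y) (f w) (f a)
  have mul : ∀ c y w a c' y' w' a', m c y w a * m c' y' w' a' =
      m (c + c') (y + y' + a * c') (w + w' + 2 * a * y' + a ^ 2 * c') (a + a') := by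
    intros; simp only [m, m0_mul, map_add, map_mul, map_pow, map_ofNat]
  have one : m 0 0 0 0 = 1 := by
    have := mul 0 0 0 0 0 0 0 0
    simpa using this
  let B : Subgroup GG :=
    { carrier := {g | ∃ c y w a, g = m c y w a}
      one_mem' := ⟨0, 0, 0, 0, one.symm⟩
      mul_mem' := by
        rintro _ _ ⟨c, y, w, a, rfl⟩ ⟨c', y', w', a', rfl⟩
        exact ⟨_, _, _, _, mul ..⟩
      inv_mem' := by
        rintro _ ⟨c, y, w, a, rfl⟩
        refine ⟨-c, -y + a * c, -w + 2 * a * y - a ^ 2 * c, -a, inv_eq_of_mul_eq_one_right ?_⟩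
        rw [mul, ← one]; congr 1 <;> ring }
  have co : Co B m := ⟨fun c y w a => ⟨c, y, w, a, rfl⟩, fun g hg => hg, mul, fun e => by
    obtain ⟨h1, h2, h3, h4⟩ := m0_inj e
    exact ⟨f.injective h1, f.injective h2, f.injective h3, f.injective h4⟩⟩
  have act : ∀ c y w a, tt * m c y w a * tt⁻¹ =
      m (σ a ^ 2) (σ w + σ c * σ a ^ 2) (σ y ^ 2 + σ c ^ 2 * σ a ^ 2) (σ c) := by
    intros; simp only [m, tt_act, hσ, sq, map_add, map_mul]
  obtain ⟨T, h1, h2, h3, h4⟩ := exists_T4 co tt_sq fun c y w a => ⟨_, _, _, _, act c y w a⟩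
  have h : T4 T B m tt σ := ⟨co, h1, h2, h3, h4, tt_sq, fun x => by rw [hσ, hσ, sq], act⟩
  have cB : Nat.card B = Nat.card (K × K × K × K) :=
    card_of_param (fun v : K × K × K × K => m v.1 v.2.1 v.2.2.1 v.2.2.2)
      (fun v v' e => by
        obtain ⟨e1, e2, e3, e4⟩ := co.inj e
        exact Prod.ext e1 (Prod.ext e2 (Prod.ext e3 e4)))
      fun g => ⟨fun ⟨c, y, w, a, e⟩ => ⟨(c, y, w, a), e⟩, fun ⟨v, e⟩ => ⟨_, _, _, _, e⟩⟩
  have cT := T.card_mul_index
  rw [h.tw.card_S, cB, card_GG] at cT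
  simp only [Nat.card_prod, hK] at cT
  refine ⟨h1.toSylow (by omega), B, m, tt, h, ⟨nn, fun y w a => ?_⟩, fun g hg => ?_, fun sc => ?_⟩
  · simp only [m, map_zero, nn_act]
  · have e := cen_of_nm g fun y w a => by
      have := conj_mem_of_Nm hg (co.mem_Q (c := 0) (y := f.symm y) (w := f.symm w) (a := f.symm a).2
        (zero_mul _).symm)
      obtain ⟨y', w', a', e⟩ := co.exQ this
      exact ⟨f y', f w', f a', by simpa [m] using e⟩
    refine mem_Nm_of_conj fun x hx => ?_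
    obtain ⟨w, rfl⟩ := co.exZ hx
    rcases z' w with rfl | rfl
    · rw [one, mul_one, mul_inv_cancel]; exact one_mem _
    · have : g * m 0 0 1 0 * g⁻¹ = m 0 0 1 0 := by simpa [m] using e
      rw [this]; exact hx
  · have e : inl g0 * m 1 0 0 1 * (inl g0)⁻¹ = tt * m 0 0 1 0 := by
      simp only [m, map_one, map_zero, fuse]
    have := sc (inl g0) _ (co.mem 1 0 0 1) (by rw [e]; exact mul_mem h3 (h2 (co.mem ..)))
    rw [e] at this
    exact h.tw.t_not ((mul_mem_cancel_right (co.mem ..)).1 this)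

theorem jobM33 : JobM33 := fun K _ hK => by
  have := Fact.mk Nat.prime_two
  have : Finite K := Nat.finite_of_card_ne_zero (by omega)
  have := Fintype.ofFinite K
  have : CharP K 2 := charP_of_card_eq_prime (Nat.card_eq_fintype_card.symm.trans hK)
  obtain ⟨T, B, m, t, h, ⟨n, hn⟩, h1, h2⟩ := core K 1 hK
  refine ⟨GG, inferInstance, inferInstance, T, B, m, t, h.co, h.tw, fun w => ⟨_, by simpa using h.actY 0 w⟩,
    h1, ⟨n, mem_Nm_of_conj fun x hx => ?_, fun e => ?_⟩, h2, alt6⟩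
  · obtain ⟨y, w, a, rfl⟩ := h.co.exQ hx
    rw [zero_mul, hn]; exact h.co.mem_Q.2 (zero_mul _).symm
  · have := conj_mem_of_Nm e (h.co.mem_Y (c := 0) (y := 1) (w := 0) (a := 0).2 ⟨rfl, rfl⟩)
    rw [hn] at this
    exact one_ne_zero (h.co.mem_Y.1 this).2

/-- The normalized form, without the hypotheses of `JobM33n`. -/
theorem m33n (K : Type) [Field K] [CharP K 2] (σ : RingAut K) (hK : Nat.card K = 2) :
    ∃ (G : Type) (_ : Group G) (_ : Finite G) (T : Sylow 2 G) (B : Subgroup G) (m : K → K → K → K → G)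
      (t : G), T4 T B m t σ ∧ (∃ n, Sw4 m n) ∧ ¬ Sc (T : Subgroup G) B ∧ Alt6 G := by
  obtain ⟨T, B, m, t, h, h1, -, h2⟩ := core K σ hK
  exact ⟨GG, inferInstance, inferInstance, T, B, m, t, h, h1, h2, alt6⟩

theorem jobM33n : JobM33n := fun _ _ K _ _ _ σ hK => m33n K σ hK

end H71.HMM33
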