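/- HN3L tower, slot P: the matrix computations. -/
import Cfsg.Agent.H16.HN3Spec

set_option autoImplicit false
set_option maxRecDepth 100000
set_option synthInstance.maxSize 4096

namespace H71.HN
open H47.MC (V Mat)
open H16.HN3 (wz wd wa mN sieg)
open scoped Matrix

abbrev F3 := ZMod 3
def e0 : V := ![1, 0, 0, 0]
def e1 : V := ![0, 1, 0, 0]
def e2 : V := ![0, 0, 1, 0]
def e3 : V := ![0, 0, 0, 1]
def N0 : Mat := !![1, 0, 0, 0; 0, -1, 0, 0; 0, 0, 0, -1; 0, 0, 1, 0]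
def N1 : Mat := !![1, 0, 0, 0; 0, -1, 0, 0; 0, 0, 0, 1; 0, 0, -1, 0]
def mq' (p : V) (c : F3) : Mat := !![1, c, p 2, p 3; 0, 1, 0, 0; 0, p 0, 1, 0; 0, p 1, 0, 1]
def mq (p : V) : Mat := mq' p (-(p 0 * p 2 + p 1 * p 3))
def par (M : Mat) : V := ![M 2 1, M 3 1, M 0 2, M 0 3]
def bx (α β x y : F3) : V := ![x, y, α * x + β * y, β * x - α * y]
def Sg (α β : F3) (k : V) : Prop := ∀ x y : F3,
  (α * x + β * y) * k 2 + (β * x - α * y) * k 3 = 0 → x * (α * x + β * y) + y * (β * x - α * y) = 0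
instance (α β : F3) (k : V) : Decidable (Sg α β k) := by unfold Sg; infer_instance
def Rm (l m : F3) : Mat := !![-1, 1, 1, 0; -1, -1, -1, 0; 0, m, -m, l; 0, -l, l, m]

theorem shape (M : Mat) (h0 : M *ᵥ e0 = e0) (h1 : (M *ᵥ e1) 1 = 1) {a b : F3}
    (h2 : a • e0 = M *ᵥ e2 - e2) (h3 : b • e0 = M *ᵥ e3 - e3) : M = mq' (par M) (M 0 1) := by
  have a0 := fun i => congrFun h0 i
  have a2 := fun i => congrFun h2 i
  have a3 := fun i => congrFun h3 i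
  simp only [Fin.forall_fin_succ, e0, e1, e2, e3, Matrix.mulVec, dotProduct, Fin.sum_univ_four,
    Pi.sub_apply, Pi.smul_apply] at a0 a2 a3 h1
  simp [eq_comm (a := (0 : F3)), sub_eq_zero] at a0 a2 a3 h1
  ext i j
  fin_cases i <;> fin_cases j <;> simp [mq', par, a0, a2.2, a3.2, h1]

theorem t3 : ∀ (p : V) (c : F3), N0 * N0 * mq' p c * (N1 * N1) * mq' p c = 1 →
    c = -(p 0 * p 2 + p 1 * p 3) := by decide +kernel
theorem par_mul (p p' : V) : par (mq p * mq p') = p + p' := by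
  ext i
  fin_cases i <;> simp [par, mq, mq', Matrix.mul_apply, Fin.sum_univ_four, add_comm]
theorem par_mq (p : V) : par (mq p) = p := by
  ext i
  fin_cases i <;> rfl
theorem N0_mv : ∀ k : V, N0 *ᵥ k = ![k 0, -k 1, -k 3, k 2] := by decide +kernel
theorem par_n : ∀ p : V, par (N0 * mq p * N1) = ![p 1, -p 0, -p 3, p 2] := by decide +kernel
theorem mq_one : ∀ p : V, mq p = 1 → p = 0 := by decide +kernel
theorem mq_x : ∀ p : V, p 0 = 0 → p 1 = 0 → ∃ a : F3, a • e0 = e1 - mq p *ᵥ e1 := by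
  decide +kernel
theorem mq_mv (p y : V) : mq p *ᵥ y = y + ![-(p 0 * p 2 + p 1 * p 3) * y 1 + p 2 * y 2 + p 3 * y 3,
    0, p 0 * y 1, p 1 * y 1] := by
  ext i
  fin_cases i <;> simp [mq, mq', Matrix.mulVec, dotProduct, Fin.sum_univ_four] <;> ring
theorem mq_fix (p k : V) (h : k 1 = 0) (h' : p 2 * k 2 + p 3 * k 3 = 0) : mq p *ᵥ k = k := by
  rw [mq_mv, add_eq_left]
  ext i
  fin_cases i <;> simp [h, h']
theorem mq_sq (p y : V) :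
    mq p *ᵥ (mq p *ᵥ y - y) - (mq p *ᵥ y - y) = ((p 0 * p 2 + p 1 * p 3) * y 1) • e0 := by
  rw [mq_mv p y, add_sub_cancel_left, mq_mv, add_sub_cancel_left]
  ext i
  fin_cases i <;> simp [e0]
  ring
theorem sm0 : ∀ (k : V) (a b : F3), b • e0 = a • k → (k 2 ≠ 0 ∨ k 3 ≠ 0) → b = 0 := by
  decide +kernel
theorem ex10 : ∀ p : V, (p 0 ≠ 0 ∨ p 1 ≠ 0) → ∃ i < 3, ∃ j < 3,
    (i • p + j • (![p 1, -p 0, -p 3, p 2] : V)) 0 = 1 ∧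
    (i • p + j • (![p 1, -p 0, -p 3, p 2] : V)) 1 = 0 := by decide +kernel
theorem exb : ∀ p : V, p 0 = 1 → p 1 = 0 → ∀ x y : F3, ∃ i < 3, ∃ j < 3,
    i • p + j • (![p 1, -p 0, -p 3, p 2] : V) = bx (p 2) (p 3) x y := by decide +kernel
theorem unq : ∀ (α β : F3) (p : V), ((p + 2 • bx α β (p 0) (p 1)) 0 = 0 ∧
    (p + 2 • bx α β (p 0) (p 1)) 1 = 0) ∧
    (p + 2 • bx α β (p 0) (p 1) = 0 → p = bx α β (p 0) (p 1)) := by decide +kernel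

theorem fin1 : ∀ α β : F3, (α ≠ 0 ∨ β ≠ 0) → ∀ k : V, (k 2 ≠ 0 ∨ k 3 ≠ 0) → Sg α β k →
    α * β = 0 := by decide +kernel

theorem fin2 : ∀ α β : F3, (α ≠ 0 ∨ β ≠ 0) → α * β = 0 → ∃ l m : F3,
    (∀ x, Rm l m *ᵥ x = 0 → x = 0) ∧ Rm l m *ᵥ wz = e0 ∧ Rm l m *ᵥ wd = e1 ∧
    N0 * Rm l m = Rm l m * mN ∧ (∀ x, (Rm l m *ᵥ x) 1 = 0 ↔ x ⬝ᵥ wz = 0) ∧
    (∀ x y, ∃ b, b ⬝ᵥ wz = 0 ∧ mq (bx α β x y) * Rm l m = Rm l m * sieg wz b) ∧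
    (∀ b, b ⬝ᵥ wz = 0 → ∃ x y, mq (bx α β x y) * Rm l m = Rm l m * sieg wz b) ∧
    (∀ x, x ⬝ᵥ wz = 0 → (((Rm l m *ᵥ x) 2 ≠ 0 ∨ (Rm l m *ᵥ x) 3 ≠ 0) → Sg α β (Rm l m *ᵥ x)) →
      x ⬝ᵥ x = 0) ∧
    (∀ k : V, k 1 = 0 → (k 2 ≠ 0 ∨ k 3 ≠ 0) → Sg α β k → ∃ i < 4, ∃ x y,
      (mq (bx α β x y) * N0 ^ i) *ᵥ k = Rm l m *ᵥ wa) := by decide +kernel

end H71.HN
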