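/- HN3L tower, slot P: coordinates on `J = 3⁴`. -/
import Cfsg.Agent.H71.HNPa
import Cfsg.Agent.H12.Linearize

set_option autoImplicit false
set_option maxRecDepth 100000

namespace H71.HN
open Cfsg Subgroup H98 H56.L3 H42.L3 H90 H21.MC H47.MC H42.MC
open H16.HN3 (Pre0 Pre wz wd wa mN sieg)
open scoped commutatorElement Matrix

universe u

variable {G : Type u} [Group G] {S J Q L : Subgroup G} {z d n g q : G} {π : Ce z →* SL5}
  {v c : V → G} {M N : Mat} {p p' k : V}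

theorem exists_crd [Finite G] (hc : J ≤ cn J) (he : ∀ a ∈ J, a ^ 3 = 1) (hn : Nat.card J = 81) :
    ∃ v, Coord v J := by
  obtain ⟨e⟩ := H12.nonempty_mulEquiv_fun (p := 3) (n := 4) (W := J)
    (fun a b => Subtype.ext (hc b.2 a a.2)) (fun a => Subtype.ext (he a a.2)) hn
  refine ⟨fun x => (e.symm (.ofAdd x) : J), fun x y => ?_, fun x y h => ?_, fun g => ⟨fun hg =>
    ⟨(e ⟨g, hg⟩).toAdd, by simp⟩, ?_⟩⟩
  · rw [ofAdd_add, map_mul, coe_mul]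
  · exact Multiplicative.ofAdd.injective (e.symm.injective (Subtype.ext h))
  · rintro ⟨x, rfl⟩
    exact Subtype.prop _

theorem acts_uniq (h : Coord v J) (hM : Acts v g M) (hN : Acts v g N) : M = N :=
  Matrix.mulVec_injective (funext fun x => h.inj (by rw [← hM, ← hN]))

theorem exists_acts (h : Coord v J) (hg : g ∈ nr J) : ∃ M, Acts v g M := by
  have h1 : ∀ x, ∃ y, v y = g * v x * g⁻¹ := fun x =>
    (h.mem _).1 ((mem_normalizer_iff.1 hg _).1 (v_mem h x))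
  choose f hf using h1
  let F : V →+ V := AddMonoidHom.mk' f fun x y => h.inj (by rw [h.add, hf, hf, hf, h.add]; group)
  refine ⟨LinearMap.toMatrix' (F.toZModLinearMap 3), fun x => ?_⟩
  rw [LinearMap.toMatrix'_mulVec]
  exact (hf x).symm

/-- coordinates in the basis `z, d, a, n a n⁻¹` -/
structure C0 (c : V → G) (J Q : Subgroup G) (z d n : G) : Prop extends Coord c J where
  hz : c e0 = z
  hd : c e1 = d
  hn : Acts c n N0
  hQ : ∀ k, c k ∈ Q ↔ k 1 = 0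

variable [Finite G] (h : Pre0 S J Q L z d n π)
include h

theorem exC0 : ∃ c, C0 c J Q z d n := by
  have b := h.bas
  obtain ⟨v, C⟩ := exists_crd h.Jc h.J3 h.J81
  obtain ⟨N, hN⟩ := exists_acts C h.nJ
  obtain ⟨z0, hz⟩ := (C.mem z).1 (b.Z_le_J h.JS h.Jc h.J81 (mem_zpowers z))
  obtain ⟨d0, hd⟩ := (C.mem d).1 h.dJ
  obtain ⟨a, ⟨aJ, aQ⟩, aZ⟩ := SetLike.not_le_iff_exists.1 fun e : J ⊓ Q ≤ zpowers z => by
    have := card_le_of_le e
    rw [(b.ab81 h.JS h.Jc h.J81).1, b.cardZ] at this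
    omega
  obtain ⟨x, rfl⟩ := (C.mem a).1 aJ
  have nz : n ∈ Ce z := (h.Lle h.nL).1
  have nQ : ∀ y, v y ∈ Q → v (N *ᵥ y) ∈ Q := fun y hy =>
    hN y ▸ conj_mem_of_mem_normalizer (b.nQ (b.LN nz)) hy
  have sm : ∀ (a : F3) y, v y ∈ Q → v (a • y) ∈ Q := fun a y hy => v_smul C a y ▸ pow_mem hy _
  have Nz0 : N *ᵥ z0 = z0 := C.inj (by rw [← hN, hz, mem_Ce.1 nz, mul_inv_cancel_right])
  have Nd : N *ᵥ d0 = -d0 := C.inj (by rw [← hN, v_neg C, hd, h.nd])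
  have N4 : N * (N * (N * N)) = 1 := acts_uniq C (acts_mul hN (acts_mul hN (acts_mul hN hN)))
    (by rw [← mul_assoc, h.ss]; exact acts_one)
  obtain ⟨a0, a0Q, Na, a00⟩ : ∃ a0, v a0 ∈ Q ∧ N *ᵥ N *ᵥ a0 = -a0 ∧ a0 ≠ 0 := by
    refine ⟨x - N *ᵥ N *ᵥ x, v_sub C _ _ ▸ mul_mem aQ (inv_mem (nQ _ (nQ _ aQ))), ?_,
      fun e => aZ ?_⟩
    · simp only [Matrix.mulVec_sub, Matrix.mulVec_mulVec, N4, Matrix.one_mulVec, neg_sub]
    · have := h.sinv _ aQ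
      rw [acts_mul hN hN x, ← Matrix.mulVec_mulVec, ← sub_eq_zero.1 e] at this
      rw [← inv_mem_iff, inv_eq_of_mul_eq_one_left ((pow_three' _).symm.trans (v_cube C x))]
      exact this
  have z00 : z0 ≠ 0 := fun e => by
    have := b.ord
    rw [← hz, e, v_zero C, orderOf_one] at this
    omega
  obtain ⟨f, hf⟩ : ∃ f : V → V, ∀ k, f k = k 0 • z0 + k 1 • d0 + k 2 • a0 + k 3 • N *ᵥ a0 :=
    ⟨_, fun _ => rfl⟩
  have fa : ∀ k k', f (k + k') = f k + f k' := fun k k' => by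
    simp only [hf, Pi.add_apply]; module
  have fN : ∀ k, N *ᵥ f k = f (N0 *ᵥ k) := fun k => by
    simp only [hf, N0_mv, Matrix.mulVec_add, Matrix.mulVec_smul, Nz0, Nd, Na]
    simp only [Matrix.cons_val]
    module
  have fQ : ∀ k, v (f k) ∈ Q ↔ k 1 = 0 := fun k => by
    rw [hf, C.add, C.add, C.add, mul_mem_cancel_right (sm _ _ (nQ _ a0Q)),
      mul_mem_cancel_right (sm _ _ a0Q), mul_mem_cancel_left (sm _ _ (hz ▸ b.zQ))]
    refine ⟨fun e => by_contra fun e' => h.dQ ?_, fun e => by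
      rw [e, zero_smul, v_zero C]; exact one_mem _⟩
    have := sm (k 1)⁻¹ _ e
    rwa [inv_smul_smul₀ e', hd] at this
  have f0 : ∀ k, f k = 0 → k = 0 := fun k e => by
    have k1 := (fQ k).1 (by rw [e, v_zero C]; exact one_mem _)
    rw [hf, k1] at e
    have e1 := congrArg (N *ᵥ ·) e
    simp only [Matrix.mulVec_add, Matrix.mulVec_smul, Nz0, Nd, Na, Matrix.mulVec_zero] at e1
    have e2 := congrArg (N *ᵥ ·) e1
    simp only [Matrix.mulVec_add, Matrix.mulVec_smul, Matrix.mulVec_neg, Nz0, Nd, Na,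
      Matrix.mulVec_zero] at e2
    have k0 : (k 0 + k 0) • z0 = 0 := by linear_combination (norm := module) e + e2
    replace k0 : k 0 = 0 := (by decide : ∀ a : F3, a + a = 0 → a = 0) _
      ((smul_eq_zero.1 k0).resolve_right z00)
    rw [k0] at e e1
    have k2 : (k 2 * k 2 + k 3 * k 3) • a0 = 0 := by
      linear_combination (norm := module) k 2 • e - k 3 • e1
    exact (by decide +kernel : ∀ k : V, k 0 = 0 → k 1 = 0 → k 2 * k 2 + k 3 * k 3 = 0 → k = 0) k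
      k0 k1 ((smul_eq_zero.1 k2).resolve_right a00)
  have fi : Function.Injective f := fun k k' e => sub_eq_zero.1 (f0 _ (add_right_cancel
    (b := f k') (by rw [← fa, sub_add_cancel, zero_add, e])))
  refine ⟨fun k => v (f k), ⟨fun k k' => by rw [fa, C.add], C.inj.comp fi, fun g => ?_⟩, ?_, ?_,
    fun k => by rw [hN, fN], fQ⟩
  · rw [C.mem]
    exact (Finite.injective_iff_surjective.1 fi).exists
  · simp [hf, e0, hz]
  · simp [hf, e1, hd]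

omit h [Finite G] in
/-- `p` describes the action of an element of `Q` -/
def Rl (c : V → G) (Q : Subgroup G) (p : V) : Prop := ∃ q ∈ Q, Acts c q (mq p)

theorem QJ : Q ≤ nr J := h.bas.QS.trans (le_normalizer.trans (h.bas.nS_le h.JS h.Jc h.J81))

variable (C : C0 c J Q z d n)
include C

theorem canon (hq : q ∈ Q) : ∃ p, Acts c q (mq p) := by
  have b := h.bas
  have D := C.toCoord
  obtain ⟨M, hM⟩ := exists_acts D (QJ h hq)
  have zq : ∀ k : V, k 1 = 0 → ∃ a : F3, a • e0 = M *ᵥ k - k := fun k hk => by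
    obtain ⟨a, e⟩ := (mem_zp_v D (x := e0)).1 (C.hz ▸ b.cm q hq _ ((C.hQ k).2 hk))
    exact ⟨a, C.inj (by rw [e, v_sub D, hM])⟩
  obtain ⟨a2, h2⟩ := zq e2 rfl
  obtain ⟨a3, h3⟩ := zq e3 rfl
  have h0 : M *ᵥ e0 = e0 := (acts_mem_Ce D hM).1 (C.hz ▸ b.Lz (b.QL hq))
  have h1 : (M *ᵥ e1 - e1) 1 = 0 := (C.hQ _).1 (by
    rw [v_sub D, ← hM, C.hd]
    simpa [mul_assoc] using mul_mem hq
      (conj_mem_of_mem_normalizer (b.nQ (b.LN (b.SL (h.JS h.dJ)))) (inv_mem hq)))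
  obtain ⟨p, c0, rfl⟩ : ∃ p c0, M = mq' p c0 := ⟨_, _, shape M h0 (sub_eq_zero.1 h1) h2 h3⟩
  have n1 : Acts c n⁻¹ N1 := acts_inv C.hn (by decide)
  obtain rfl := t3 _ _ (acts_uniq D (acts_mul (acts_mul (acts_mul (acts_mul C.hn C.hn) hM)
    (acts_mul n1 n1)) hM) (acts_J D (b.Z_le_J h.JS h.Jc h.J81 (mul_inv_rev n n ▸ h.sinv q hq))))
  exact ⟨p, hM⟩

theorem rl_of (hq : q ∈ Q) (hM : Acts c q M) : Rl c Q (par M) := by
  obtain ⟨p, hp⟩ := canon h C hq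
  rw [acts_uniq C.toCoord hM hp, par_mq]
  exact ⟨q, hq, hp⟩

theorem rl_add (h1 : Rl c Q p) (h2 : Rl c Q p') : Rl c Q (p + p') := by
  obtain ⟨q, hq, a⟩ := h1
  obtain ⟨q', hq', a'⟩ := h2
  exact par_mul p p' ▸ rl_of h C (mul_mem hq hq') (acts_mul a a')

theorem rl_nsmul (h1 : Rl c Q p) : ∀ i : ℕ, Rl c Q (i • p)
  | 0 => by
    rw [zero_nsmul, ← (by decide : par 1 = 0)]
    exact rl_of h C (one_mem _) acts_one
  | i + 1 => succ_nsmul p i ▸ rl_add h C (rl_nsmul h1 i) h1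

theorem rl_n (h1 : Rl c Q p) : Rl c Q ![p 1, -p 0, -p 3, p 2] := by
  obtain ⟨q, hq, a⟩ := h1
  exact par_n p ▸ rl_of h C
    (conj_mem_of_mem_normalizer (h.bas.nQ (h.bas.LN (h.Lle h.nL).1)) hq)
    (acts_mul (acts_mul C.hn a) (acts_inv C.hn (by decide)))

omit [Finite G] in
theorem x_J (hq : q ∈ Q) (a : Acts c q (mq p)) (h0 : p 0 = 0) (h1 : p 1 = 0) : q ∈ J := by
  obtain ⟨i, e⟩ := mq_x p h0 h1
  refine (h.fx q hq).1 (C.hz ▸ (mem_zp_v C.toCoord).2 ⟨i, ?_⟩)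
  rw [e, v_sub C.toCoord, ← a, C.hd]
  group

omit [Finite G] in
theorem rl_x (h1 : Rl c Q p) (h0 : p 0 = 0 ∧ p 1 = 0) : p = 0 := by
  obtain ⟨q, hq, a⟩ := h1
  exact mq_one p (acts_uniq C.toCoord a (acts_J C.toCoord (x_J h C hq a h0.1 h0.2)))

theorem rl_w (h1 : Rl c Q p) (h2 : p 2 = 0) (h3 : p 3 = 0) : p = 0 := by
  obtain ⟨q, hq, a⟩ := h1
  refine mq_one p (acts_uniq C.toCoord a (acts_J C.toCoord
    ((h.bas.ab81 h.JS h.Jc h.J81).2.2.2.1 ⟨hq, fun j hj => ?_⟩)))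
  obtain ⟨k, rfl⟩ := (C.mem j).1 hj.1
  exact (mem_Ce.1 ((acts_mem_Ce C.toCoord a).2 (mq_fix p k ((C.hQ k).1 hj.2)
    (by rw [h2, h3, zero_mul, zero_mul, add_zero])))).symm

theorem exB : ∃ α β : F3, (α ≠ 0 ∨ β ≠ 0) ∧ (∀ x y, Rl c Q (bx α β x y)) ∧
    ∀ q ∈ Q, ∃ x y, Acts c q (mq (bx α β x y)) := by
  obtain ⟨q, hq, hq'⟩ := SetLike.not_le_iff_exists.1 fun e : Q ≤ J => by
    have := card_le_of_le e
    rw [h.J81, h.bas.cardQ] at this
    omega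
  obtain ⟨p, a⟩ := canon h C hq
  have ij : ∀ {p : V}, Rl c Q p → ∀ i j : ℕ, Rl c Q (i • p + j • ![p 1, -p 0, -p 3, p 2]) :=
    fun r i j => rl_add h C (rl_nsmul h C r i) (rl_nsmul h C (rl_n h C r) j)
  obtain ⟨i, -, j, -, p0, p1⟩ := ex10 p (by
    by_contra! e
    exact hq' (x_J h C hq a e.1 e.2))
  have r := ij ⟨q, hq, a⟩ i j
  generalize i • p + j • ![p 1, -p 0, -p 3, p 2] = p' at p0 p1 r
  have all : ∀ x y, Rl c Q (bx (p' 2) (p' 3) x y) := fun x y => by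
    obtain ⟨i, -, j, -, e⟩ := exb p' p0 p1 x y
    exact e ▸ ij r i j
  refine ⟨p' 2, p' 3, ?_, all, fun q hq => ?_⟩
  · by_contra! e
    rw [rl_w h C r e.1 e.2] at p0
    exact absurd p0 (by decide)
  · obtain ⟨p, a⟩ := canon h C hq
    obtain ⟨u1, u2⟩ := unq (p' 2) (p' 3) p
    exact ⟨_, _, u2 (rl_x h C (rl_add h C ⟨q, hq, a⟩ (rl_nsmul h C (all _ _) 2)) u1) ▸ a⟩

theorem star {α β : F3} (all : ∀ x y, Rl c Q (bx α β x y)) (hk : IsConj z (c k)) (k1 : k 1 = 0)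
    (k2 : k 2 ≠ 0 ∨ k 3 ≠ 0) : Sg α β k := fun x y e => by
  have b := h.bas
  have D := C.toCoord
  obtain ⟨g0, hg0⟩ := isConj_iff.1 hk
  obtain ⟨g, hg, f1⟩ := wc2 D (b.wc h.JS h.Jc h.J81) (b.Z_le_J h.JS h.Jc h.J81) (g := g0)
    (by rw [cj_zpowers, hg0, zpowers_le]; exact v_mem D k)
  have e2 : g * z * g⁻¹ = c k := by
    calc _ = g * (z * (g⁻¹ * g0)) * g0⁻¹ := by group
      _ = _ := by rw [f1 z (mem_zpowers z), ← hg0]; group
  obtain ⟨q, hq, a⟩ := all x y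
  have qk := mem_Ce.1 ((acts_mem_Ce D a).2 (mq_fix _ k k1 e))
  have qz : g⁻¹ * q * g ∈ Ce z := mem_Ce.2 (by
    calc _ = g⁻¹ * (q * (g * z * g⁻¹)) * g := by group
      _ = _ := by rw [e2, qk, ← e2]; group)
  have qS : g⁻¹ * q * g ∈ S := zpowers_le.1 (b.syl.le_of_le_normalizer'
    (isPGroup_zpowers (k := 1) (by
      calc _ = g⁻¹ * q ^ 3 * g := by rw [pow_one, pow_three', pow_three']; group
        _ = 1 := by rw [b.expQ q hq]; group)) le_top (zpowers_le.2 (by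
      rw [b.S_eq h.JS h.Jc h.J81]
      exact normalizer_inf_normalizer_le_normalizer_sup _ _ ⟨b.nQ (b.LN qz),
        (nr J).mul_mem (mul_mem (inv_mem hg) (QJ h hq)) hg⟩)))
  rw [b.S_eq h.JS h.Jc h.J81] at qS
  obtain ⟨q1, hq1, j, hj, e3⟩ :=
    (mem_sup_right_norm (h.JS.trans (b.SL.trans (b.LN.trans b.nQ)))).1 qS
  obtain ⟨p1, a1⟩ := canon h C hq1
  obtain ⟨Γ, aΓ⟩ := exists_acts D hg
  have e4 : mq (bx α β x y) * Γ = Γ * (mq p1 * 1) := acts_uniq D (acts_mul a aΓ) (by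
    have := acts_mul aΓ (acts_mul a1 (acts_J D hj))
    rwa [← e3, ← mul_assoc, ← mul_assoc, mul_inv_cancel, one_mul] at this)
  have e5 : ∀ u, mq (bx α β x y) *ᵥ Γ *ᵥ u - Γ *ᵥ u = Γ *ᵥ (mq p1 *ᵥ u - u) := fun u => by
    rw [Matrix.mulVec_mulVec, e4, mul_one, Matrix.mulVec_sub, Matrix.mulVec_mulVec]
  obtain ⟨u, hu⟩ := (C.mem _).1 (conj_mem_of_mem_normalizer (inv_mem hg) h.dJ)
  have e6 : Γ *ᵥ u = e1 := C.inj (by rw [← aΓ, hu, C.hd]; group)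
  have e7 : Γ *ᵥ e0 = k := C.inj (by rw [← aΓ, C.hz, e2])
  have e8 := mq_sq (bx α β x y) (Γ *ᵥ u)
  rw [e5, e5, mq_sq, Matrix.mulVec_smul, e7, e6] at e8
  simpa [bx, e1] using sm0 k _ _ e8.symm k2

omit C h in
theorem jobP : H16.HN3.JobP.{u} := by
  intro G _ _ S J Q L z d n π h
  have b := h.bas
  obtain ⟨c, C⟩ := exC0 h
  have D := C.toCoord
  obtain ⟨α, β, ab, all, all'⟩ := exB h C
  obtain ⟨k, k1, k2, hk⟩ : ∃ k : V, k 1 = 0 ∧ (k 2 ≠ 0 ∨ k 3 ≠ 0) ∧ IsConj z (c k) := by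
    obtain ⟨g, g1, g2⟩ := h.nwc
    obtain ⟨l, hl, e⟩ := b.qconj h.JS h.Jc h.J81 g1
    obtain ⟨k, hk⟩ := (C.mem _).1 e
    have k1 := (C.hQ k).1 (hk ▸ conj_mem_of_mem_normalizer (b.nQ (b.LN hl)) g1)
    refine ⟨k, k1, ?_, isConj_iff.2 ⟨l * g, by rw [hk]; group⟩⟩
    by_contra! e'
    refine g2 ((mem_normalizer_iff.1 (b.LN hl) _).2 ?_)
    rw [← hk, ← C.hz]
    exact (mem_zp_v D).2 ⟨k 0, congrArg c ((by decide +kernel :
      ∀ k : V, k 1 = 0 → k 2 = 0 → k 3 = 0 → k 0 • e0 = k) k k1 e'.1 e'.2)⟩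
  have sk := star h C all hk k1 k2
  obtain ⟨l, m, r0, r1, r2, r3, r4, r5, r6, r7, r8⟩ := fin2 α β ab (fin1 α β ab k k2 sk)
  generalize Rm l m = R at r0 r1 r2 r3 r4 r5 r6 r7 r8
  have ri : Function.Injective (R *ᵥ ·) := fun x y e =>
    sub_eq_zero.1 (r0 _ (by rw [Matrix.mulVec_sub, sub_eq_zero]; exact e))
  have tr : ∀ {g : G} {M N : Mat}, Acts c g M → M * R = R * N → Acts (fun x => c (R *ᵥ x)) g N :=
    fun a e x => by rw [a, Matrix.mulVec_mulVec, e, ← Matrix.mulVec_mulVec]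
  have hz : z = (fun x => c (R *ᵥ x)) wz := by rw [← C.hz, ← r1]
  have hd : d = (fun x => c (R *ᵥ x)) wd := by rw [← C.hd, ← r2]
  have ex : IsConj z (c (R *ᵥ wa)) := by
    obtain ⟨i, -, x, y, e⟩ := r8 k k1 k2 sk
    obtain ⟨q, -, a⟩ := all x y
    exact hk.trans (isConj_iff.2 ⟨_, e ▸ acts_mul a (acts_pow C.hn i) k⟩)
  have sg : ∀ x, x ⬝ᵥ wz = 0 → IsConj z (c (R *ᵥ x)) → x ⬝ᵥ x = 0 := fun x hx e =>
    r7 x hx (star h C all e ((r4 x).2 hx))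
  clear hk sk b
  have hn := C.hn
  have hQ := C.hQ
  clear C
  subst hz hd
  refine ⟨fun x => c (R *ᵥ x), n, π, h, ⟨fun x y => by rw [Matrix.mulVec_add, D.add],
    D.inj.comp ri, fun g => ?_⟩, tr hn r3, fun x => (hQ _).trans (r4 x), fun q hq => ?_,
    fun b hb => ?_, sg, ex⟩
  · rw [D.mem]
    exact (Finite.injective_iff_surjective.1 ri).exists
  · obtain ⟨x, y, a⟩ := all' q hq
    obtain ⟨b, hb, e⟩ := r5 x y
    exact ⟨b, hb, tr a e⟩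
  · obtain ⟨x, y, e⟩ := r6 b hb
    obtain ⟨q, hq, a⟩ := all x y
    exact ⟨q, hq, tr a e⟩

end H71.HN
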