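/- HN3L tower, slot P0: the structure of `C(z) = 3¹⁺⁴ SL₂(5)`. -/
import Cfsg.Agent.H16.HN3Spec

set_option autoImplicit false
set_option maxRecDepth 100000
set_option synthInstance.maxSize 4096

namespace H71.HN
open Cfsg Subgroup H98 H56.L3 H42.L3 H90 H21.MC H47.MC
open scoped commutatorElement

universe u

attribute [local instance 2000] List.decidableBAll List.decidableBEx

theorem sl_cen : ∀ x : SL5, (∀ y, y * x = x * y) → x * x = 1 := by decide +kernel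

theorem sl_nor : ∀ x : SL5, x ^ 3 = 1 → x ≠ 1 → ∀ y, y * y = -1 → y * x = x * x * y →
    ∀ w, (∃ i < 3, w * x = x ^ i * w) → ∃ a < 3, ∃ b < 4, w = x ^ a * y ^ b := by decide +kernel

theorem three_step {W : Type*} [CommGroup W] [Finite W] (δ : W →* W) (h3 : ∀ w, δ (δ (δ w)) = w)
    (e : ∀ w : W, w ^ 3 = 1) :
    (∀ w, (δ / MonoidHom.id W) ((δ / MonoidHom.id W) ((δ / MonoidHom.id W) w)) = 1) ∧
      Nat.card W ≤ Nat.card (δ / MonoidHom.id W).ker ^ 3 := by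
  have h : ∀ w, (δ / MonoidHom.id W) ((δ / MonoidHom.id W) ((δ / MonoidHom.id W) w)) = 1 := by
    intro w
    simp only [MonoidHom.div_apply, MonoidHom.id_apply, map_div, h3]
    rw [← div_self' (1 : W)]
    nth_rw 1 [← e (δ w), ← e (δ (δ w))]
    apply Additive.ofMul.injective
    simp only [ofMul_div, ofMul_pow]
    abel
  refine ⟨h, ?_⟩
  generalize δ / MonoidHom.id W = φ at h
  have key : ∀ U : Subgroup W, Nat.card U ≤ Nat.card φ.ker * Nat.card (U.map φ) := fun U => by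
    rw [← (φ.comp U.subtype).ker.card_mul_index, index_ker, MonoidHom.range_comp, range_subtype]
    refine Nat.mul_le_mul_right _ (Nat.card_le_card_of_injective
      (fun x => (⟨x.1.1, x.2⟩ : φ.ker)) fun a b e => ?_)
    exact Subtype.ext (Subtype.ext (congrArg (fun x : φ.ker => x.1) e))
  have a1 := key ⊤
  have a2 := key (map φ ⊤)
  have a3 : Nat.card (map φ (map φ ⊤)) ≤ Nat.card φ.ker := card_le_of_le (by
    rintro _ ⟨_, ⟨w, -, rfl⟩, rfl⟩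
    exact h w)
  rw [card_top] at a1
  calc _ ≤ _ := a1
    _ ≤ _ := Nat.mul_le_mul_left _ (a2.trans (Nat.mul_le_mul_left _ a3))
    _ = _ := by ring

variable {G : Type u} [Group G] [Finite G]

theorem bas0 (S : Sylow 3 G) (Z : Subgroup G)
    (hZ : Z = (S : Subgroup G) ⊓ centralizer ((S : Subgroup G) : Set G))
    (C : Subgroup G) (hC : C = centralizer (Z : Set G))
    (Q : Subgroup G) (hQ : Q = (pCore 3 C).map C.subtype)
    (ex : IsExtraspecial 3 Q) (cardQ : Nat.card Q = 3 ^ 5) (expQ : ∀ a ∈ Q, a ^ 3 = 1)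
    (cQ : centralizer (Q : Set G) ≤ Q) (e : C ⧸ pCore 3 C ≃* SL5) :
    ∃ z π, Z = zpowers z ∧ Bas S Q (Ce z) z π := by
  have hS := isSyl_sylow S
  have SZ : (S : Subgroup G) ≤ cn Z := le_centralizer_iff.1 (hZ.le.trans inf_le_right)
  replace hQ : Q = pCoreOf 3 C := hQ
  have QS : Q ≤ S := hQ ▸ (hS.of_le (hC ▸ SZ) le_top).pCoreOf_le
  have ZQ : Z ≤ (center Q).map Q.subtype := fun x hx => by
    have := le_centralizer_iff.1 (QS.trans SZ) hx
    exact ⟨⟨x, cQ this⟩, mem_center_iff.2 fun g => Subtype.ext (this g g.2), rfl⟩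
  have c3 : Nat.card ((center Q).map Q.subtype) = 3 := by
    rw [card_map_of_injective Q.subtype_injective, ex.2]
  obtain ⟨z, hz, z1⟩ : ∃ z ∈ Z, z ≠ 1 := by
    have : Nontrivial (S : Subgroup G) := (nontrivial_iff_ne_bot _).2 fun e => by
      have := card_le_of_le (QS.trans e.le)
      rw [cardQ, card_bot] at this
      omega
    have := S.isPGroup'.center_nontrivial
    obtain ⟨⟨w, hw⟩, h5⟩ := exists_ne (1 : center (S : Subgroup G))
    exact ⟨w, hZ.ge ⟨w.2, fun g hg => congrArg Subtype.val (mem_center_iff.1 hw ⟨g, hg⟩)⟩,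
      fun e => h5 (Subtype.ext (Subtype.ext e))⟩
  have zQ := map_subtype_le _ (ZQ hz)
  have ho : orderOf z = 3 := orderOf_eq_prime (expQ z zQ) z1
  have e1 := eq_of_le_of_card_ge ((zpowers_le.2 hz).trans ZQ) (by rw [c3, Nat.card_zpowers, ho])
  obtain rfl : Z = zpowers z := le_antisymm (ZQ.trans e1.ge) (zpowers_le.2 hz)
  have cz : cn (zpowers z) = Ce z := by rw [cn, zpowers_eq_closure, centralizer_closure]
  obtain rfl : C = Ce z := hC.trans cz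
  have nL : Nz z ≤ nr (Ce z) := cz ▸ normalizer_le_normalizer_centralizer _
  refine ⟨z, e.toMonoidHom.comp (QuotientGroup.mk' _), rfl, ho, zQ,
    fun a ha b hb => e1.ge ⟨⁅(⟨a, ha⟩ : Q), ⟨b, hb⟩⁆, ex.1.2.2.le
      (commutator_mem_commutator (mem_top _) (mem_top _)), rfl⟩, le_rfl, cQ, cardQ, expQ,
    fun A h3 h4 => ?_, QS, cz ▸ SZ, hS, hQ ▸ le_normalizer_pCoreOf nL, nL, ?_, fun g hg k hk => ?_,
    e.surjective.comp (QuotientGroup.mk'_surjective _), fun g => ?_⟩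
  · obtain ⟨m, c, -, h5, -, h6⟩ := H27.exists_cform_of_isExtraspecial ex
    obtain rfl : m = 2 := by
      have := Nat.pow_right_injective (by decide : 2 ≤ 3) (cardQ.symm.trans h5)
      omega
    rw [← Nat.card_congr (subgroupOfEquivOfLe h3).toEquiv]
    exact H9.cform_card_le_of_isMulCommutative c h6 (m := 2) (Module.finrank_fin_fun _)
      (le_centralizer_iff_isMulCommutative.1 fun a ha b hb => Subtype.ext (h4 ha b hb))
  · show _ ≤ nr (zpowers z)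
    rw [hZ]
    exact le_normalizer_inf le_rfl (normalizer_le_normalizer_centralizer _)
  · obtain ⟨m, hm⟩ := exists_pow_eq_self_of_coprime (x := g) (n := 2)
      (Nat.Coprime.coprime_dvd_right (orderOf_dvd_of_pow_eq_one hk)
        (Nat.Coprime.pow_right k (by decide)))
    refine hm ▸ pow_mem (mem_Ce'.2 ?_) m
    have e : g ^ 2 * z * (g ^ 2)⁻¹ = g * (g * z * g⁻¹) * g⁻¹ := by rw [pow_two]; group
    rcases H52.L3.mem_zp3 (expQ z zQ) (mem_Nz.1 hg) with e' | e' | e'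
    · exact absurd (conj_eq_one_iff.1 e') z1
    · rw [e, e', e']
    · rw [e, e', ← conj_inv, e', inv_inv]
  · rw [hQ, ← mem_subgroupOf, pCoreOf_subgroupOf, ← QuotientGroup.eq_one_iff]
    exact e.map_eq_one_iff

section
variable {S Q L : Subgroup G} {z d : G} {π : L →* SL5} (h : Bas S Q L z π)
include h

theorem cubeQ (hd : d ∈ S) : d ^ 3 ∈ Q :=
  (h.ker (⟨d, h.SL hd⟩ ^ 3)).1 (by rw [map_pow]; exact h.π_cube hd)

theorem sinv {s : L} (s2 : (s : G) ^ 2 = 1) (s1 : π s = -1) :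
    ∀ q ∈ Q, s * q * (s : G)⁻¹ * q ∈ zpowers z := fun q hq => by
  have b1 := conj_mem_of_mem_normalizer (h.nQ (h.LN s.2)) hq
  refine h.inf_Ce s1 ⟨mul_mem b1 hq,
    mem_Ce.2 (h.comm_St (h.Lz s.2) ⟨h.LN s.2, ?_⟩ s2 (by decide)).symm⟩
  convert h.cm q hq _ b1 using 1
  calc _ = (s : G) * s * q * ((s : G) * s)⁻¹ * (s * q * (s : G)⁻¹) * q⁻¹ *
        (s * q * (s : G)⁻¹)⁻¹ := by group
    _ = _ := by rw [← pow_two, s2]; group

theorem snor {s : L} (s1 : π s = -1) : (s : G) ∈ nr S := mem_normalizer_of_cj_le (by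
  rintro _ ⟨x, hx, rfl⟩
  have : (s : G) * x * (s : G)⁻¹ * x⁻¹ ∈ Q :=
    (h.ker (s * ⟨x, h.SL hx⟩ * s⁻¹ * (⟨x, h.SL hx⟩ : L)⁻¹)).1 (by simp [s1])
  simpa using mul_mem (h.QS this) hx)

theorem fx27 (hd : d ∈ S) (h1 : d ∉ Q) (h3 : d ^ 3 ∈ zpowers z) :
    Nat.card (Fx Q (zpowers z) d) = 27 ∧
      ∃ q ∈ Q, ⁅d, q⁆ ∈ Fx Q (zpowers z) d ∧ ⁅d, q⁆ ∉ zpowers z := by
  have dQ := h.nQ (h.LN (h.SL hd))
  have fQ : ∀ q ∈ Q, ⁅d, q⁆ ∈ Q := fun q hq =>
    mul_mem (conj_mem_of_mem_normalizer dQ hq) (inv_mem hq)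
  let N := (zpowers z).subgroupOf Q
  have : N.Normal := ⟨fun a ha g =>
    mem_subgroupOf.2 (conj_mem_of_mem_normalizer (h.LN (h.QL g.2)) (mem_subgroupOf.1 ha))⟩
  let _ : CommGroup (Q ⧸ N) := { (inferInstance : Group (Q ⧸ N)) with
    mul_comm := fun a b => by
      obtain ⟨a, rfl⟩ := QuotientGroup.mk_surjective a
      obtain ⟨b, rfl⟩ := QuotientGroup.mk_surjective b
      exact commutatorElement_eq_one_iff_mul_comm.1
        ((QuotientGroup.eq_one_iff _).2 (h.cm a a.2 b b.2)) }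
  let γ : Q →* Q := ((MulAut.conj d).toMonoidHom.comp Q.subtype).codRestrict Q
    fun q => conj_mem_of_mem_normalizer dQ q.2
  let δ : Q ⧸ N →* Q ⧸ N := QuotientGroup.map N N γ
    fun a ha => mem_comap.2 (mem_subgroupOf.2
      (conj_mem_of_mem_normalizer (h.LN (h.SL hd)) (mem_subgroupOf.1 ha)))
  obtain ⟨a1, a2⟩ := three_step δ (fun w => by
      obtain ⟨q, rfl⟩ := QuotientGroup.mk_surjective w
      refine congrArg QuotientGroup.mk (Subtype.ext ?_)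
      change d * (d * (d * q * d⁻¹) * d⁻¹) * d⁻¹ = q
      rw [show d * (d * (d * q * d⁻¹) * d⁻¹) * d⁻¹ = d ^ 3 * q * (d ^ 3)⁻¹ by
          rw [pow_three']; group,
        ← h.comm_Z (h.Lz (h.QL q.2)) h3, mul_inv_cancel_right])
    (fun w => by
      obtain ⟨q, rfl⟩ := QuotientGroup.mk_surjective w
      exact congrArg QuotientGroup.mk (Subtype.ext (h.expQ q q.2) : q ^ 3 = 1))
  have hφ : ∀ q : Q, (δ / MonoidHom.id (Q ⧸ N) : Q ⧸ N →* Q ⧸ N) (q : Q ⧸ N) =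
      ((⟨⁅d, q⁆, fQ q q.2⟩ : Q) : Q ⧸ N) :=
    fun q => by rw [MonoidHom.div_apply, div_eq_mul_inv]; rfl
  generalize δ / MonoidHom.id _ = φ at a1 a2 hφ
  have hF : Fx Q (zpowers z) d ≤ Q := fun _ hq => hq.1.1
  have e1 : (Fx Q (zpowers z) d).subgroupOf Q = φ.ker.comap (QuotientGroup.mk' N) := by
    ext q
    rw [mem_subgroupOf, h.mem_Fx, mem_comap, MonoidHom.mem_ker, QuotientGroup.mk'_apply, hφ,
      QuotientGroup.eq_one_iff]
    exact and_iff_right q.2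
  have b1 := H46.card_mul_relIndex hF
  have b2 := φ.ker.card_mul_index
  have b3 := H46.card_mul_relIndex h.ZQ
  have b4 := h.card_Fx hd h1
  rw [relIndex, e1, index_comap_of_surjective _ (QuotientGroup.mk'_surjective N), h.cardQ] at b1
  rw [h.cardZ, h.cardQ] at b3
  have b5 : Nat.card (Q ⧸ N) = 81 := by
    change (zpowers z).relIndex Q = 81
    omega
  rw [b5] at a2 b2
  have b6 : 5 ≤ Nat.card φ.ker := by
    by_contra! e
    have := Nat.pow_le_pow_left (Nat.le_of_lt_succ e) 3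
    omega
  have b7 : Nat.card (Fx Q (zpowers z) d) = 27 := by
    obtain ⟨k, hk, e⟩ := (Nat.dvd_prime_pow Nat.prime_three).1
      (show Nat.card (Fx Q (zpowers z) d) ∣ 3 ^ 5 from Dvd.intro _ b1)
    have : φ.ker.index ≤ 16 := by nlinarith
    rw [e] at b1 b4 ⊢
    interval_cases k <;> omega
  refine ⟨b7, ?_⟩
  obtain ⟨q, hq, hq'⟩ := SetLike.not_le_iff_exists.1 fun e : Q ≤ Fx Q (zpowers z) d => by
    have := card_le_of_le e
    rw [h.cardQ] at this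
    omega
  have c1 : ⁅d, q⁆ ∉ zpowers z := fun e => hq' (h.mem_Fx.2 ⟨hq, e⟩)
  by_cases c2 : ⁅d, ⁅d, q⁆⁆ ∈ zpowers z
  · exact ⟨q, hq, h.mem_Fx.2 ⟨fQ q hq, c2⟩, c1⟩
  · refine ⟨_, fQ q hq, h.mem_Fx.2 ⟨fQ _ (fQ q hq), ?_⟩, c2⟩
    have := a1 (⟨q, hq⟩ : Q)
    rw [hφ, hφ, hφ, QuotientGroup.eq_one_iff] at this
    exact this

theorem fx_ab (hd : d ∈ S) (h1 : d ∉ Q) (h3 : d ^ 3 ∈ zpowers z) :
    Fx Q (zpowers z) d ≤ cn (Fx Q (zpowers z) d) := by
  obtain ⟨b1, q, hq, c1, c2⟩ := fx27 h hd h1 h3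
  set A := Fx Q (zpowers z) d with hA
  have AQ : A ≤ Q := fun _ hq => hq.1.1
  have ZA : zpowers z ≤ A := h.Z_le_Fx (h.SL hd)
  have c3 : ⁅d, q⁆ ∈ cn A := fun a ha => by
    have t1 := h.cm q hq a (AQ ha)
    have t2 : d⁻¹ * a * d * a⁻¹ ∈ zpowers z := by
      simpa using ((St (zpowers z) a).inv_mem ⟨h.LN (h.SL hd), ha.2⟩).2
    have e1 := h.comm_Z (h.Lz (h.SL hd)) t1
    have e2 := h.comm_Z (h.Lz (h.QL hq)) t2
    have e3 := h.comm_Z (h.Lz (h.QL hq)) t1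
    have e4 := h.comm_Z (h.Lz (h.SL hd)) t2
    have e5 := h.comm_Z (h.Lz (h.QL (h.ZQ t1))) t2
    have f1 : q * a * q⁻¹ = (q * a * q⁻¹ * a⁻¹) * a := by group
    have f2 : d⁻¹ * a * d = (d⁻¹ * a * d * a⁻¹) * a := by group
    generalize q * a * q⁻¹ * a⁻¹ = t at *
    generalize d⁻¹ * a * d * a⁻¹ = t' at *
    have f3 : q⁻¹ * a * q = t⁻¹ * a := by
      calc _ = q⁻¹ * t⁻¹ * (t * a) * q := by group
        _ = q⁻¹ * t⁻¹ * q * a := by rw [← f1]; group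
        _ = _ := by rw [mul_assoc q⁻¹, ← (show Commute q t from e3).inv_right.eq]; group
    have f4 : ⁅d, q⁆⁻¹ * a * ⁅d, q⁆ = a := by
      calc _ = q * d * (q⁻¹ * (d⁻¹ * a * d) * q) * d⁻¹ * q⁻¹ := by group
        _ = q * d * (q⁻¹ * t' * q * (q⁻¹ * a * q)) * d⁻¹ * q⁻¹ := by rw [f2]; group
        _ = q * d * (t⁻¹ * (t' * a)) * d⁻¹ * q⁻¹ := by
          rw [f3, mul_assoc q⁻¹, ← e2, inv_mul_cancel_left, ← mul_assoc t',
            ← (show Commute t t' from e5).inv_left.eq, mul_assoc t⁻¹]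
        _ = q * (d * t⁻¹ * d⁻¹) * a * q⁻¹ := by rw [← f2]; group
        _ = (q * t⁻¹ * q⁻¹) * (q * a * q⁻¹) := by
          rw [(show Commute d t from e1).inv_right.eq]; group
        _ = a := by rw [f1, (show Commute q t from e3).inv_right.eq]; group
    calc a * ⁅d, q⁆ = ⁅d, q⁆ * (⁅d, q⁆⁻¹ * a * ⁅d, q⁆) := by group
      _ = _ := by rw [f4]
  have ZY : zpowers z ≤ A ⊓ cn A := le_inf ZA fun x hx a ha => h.comm_Z (h.Lz (h.QL (AQ ha))) hx
  by_contra e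
  obtain ⟨b, hb, hb'⟩ := SetLike.not_le_iff_exists.1 e
  have d1 : Nat.card (A ⊓ cn A : Subgroup G) = 9 := by
    obtain ⟨k, hk, e'⟩ := (Nat.dvd_prime_pow Nat.prime_three).1
      (show Nat.card (A ⊓ cn A : Subgroup G) ∣ 3 ^ 3 from (card_dvd_of_le inf_le_left).trans b1.dvd)
    have d2 : Nat.card (A ⊓ cn A : Subgroup G) ≠ 27 := fun e'' =>
      hb' ((eq_of_le_of_card_ge inf_le_left (by rw [b1, e''])).ge hb).2
    have d3 : ¬ Nat.card (A ⊓ cn A : Subgroup G) ≤ 3 := fun e'' =>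
      c2 ((eq_of_le_of_card_ge ZY (by rwa [h.cardZ])).ge ⟨c1, c3⟩)
    rw [e'] at d2 d3 ⊢
    interval_cases k <;> simp_all
  have := eq_of_index_three (A := A ⊓ cn A) (X := A ⊓ Ce b) (T := A)
    (fun y hy => ⟨hy.1, mem_Ce.2 (hy.2 b hb).symm⟩) inf_le_left (by rw [b1, d1])
    fun e' => hb' (e' ⟨hb, mem_Ce.2 rfl⟩).2
  exact hb' fun a ha => mem_Ce.1 (this.ge ha).2

theorem exJ {s : L} (s2 : (s : G) ^ 2 = 1) (s1 : π s = -1) :
    ∃ J ≤ S, J ≤ cn J ∧ Nat.card J = 81 := by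
  obtain ⟨d0, hd0, hd0'⟩ := SetLike.not_le_iff_exists.1 fun e : S ≤ Q => by
    have := card_le_of_le e
    rw [h.cardS, h.cardQ] at this
    omega
  obtain ⟨q, hq, ds⟩ := h.fratQ s1 ((pow_two _).symm.trans s2) (h.LN (h.SL hd0))
  have hd : q⁻¹ * d0 ∈ S := mul_mem (inv_mem (h.QS hq)) hd0
  have h1 : q⁻¹ * d0 ∉ Q := fun e => hd0' ((mul_mem_cancel_left (inv_mem hq)).1 e)
  generalize q⁻¹ * d0 = d at ds hd h1
  have h3 : d ^ 3 ∈ zpowers z := h.inf_Ce s1 ⟨cubeQ h hd, pow_mem ds 3⟩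
  have b1 := (fx27 h hd h1 h3).1
  have b2 := fx_ab h hd h1 h3
  have hA : ∀ a ∈ Fx Q (zpowers z) d, a ∈ Q ∧ d * a * d⁻¹ * a⁻¹ ∈ zpowers z :=
    fun a ha => h.mem_Fx.1 ha
  generalize Fx Q (zpowers z) d = A at b1 b2 hA
  have AQ : A ≤ Q := fun _ hq => (hA _ hq).1
  have dA : d ∈ cn A := fun a ha => by
    have t1 := (hA a ha).2
    have t2 := sinv h s2 s1 a (AQ ha)
    have e1 := h.comm_Z (h.Lz s.2) t1
    have e2 := h.comm_Z (h.Lz (h.SL hd)) t2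
    have e3 := h.comm_Z (h.Lz (h.QL (AQ ha))) t1
    have e5 := h.comm_Z (h.Lz (h.QL (h.ZQ t2))) t1
    have e4 := h.expQ _ (h.ZQ t1)
    have f1 : d * a * d⁻¹ = (d * a * d⁻¹ * a⁻¹) * a := by group
    have f2 : s * a * (s : G)⁻¹ = (s * a * (s : G)⁻¹ * a) * a⁻¹ := by group
    generalize d * a * d⁻¹ * a⁻¹ = t at e1 e3 e4 e5 f1
    generalize s * a * (s : G)⁻¹ * a = t' at e2 e5 f2
    have f3 : t * (t' * a⁻¹) = t' * (t * a)⁻¹ := by
      calc _ = s * t * (s : G)⁻¹ * (s * a * (s : G)⁻¹) := by rw [f2, e1]; group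
        _ = s * (d * a * d⁻¹) * (s : G)⁻¹ := by rw [f1]; group
        _ = d * (s * a * (s : G)⁻¹) * d⁻¹ := by
          calc _ = s * d * a * (s * d)⁻¹ := by group
            _ = _ := by rw [← mem_Ce.1 ds]; group
        _ = d * t' * d⁻¹ * (d * a * d⁻¹)⁻¹ := by rw [f2]; group
        _ = _ := by rw [f1, e2]; group
    have f4 : t * t = 1 := by
      rw [← mul_assoc, ← e5, mul_assoc, mul_right_inj, ← e3, mul_inv_rev, mul_left_inj] at f3
      exact mul_eq_one_iff_eq_inv.2 f3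
    rw [pow_three', f4, one_mul] at e4
    rw [e4, one_mul, mul_inv_eq_iff_eq_mul] at f1
    exact f1.symm
  have a1 : A ⊔ zpowers d ≤ cn A := sup_le b2 (zpowers_le.2 dA)
  have a2 : zpowers d ≤ cn (A ⊔ zpowers d) := zpowers_le.2 fun x hx => mem_Ce.1
    ((sup_le (fun a ha => mem_Ce.2 (dA a ha)) (zpowers_le.2 (mem_Ce.2 rfl)) : _ ≤ Ce d) hx)
  have JS : A ⊔ zpowers d ≤ S := sup_le (AQ.trans h.QS) (zpowers_le.2 hd)
  have Jc := sup_le (le_centralizer_iff.1 a1) a2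
  refine ⟨_, JS, Jc, ?_⟩
  have c1 := card_mul_le h.QS JS
  have c2 := h.ab (_ ⊓ Q) inf_le_right (inf_le_left.trans (Jc.trans (centralizer_anti inf_le_left)))
  have c3 : ¬ Nat.card (A ⊔ zpowers d : Subgroup G) ≤ 27 := fun e =>
    h1 (AQ ((eq_of_le_of_card_ge le_sup_left (e.trans b1.ge)).ge (mem_sup_right (mem_zpowers d))))
  rw [h.cardQ, h.cardS] at c1
  obtain ⟨k, hk, e'⟩ := (Nat.dvd_prime_pow Nat.prime_three).1
    (show Nat.card (A ⊔ zpowers d : Subgroup G) ∣ 3 ^ 6 from (card_dvd_of_le JS).trans h.cardS.dvd)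
  have c4 : Nat.card (A ⊔ zpowers d : Subgroup G) ≤ 81 := by omega
  rw [e'] at c3 c4 ⊢
  interval_cases k <;> simp_all

end

theorem jobP0 : H16.HN3.JobP0.{u} := by
  rintro G _ _ S Z hZ C hC Q hQ ex cardQ expQ cQ ⟨x, hx, hx'⟩ e
  obtain ⟨z, π, rfl, h⟩ := bas0 S Z hZ C hC Q hQ ex cardQ expQ cQ e
  obtain ⟨s, s2, s1, sQ⟩ := h.two
  obtain ⟨J, hJ, hc, h81⟩ := exJ h s2 s1
  have nS := h.nS_le hJ hc h81
  obtain ⟨L, n, lf⟩ := h.lf hJ hc h81 s1 ((pow_two _).symm.trans s2) (nS (snor h s1))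
    (le_normalizer.trans nS) le_normalizer
  obtain ⟨d, dJ, dL, d1⟩ := lf.dJ
  have Lz : L ≤ Ce z := lf.le.trans inf_le_right
  have Ls : L ≤ Ce (s : G) := lf.le.trans inf_le_left
  obtain ⟨ι⟩ := lf.iso
  have zL : z ∉ L := fun e => by
    have a1 := sl_cen (ι ⟨z, e⟩) fun y => by
      obtain ⟨y, rfl⟩ := ι.surjective y
      rw [← map_mul, ← map_mul]
      exact congrArg ι (Subtype.ext (mem_Ce.1 (Lz y.2)))
    rw [← map_mul, ι.map_eq_one_iff] at a1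
    have a2 := h.z3
    rw [pow_three', show z * z = 1 from congrArg Subtype.val a1, one_mul] at a2
    have := h.ord
    rw [a2, orderOf_one] at this
    omega
  have LQ : ∀ l ∈ L, l ∈ Q → l = 1 := fun l hl hq => by
    rcases H52.L3.mem_zp3 h.z3 (sQ ⟨hq, Ls hl⟩) with e | e | e
    exacts [e, absurd (e ▸ hl) zL, absurd (inv_mem_iff.1 (e ▸ hl)) zL]
  have dQ : d ∉ Q := fun e => d1 (LQ d dL e)
  have x3 := h.π_cube (hJ dJ)
  have d3 : d ^ 3 = 1 := LQ _ (pow_mem dL 3) (cubeQ h (hJ dJ))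
  have nd : n * d * n⁻¹ = d⁻¹ := eq_inv_of_mul_eq_one_left
    (LQ _ (mul_mem (mul_mem (mul_mem lf.fL dL) (inv_mem lf.fL)) dL) (lf.finv d dJ))
  let ψ : L →* SL5 := π.comp (inclusion Lz)
  have ψi : Function.Injective ψ := (injective_iff_map_eq_one ψ).2 fun l hl =>
    Subtype.ext (LQ l l.2 ((h.ker _).1 hl))
  have ψs : Function.Surjective ψ :=
    ((Nat.bijective_iff_injective_and_card ψ).2 ⟨ψi, Nat.card_congr ι.toEquiv⟩).2
  have dec : ∀ g ∈ Ce z, ∃ l ∈ L, g * l⁻¹ ∈ Q := fun g hg => by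
    obtain ⟨l, hl⟩ := ψs (π ⟨g, hg⟩)
    exact ⟨l, l.2, (h.ker (⟨g, hg⟩ * (inclusion Lz l)⁻¹)).1 (by
      rw [map_mul, map_inv, ← hl]; exact mul_inv_cancel _)⟩
  refine ⟨J, L, z, d, n, π, h, hJ, hc, h81, fun j hj => ?_, dJ, dQ, dL, lf.fL, nd, lf.fN, ?_, ?_,
    ?_, ⟨ι⟩, ?_, ?_, fun g hg => ?_, fun g hg => ?_, fun q hq => ?_, x, hx ⟨z, mem_zpowers z, rfl⟩,
    fun e => hx' (cj_eq_self (mem_Nz.2 e))⟩
  · obtain ⟨a, ha, _, ⟨k, rfl⟩, rfl⟩ := (mem_sup_right_norm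
      (zpowers_le.2 (h.nQ (h.LN (h.SL (hJ dJ)))))).1
      (h.gen (hJ dJ) dQ le_sup_left (mem_sup_right (mem_zpowers d)) (hJ hj))
    have aJ : a ∈ J := (mul_mem_cancel_right (zpow_mem dJ k)).1 hj
    rw [(show Commute a (d ^ k) from hc (zpow_mem dJ k) a aJ).mul_pow, h.expQ a ha, one_mul,
      ← zpow_natCast, ← zpow_mul, mul_comm, zpow_mul, zpow_natCast, d3, one_zpow]
  · rw [lf.sq, ← pow_two, s2]
  · rw [lf.sq]; exact sinv h s2 s1
  · rw [lf.sq]; exact le_inf Lz Ls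
  · rw [lf.sq]; exact lf.nor
  · rw [lf.sq]
    intro g hg
    obtain ⟨l, hl, e⟩ := dec g hg.1
    obtain ⟨i, hi⟩ := mem_powers_iff_mem_zpowers.2
      (sQ ⟨e, (Ce (s : G)).mul_mem hg.2 (inv_mem (Ls hl))⟩)
    exact ⟨i, l, hl, by rw [show z ^ i = _ from hi, inv_mul_cancel_right]⟩
  · obtain ⟨l, hl, e⟩ := dec g hg
    exact ⟨_, e, l, hl, (inv_mul_cancel_right _ _).symm⟩
  · obtain ⟨l, hl, e⟩ := dec g hg.2
    have a1 : g ∈ nr (S : Subgroup G) := by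
      rw [h.S_eq hJ hc h81]
      exact normalizer_inf_normalizer_le_normalizer_sup _ _ ⟨h.nQ (h.LN hg.2), hg.1⟩
    have a2 : l ∈ nr (S : Subgroup G) := by
      have := mul_mem (inv_mem (le_normalizer (h.QS e))) a1
      rwa [mul_inv_rev, inv_inv, inv_mul_cancel_right] at this
    obtain ⟨i, hi, e1⟩ := h.exists_pow (hJ dJ) dQ (conj_mem_of_mem_normalizer a2 (hJ dJ))
    obtain ⟨a, -, b, -, e2⟩ := sl_nor (ψ ⟨d, dL⟩) x3 (fun e => dQ ((h.ker _).1 e)) (ψ ⟨n, lf.fL⟩)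
      (by rw [← map_mul, ← s1]; exact congrArg π (Subtype.ext lf.sq))
      (by
        rw [← map_mul, ← map_mul, ← map_mul]
        refine congrArg ψ (Subtype.ext (mul_inv_eq_iff_eq_mul.1 (nd.trans ?_)))
        exact (eq_inv_of_mul_eq_one_left ((pow_three' d).symm.trans d3)).symm)
      (ψ ⟨l, hl⟩) ⟨i, hi, mul_inv_eq_iff_eq_mul.1 (by
        rw [← map_inv, ← map_mul, ← map_mul]; exact e1)⟩
    rw [← map_pow, ← map_pow, ← map_mul, ψi.eq_iff] at e2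
    exact ⟨_, e, d ^ a, pow_mem dJ a, b, by
      rw [mul_assoc, ← show l = d ^ a * n ^ b from congrArg Subtype.val e2, inv_mul_cancel_right]⟩
  · have := (h.ab81 hJ hc h81).2.2.1 d (hJ dJ) dQ
    exact ⟨fun e => (this.ge (h.mem_Fx.2 ⟨hq, e⟩)).1, fun e => (this.le ⟨e, hq⟩).2⟩

end H71.HN
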