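/- Principal `2`-blocks with five characters (tower K5, S4874): the jobs. -/
import Cfsg.Agent.H29.Sec1
import Cfsg.Agent.H61.K4Main
import Cfsg.Agent.H68.DpP

set_option autoImplicit false

namespace H71.K5

open Cfsg H28 H29 H34 H35 Subgroup
open H61.K4 (nA)
open scoped ComplexConjugate

universe u

/-- The exponent of `2` in the order of `H`. -/
noncomputable abbrev nu (H : Type*) : ℕ := (Nat.card H).factorization 2

/-- Every element of `P` has a centraliser in `P` of order divisible by eight. -/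
def C8 {G : Type*} [Group G] (P : Subgroup G) : Prop :=
  ∀ x ∈ P, 8 ∣ Nat.card ↥(centralizer ({x} : Set G) ⊓ P)

/-- The goal of the tower. -/
def Core : Prop := ∀ (G : Type u) [Group G] [Fintype G] (M : Ideal AlgInt) [M.IsMaximal]
  (P : Sylow 2 G), IsPModular 2 M → Nat.card (principalBlock M G) = 5 → C8 (P : Subgroup G) → False

open Classical in
/-- The section of `v` is nilpotent, with `2`-part `2 ^ s` of the centraliser. -/
structure Nil {G : Type*} [Group G] [Fintype G] (M : Ideal AlgInt) (v : G) (s : ℕ) : Prop where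
  const : ∀ χ ∈ principalBlock M G, ∀ g, InSec 2 v g → χ.1 g = χ.1 v
  col : ∀ g, ∑ χ ∈ bF (principalBlock M G), conj (χ.1 v) * χ.1 g =
    if InSec 2 v g then (2 : ℂ) ^ s else 0
  card : (Finset.univ.filter (InSec 2 v)).card * 2 ^ s = Nat.card G

def JobCol : Prop := ∀ (G : Type u) [Group G] [Fintype G] (M : Ideal AlgInt) [M.IsMaximal] (v : G),
  IsPModular 2 M → (∃ k, orderOf v = 2 ^ k) → HasNormalPComplement 2 (Cz v) → Nil M v (nu (Cz v))

/-- A real element of order four is not `2`-central. -/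
def JobReal : Prop := ∀ (G : Type u) [Group G] [Finite G] (y : G), orderOf y = 4 → IsConj y y⁻¹ →
  nu (Cz y) < nu G

/-! ### Elementary abelian Sylow subgroups -/

def JobEL : Prop := ∀ (G : Type u) [Group G] [Fintype G] (M : Ideal AlgInt) [M.IsMaximal]
  (P : Sylow 2 G), IsPModular 2 M → 2 ∣ Nat.card G → (∀ x ∈ (P : Subgroup G), x ^ 2 = 1) →
    Even (Nat.card (principalBlock M G))

/-! ### Small Sylow subgroups -/

def JobG8 : Prop := ∀ (G : Type u) [Group G] [Finite G] (P : Sylow 2 G), Nat.card P = 8 →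
  C8 (P : Subgroup G) → (∃ x ∈ (P : Subgroup G), x ^ 2 ≠ 1) → HasNormalPComplement 2 G

def JobG16 : Prop := ∀ (G : Type u) [Group G] [Finite G] (P : Sylow 2 G), Nat.card P = 16 →
  C8 (P : Subgroup G) → (∃ x ∈ (P : Subgroup G), x ^ 2 ≠ 1) →
  (∀ z ∈ (P : Subgroup G), (∀ x ∈ (P : Subgroup G), z * x = x * z) → z ^ 2 = 1) →
  (∀ x y : G, orderOf x = 2 → orderOf y = 2 → IsConj x y) → False

/-! ### Rank two -/

def JobLat : Prop := ∀ (n : ℕ) (S T U j β β' γ q : ℤ), q = 2 ^ n → 2 ≤ n → 0 < S →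
  j * S + β' * T = q → j * T + β' * U = 0 → β * S + γ * T = 0 → β * T + γ * U = q → β ≤ γ →
  -β ≤ γ → 2 * |T| ≤ U → 0 < j → j < q → Odd j → 2 * j ≤ q ∨ 2 * j = q + 2

/-- The proportion of elements of odd order when the principal block has rank two. -/
def L2 : Prop := ∀ (G : Type u) [Group G] [Fintype G] (M : Ideal AlgInt) [M.IsMaximal],
  IsPModular 2 M → blockRank 2 (principalBlock M G) = 2 → 2 ≤ nu G →
    2 * nA 2 G ≤ Nat.card G ∨ 2 * 2 ^ nu G * nA 2 G = (2 ^ nu G + 2) * Nat.card G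

def JobL2 : Prop := JobLat → L2.{u}

/-- The same with a central involution. -/
def LT : Prop := ∀ (G : Type u) [Group G] [Fintype G] (M : Ideal AlgInt) [M.IsMaximal] (t : G),
  IsPModular 2 M → blockRank 2 (principalBlock M G) = 2 → 3 ≤ nu G → orderOf t = 2 →
    (∀ g, g * t = t * g) → 4 * 2 ^ nu G * nA 2 G ≤ (2 ^ nu G + 4) * Nat.card G

def JobLT : Prop := L2.{u} → LT.{u}

/-! ### Rank three -/

/-- Two classes of non-trivial `2`-elements, both with nilpotent sections. -/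
structure D3 {G : Type*} [Group G] [Fintype G] (M : Ideal AlgInt) (t y : G) (d s : ℕ)
    (χ : Fin 5 → IrrCharacter G) (a b : Fin 5 → ℤ) : Prop where
  mod : IsPModular 2 M
  inj : Function.Injective χ
  mem : ∀ ψ, ψ ∈ principalBlock M G ↔ ∃ i, χ i = ψ
  one : (χ 0).1 = fun _ => 1
  ha : ∀ i, (χ i).1 t = a i
  hb : ∀ i, (χ i).1 y = b i
  nt : Nil M t d
  ny : Nil M y s
  ot : orderOf t = 2
  oy : orderOf y = 4
  cov : ∀ g : G, 2 ∣ orderOf g → InSec 2 t g ∨ InSec 2 y g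
  le : s ≤ d

def JobE : Prop := ∀ (G : Type u) [Group G] [Fintype G] (M : Ideal AlgInt) [M.IsMaximal] (t y : G)
  (d s : ℕ), IsPModular 2 M → Nat.card (principalBlock M G) = 5 → Nil M t d → Nil M y s →
    orderOf t = 2 → orderOf y = 4 → s ≤ d →
    (∀ g : G, g ≠ 1 → (∃ k, orderOf g = 2 ^ k) → IsConj t g ∨ IsConj y g) →
      ∃ χ a b, D3 M t y d s χ a b

def JobN : Prop := ∀ (G : Type u) [Group G] [Fintype G] (M : Ideal AlgInt) [M.IsMaximal] (t y : G)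
  (d s : ℕ) (χ : Fin 5 → IrrCharacter G) (a b : Fin 5 → ℤ), D3 M t y d s χ a b →
    a 0 = 1 ∧ b 0 = 1 ∧ ∑ i, a i ^ 2 = 2 ^ d ∧ ∑ i, b i ^ 2 = 2 ^ s ∧ ∑ i, a i * b i = 0

def JobV : Prop := ∀ (G : Type u) [Group G] [Fintype G] (M : Ideal AlgInt) [M.IsMaximal] (t y : G)
  (d s : ℕ) (χ : Fin 5 → IrrCharacter G) (a b : Fin 5 → ℤ), D3 M t y d s χ a b →
    ∀ i, 2 ^ s ∣ (b i - a i) ^ 2

def JobF : Prop := ∀ (G : Type u) [Group G] [Fintype G] (M : Ideal AlgInt) [M.IsMaximal] (t y : G)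
  (d s : ℕ) (χ : Fin 5 → IrrCharacter G) (a b : Fin 5 → ℤ), D3 M t y d s χ a b →
    ∃ n : Fin 5 → ℤ, ∑ i, n i * a i = 2 ^ (d - s) ∧ ∑ i, n i * b i = 0

def JobP : Prop := ∀ (G : Type u) [Group G] [Fintype G] (M : Ideal AlgInt) [M.IsMaximal] (t y : G)
  (d s : ℕ) (χ : Fin 5 → IrrCharacter G) (a b : Fin 5 → ℤ), D3 M t y d s χ a b →
    ∀ n : Fin 5 → ℤ, n 0 = 0 →
      (∑ i, n i * a i) ^ 2 + 2 ^ (d - s) * (∑ i, n i * b i) ^ 2 -
        (∑ i, n i * a i + 2 ^ (d - s) * ∑ i, n i * b i) ≤ 2 ^ d * ∑ i, n i ^ 2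

def JobAR : Prop := ∀ (s e : ℕ) (a b : Fin 5 → ℤ), 3 ≤ s → 1 ≤ e → a 0 = 1 → b 0 = 1 →
  ∑ i, a i ^ 2 = 2 ^ (s + e) → ∑ i, b i ^ 2 = 2 ^ s → ∑ i, a i * b i = 0 →
  (∀ i, 2 ^ s ∣ (b i - a i) ^ 2) →
  (∃ n : Fin 5 → ℤ, ∑ i, n i * a i = 2 ^ e ∧ ∑ i, n i * b i = 0) →
  (∀ n : Fin 5 → ℤ, n 0 = 0 → (∑ i, n i * a i) ^ 2 + 2 ^ e * (∑ i, n i * b i) ^ 2 -
    (∑ i, n i * a i + 2 ^ e * ∑ i, n i * b i) ≤ 2 ^ (s + e) * ∑ i, n i ^ 2) → False

/-- Rank three is impossible. -/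
def L3 : Prop := ∀ (G : Type u) [Group G] [Fintype G] (M : Ideal AlgInt) [M.IsMaximal] (t y : G),
  IsPModular 2 M → Nat.card (principalBlock M G) = 5 → orderOf t = 2 → orderOf y = 4 →
    HasNormalPComplement 2 (Cz t) → HasNormalPComplement 2 (Cz y) → 3 ≤ nu (Cz y) →
    nu (Cz y) < nu (Cz t) →
    (∀ g : G, g ≠ 1 → (∃ k, orderOf g = 2 ^ k) → IsConj t g ∨ IsConj y g) → False

theorem l3_of (h1 : JobCol.{u}) (h2 : JobE.{u}) (h3 : JobN.{u}) (h4 : JobV.{u}) (h5 : JobF.{u})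
    (h6 : JobP.{u}) (h7 : JobAR) : L3.{u} := by
  intro G _ _ M _ t y hM hk ot oy nt ny s3 sd cov
  obtain ⟨χ, a, b, h⟩ := h2 G M t y _ _ hM hk (h1 G M t hM ⟨1, ot⟩ nt) (h1 G M y hM ⟨2, oy⟩ ny)
    ot oy sd.le cov
  obtain ⟨a0, b0, aa, bb, ab⟩ := h3 G M t y _ _ χ a b h
  have e : nu (Cz y) + (nu (Cz t) - nu (Cz y)) = nu (Cz t) := by omega
  exact h7 (nu (Cz y)) (nu (Cz t) - nu (Cz y)) a b s3 (by omega) a0 b0 (by rw [e]; exact aa) bb ab
    (h4 G M t y _ _ χ a b h) (h5 G M t y _ _ χ a b h) (by rw [e]; exact h6 G M t y _ _ χ a b h)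

/-! ### Counting -/

/-- A system of representatives of the classes of non-trivial `2`-elements. -/
structure Reps {G : Type*} [Group G] (X : Finset G) : Prop where
  ord : ∀ x ∈ X, x ≠ 1 ∧ ∃ k : ℕ, orderOf x = 2 ^ k
  rep : ∀ g : G, g ≠ 1 → (∃ k : ℕ, orderOf g = 2 ^ k) → ∃! x, x ∈ X ∧ IsConj g x

/-- All sections nilpotent, rank at most two. -/
def A1 : Prop := ∀ (G : Type u) [Group G] [Fintype G] (M : Ideal AlgInt) [M.IsMaximal]
  (P : Sylow 2 G) (X : Finset G), IsPModular 2 M → C8 (P : Subgroup G) → Reps X →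
    (∀ x ∈ X, HasNormalPComplement 2 (Cz x)) → (∃ x ∈ (P : Subgroup G), x ^ 2 ≠ 1) →
    (HasNormalPComplement 2 G ∧ X.card = 4 ∨
      blockRank 2 (principalBlock M G) = 2 ∧ X.card = 3) → False

def JobA1 : Prop := L2.{u} → JobG8.{u} → A1.{u}

/-- Rank two, two classes. -/
def A2 : Prop := ∀ (G : Type u) [Group G] [Fintype G] [DecidableEq G] (M : Ideal AlgInt)
  [M.IsMaximal] (P : Sylow 2 G) (t y : G), IsPModular 2 M → C8 (P : Subgroup G) → Reps {t, y} →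
    orderOf t = 2 → orderOf y = 4 → blockRank 2 (principalBlock M G) = 2 →
    blockRank 2 (principalBlock M (Cz t)) = 2 → HasNormalPComplement 2 (Cz y) → False

def JobA2 : Prop := L2.{u} → LT.{u} → JobReal.{u} → JobG16.{u} → A2.{u}

def JobTop : Prop := JobEL.{u} → A1.{u} → A2.{u} → L3.{u} → JobReal.{u} → Core.{u}

end H71.K5
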