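import Cfsg.Agent.H71.SQC3CL
import Cfsg.Agent.H22.SpCover

/-! Certificates for the centraliser of the `2`-central involution `v 7` of `Co₃`. -/

set_option maxRecDepth 100000
set_option Elab.async false

namespace H71.C3C

open H71 H81 H88 H27.SZ H22.Sp6

/-- the word is not an involution, or it is `z`, or `c` conjugates it to `v 8` or `v 15`. -/
noncomputable def rp1 (w c : List ℕ) : Bool :=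
  neS 27 sg (w ++ w) [] || (eqS 27 sg w [] || (eqS 27 sg w [7] || band (ovr S7 c)
    (eqS 27 sg (c ++ w) (8 :: c) || eqS 27 sg (c ++ w) (15 :: c))))

/-- the check `rp1` along two lists. -/
noncomputable def rpB (W : List (List ℕ)) : List (List ℕ) → Bool :=
  List.rec (motive := fun _ => List (List ℕ) → Bool) (fun _ => true)
    (fun w _ r C => band (rp1 w (C.headD [])) (r C.tail)) W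

theorem of_rpB {W : List (List ℕ)} : ∀ {C : List (List ℕ)}, rpB W C = true →
    ∀ w ∈ W, ∃ c, rp1 w c = true := by
  induction W with
  | nil => intro _ _ _ h; cases h
  | cons a W ih =>
    intro C h w hw
    obtain ⟨h1, h2⟩ := band_iff.1 h
    rcases List.mem_cons.1 hw with rfl | hw
    exacts [⟨_, h1⟩, ih h2 w hw]

def IV : List (List ℕ) := [[0, 7], [1, 7], [2, 7], [3, 7], [4, 7], [5, 7], [6, 7], [7], [8], [9, 9, 9], [10, 10, 10], [11, 11, 11], [12, 12, 12], [13, 13, 13, 13, 13, 13, 13], [14, 14, 14], [15], [16, 16, 16], [17, 17, 17, 17, 17, 17, 17], [18, 18], [19], [20, 20, 20, 20, 20, 20, 20], [21, 21, 21, 21, 21, 21, 21], [22, 22, 22, 22, 22, 22, 22], [23, 23, 23, 23, 23, 23, 23]]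
def SZ : List ℕ := [0, 1, 2, 3, 4, 5, 6, 7, 8, 9, 10, 11, 12, 13, 14, 15, 16, 17, 18, 19, 20, 21, 22, 23]
def SV : List ℕ := [7, 8, 17, 18, 19, 20, 21, 22, 23]
def cs0 : List (List ℕ) := [[], [0], [3], [4], [5], [3, 0], [4, 0], [5, 0], [2, 3], [4, 3], [5, 3], [6, 3], [3, 4], [2, 3, 0], [4, 3, 0], [5, 3, 0], [6, 3, 0], [3, 4, 0], [1, 2, 3], [4, 2, 3], [5, 2, 3], [6, 2, 3], [3, 4, 3], [5, 4, 3], [6, 4, 3], [4, 5, 3], [6, 5, 3], [2, 3, 4], [6, 3, 4], [1, 2, 3, 0], [4, 2, 3, 0], [5, 2, 3, 0], [6, 2, 3, 0], [3, 4, 3, 0], [2, 3, 4, 0], [6, 3, 4, 0], [0, 1, 2, 3], [4, 1, 2, 3], [5, 1, 2, 3], [6, 1, 2, 3], [3, 4, 2, 3], [5, 4, 2, 3], [6, 4, 2, 3], [4, 5, 2, 3], [6, 5, 2, 3], [3, 6, 2, 3], [2, 3, 4, 3], [5, 3, 4, 3],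 [6, 3, 4, 3], [3, 6, 4, 3], [1, 2, 3, 4], [6, 2, 3, 4], [0, 1, 2, 3, 0], [4, 1, 2, 3, 0], [5, 1, 2, 3, 0], [6, 1, 2, 3, 0], [3, 4, 2, 3, 0], [3, 6, 2, 3, 0], [2, 3, 4, 3, 0], [6, 3, 4, 3, 0], [1, 2, 3, 4, 0], [6, 2, 3, 4, 0], [4, 0, 1, 2, 3], [5, 0, 1, 2, 3], [6, 0, 1, 2, 3], [3, 4, 1, 2, 3], [5, 4, 1, 2, 3], [6, 4, 1, 2, 3], [4, 5, 1, 2, 3], [6, 5, 1, 2, 3], [3, 6, 1, 2, 3], [2, 3, 4, 2, 3], [5, 3, 4, 2, 3], [6, 3, 4, 2, 3], [3, 6, 4, 2, 3], [3, 4, 5, 2, 3], [3, 6, 5, 2, 3], [4, 3, 6, 2, 3], [1, 2, 3, 4, 3], [5, 2, 3, 4, 3], [6, 2, 3, 4, 3], [6, 5, 3, 4, 3], [3, 6, 3, 4, 3], [2, 3, 6, 4, 3], [0, 1, 2, 3, 4], [6, 1, 2, 3, 4], [3, 6, 2, 3, 4], [4, 0, 1, 2, 3, 0], [5, 0, 1, 2, 3, 0], [6, 0, 1, 2, 3, 0], [3, 4,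 1, 2, 3, 0], [3, 6, 1, 2, 3, 0], [2, 3, 4, 2, 3, 0], [6, 3, 4, 2, 3, 0], [4, 3, 6, 2, 3, 0], [1, 2, 3, 4, 3, 0], [6, 2, 3, 4, 3, 0], [0, 1, 2, 3, 4, 0], [6, 1, 2, 3, 4, 0], [3, 6, 2, 3, 4, 0], [3, 4, 0, 1, 2, 3], [5, 4, 0, 1, 2, 3], [6, 4, 0, 1, 2, 3], [4, 5, 0, 1, 2, 3], [6, 5, 0, 1, 2, 3], [3, 6, 0, 1, 2, 3], [2, 3, 4, 1, 2, 3], [5, 3, 4, 1, 2, 3], [6, 3, 4, 1, 2, 3], [3, 6, 4, 1, 2, 3], [3, 4, 5, 1, 2, 3], [3, 6, 5, 1, 2, 3], [2, 3, 6, 1, 2, 3], [4, 3, 6, 1, 2, 3], [1, 2, 3, 4, 2, 3], [5, 2, 3, 4, 2, 3], [6, 2, 3, 4, 2, 3], [4, 5, 3, 4, 2, 3], [6, 5, 3, 4, 2, 3], [3, 6, 3, 4, 2, 3], [2, 3, 6, 4, 2, 3], [4, 3, 6, 4, 2, 3], [0, 1, 2, 3, 4, 3], [5, 1, 2, 3, 4, 3], [6, 1, 2, 3, 4, 3], [6, 5, 2, 3, 4, 3], [3,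 6, 2, 3, 4, 3], [2, 3, 6, 3, 4, 3], [1, 2, 3, 6, 4, 3], [6, 0, 1, 2, 3, 4], [3, 6, 1, 2, 3, 4], [4, 3, 6, 2, 3, 4], [3, 4, 0, 1, 2, 3, 0], [3, 6, 0, 1, 2, 3, 0], [2, 3, 4, 1, 2, 3, 0], [6, 3, 4, 1, 2, 3, 0], [2, 3, 6, 1, 2, 3, 0], [4, 3, 6, 1, 2, 3, 0], [1, 2, 3, 4, 2, 3, 0], [6, 2, 3, 4, 2, 3, 0], [0, 1, 2, 3, 4, 3, 0], [6, 1, 2, 3, 4, 3, 0], [3, 6, 2, 3, 4, 3, 0], [6, 0, 1, 2, 3, 4, 0], [3, 6, 1, 2, 3, 4, 0], [4, 3, 6, 2, 3, 4, 0], [2, 3, 4, 0, 1, 2, 3], [5, 3, 4, 0, 1, 2, 3], [6, 3, 4, 0, 1, 2, 3], [3, 6, 4, 0, 1, 2, 3], [3, 4, 5, 0, 1, 2, 3], [3, 6, 5, 0, 1, 2, 3], [2, 3, 6, 0, 1, 2, 3], [4, 3, 6, 0, 1, 2, 3], [1, 2, 3, 4, 1, 2, 3], [5, 2, 3, 4, 1, 2, 3], [6, 2, 3, 4, 1, 2, 3], [4, 5, 3, 4, 1, 2, 3], [6,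 5, 3, 4, 1, 2, 3], [3, 6, 3, 4, 1, 2, 3], [2, 3, 6, 4, 1, 2, 3], [4, 3, 6, 4, 1, 2, 3], [2, 3, 4, 5, 1, 2, 3], [2, 3, 6, 5, 1, 2, 3], [4, 2, 3, 6, 1, 2, 3], [0, 1, 2, 3, 4, 2, 3], [5, 1, 2, 3, 4, 2, 3], [6, 1, 2, 3, 4, 2, 3], [4, 5, 2, 3, 4, 2, 3], [6, 5, 2, 3, 4, 2, 3], [3, 6, 2, 3, 4, 2, 3], [6, 4, 5, 3, 4, 2, 3], [2, 3, 6, 3, 4, 2, 3], [4, 3, 6, 3, 4, 2, 3], [1, 2, 3, 6, 4, 2, 3], [4, 2, 3, 6, 4, 2, 3], [5, 0, 1, 2, 3, 4, 3], [6, 0, 1, 2, 3, 4, 3], [6, 5, 1, 2, 3, 4, 3], [3, 6, 1, 2, 3, 4, 3], [3, 6, 5, 2, 3, 4, 3], [2, 3, 6, 2, 3, 4, 3], [4, 3, 6, 2, 3, 4, 3], [1, 2, 3, 6, 3, 4, 3], [0, 1, 2, 3, 6, 4, 3], [3, 6, 0, 1, 2, 3, 4], [2, 3, 6, 1, 2, 3, 4], [4, 3, 6, 1, 2, 3, 4], [5, 4, 3, 6, 2, 3, 4], [2, 3, 4,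 0, 1, 2, 3, 0], [6, 3, 4, 0, 1, 2, 3, 0], [2, 3, 6, 0, 1, 2, 3, 0], [4, 3, 6, 0, 1, 2, 3, 0], [1, 2, 3, 4, 1, 2, 3, 0], [6, 2, 3, 4, 1, 2, 3, 0], [4, 2, 3, 6, 1, 2, 3, 0], [0, 1, 2, 3, 4, 2, 3, 0], [6, 1, 2, 3, 4, 2, 3, 0], [3, 6, 2, 3, 4, 2, 3, 0], [6, 0, 1, 2, 3, 4, 3, 0], [3, 6, 1, 2, 3, 4, 3, 0], [4, 3, 6, 2, 3, 4, 3, 0], [3, 6, 0, 1, 2, 3, 4, 0], [2, 3, 6, 1, 2, 3, 4, 0], [4, 3, 6, 1, 2, 3, 4, 0], [5, 4, 3, 6, 2, 3, 4, 0], [1, 2, 3, 4, 0, 1, 2, 3], [5, 2, 3, 4, 0, 1, 2, 3], [6, 2, 3, 4, 0, 1, 2, 3], [4, 5, 3, 4, 0, 1, 2, 3], [6, 5, 3, 4, 0, 1, 2, 3], [3, 6, 3, 4, 0, 1, 2, 3], [2, 3, 6, 4, 0, 1, 2, 3], [4, 3, 6, 4, 0, 1, 2, 3], [2, 3, 4, 5, 0, 1, 2, 3], [2, 3, 6, 5, 0, 1, 2, 3], [1, 2, 3, 6, 0, 1, 2, 3],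 [4, 2, 3, 6, 0, 1, 2, 3], [0, 1, 2, 3, 4, 1, 2, 3], [5, 1, 2, 3, 4, 1, 2, 3], [6, 1, 2, 3, 4, 1, 2, 3], [4, 5, 2, 3, 4, 1, 2, 3], [6, 5, 2, 3, 4, 1, 2, 3], [3, 6, 2, 3, 4, 1, 2, 3], [6, 4, 5, 3, 4, 1, 2, 3], [2, 3, 6, 3, 4, 1, 2, 3], [4, 3, 6, 3, 4, 1, 2, 3], [1, 2, 3, 6, 4, 1, 2, 3], [4, 2, 3, 6, 4, 1, 2, 3], [3, 4, 2, 3, 6, 1, 2, 3], [5, 0, 1, 2, 3, 4, 2, 3], [6, 0, 1, 2, 3, 4, 2, 3], [4, 5, 1, 2, 3, 4, 2, 3], [6, 5, 1, 2, 3, 4, 2, 3], [3, 6, 1, 2, 3, 4, 2, 3], [6, 4, 5, 2, 3, 4, 2, 3], [3, 6, 5, 2, 3, 4, 2, 3], [2, 3, 6, 2, 3, 4, 2, 3], [4, 3, 6, 2, 3, 4, 2, 3], [1, 2, 3, 6, 3, 4, 2, 3], [4, 2, 3, 6, 3, 4, 2, 3], [0, 1, 2, 3, 6, 4, 2, 3], [4, 1, 2, 3, 6, 4, 2, 3], [6, 5, 0, 1, 2, 3, 4, 3], [3, 6, 0, 1, 2,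 3, 4, 3], [3, 6, 5, 1, 2, 3, 4, 3], [2, 3, 6, 1, 2, 3, 4, 3], [4, 3, 6, 1, 2, 3, 4, 3], [4, 3, 6, 5, 2, 3, 4, 3], [1, 2, 3, 6, 2, 3, 4, 3], [4, 2, 3, 6, 2, 3, 4, 3], [5, 4, 3, 6, 2, 3, 4, 3], [0, 1, 2, 3, 6, 3, 4, 3], [2, 3, 6, 0, 1, 2, 3, 4], [4, 3, 6, 0, 1, 2, 3, 4], [4, 2, 3, 6, 1, 2, 3, 4], [5, 4, 3, 6, 1, 2, 3, 4], [1, 2, 3, 4, 0, 1, 2, 3, 0], [6, 2, 3, 4, 0, 1, 2, 3, 0], [1, 2, 3, 6, 0, 1, 2, 3, 0], [4, 2, 3, 6, 0, 1, 2, 3, 0], [0, 1, 2, 3, 4, 1, 2, 3, 0], [6, 1, 2, 3, 4, 1, 2, 3, 0], [3, 6, 2, 3, 4, 1, 2, 3, 0], [3, 4, 2, 3, 6, 1, 2, 3, 0], [6, 0, 1, 2, 3, 4, 2, 3, 0], [3, 6, 1, 2, 3, 4, 2, 3, 0], [4, 3, 6, 2, 3, 4, 2, 3, 0], [3, 6, 0, 1, 2, 3, 4, 3, 0], [2, 3, 6, 1, 2, 3, 4, 3, 0], [4, 3, 6, 1, 2, 3,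 4, 3, 0], [5, 4, 3, 6, 2, 3, 4, 3, 0], [2, 3, 6, 0, 1, 2, 3, 4, 0], [4, 3, 6, 0, 1, 2, 3, 4, 0], [4, 2, 3, 6, 1, 2, 3, 4, 0], [5, 4, 3, 6, 1, 2, 3, 4, 0], [0, 1, 2, 3, 4, 0, 1, 2, 3], [5, 1, 2, 3, 4, 0, 1, 2, 3], [6, 1, 2, 3, 4, 0, 1, 2, 3], [4, 5, 2, 3, 4, 0, 1, 2, 3], [6, 5, 2, 3, 4, 0, 1, 2, 3], [3, 6, 2, 3, 4, 0, 1, 2, 3], [6, 4, 5, 3, 4, 0, 1, 2, 3], [2, 3, 6, 3, 4, 0, 1, 2, 3], [4, 3, 6, 3, 4, 0, 1, 2, 3], [1, 2, 3, 6, 4, 0, 1, 2, 3], [4, 2, 3, 6, 4, 0, 1, 2, 3], [1, 2, 3, 4, 5, 0, 1, 2, 3], [1, 2, 3, 6, 5, 0, 1, 2, 3], [4, 1, 2, 3, 6, 0, 1, 2, 3], [3, 4, 2, 3, 6, 0, 1, 2, 3], [5, 0, 1, 2, 3, 4, 1, 2, 3], [6, 0, 1, 2, 3, 4, 1, 2, 3], [4, 5, 1, 2, 3, 4, 1, 2, 3], [6, 5, 1, 2, 3, 4, 1, 2, 3], [3, 6, 1, 2,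 3, 4, 1, 2, 3], [3, 4, 5, 2, 3, 4, 1, 2, 3], [6, 4, 5, 2, 3, 4, 1, 2, 3], [3, 6, 5, 2, 3, 4, 1, 2, 3], [2, 3, 6, 2, 3, 4, 1, 2, 3], [4, 3, 6, 2, 3, 4, 1, 2, 3], [1, 2, 3, 6, 3, 4, 1, 2, 3], [4, 2, 3, 6, 3, 4, 1, 2, 3], [0, 1, 2, 3, 6, 4, 1, 2, 3], [4, 1, 2, 3, 6, 4, 1, 2, 3], [3, 4, 2, 3, 6, 4, 1, 2, 3], [6, 3, 4, 2, 3, 6, 1, 2, 3], [4, 5, 0, 1, 2, 3, 4, 2, 3], [6, 5, 0, 1, 2, 3, 4, 2, 3], [3, 6, 0, 1, 2, 3, 4, 2, 3], [6, 4, 5, 1, 2, 3, 4, 2, 3], [3, 6, 5, 1, 2, 3, 4, 2, 3], [2, 3, 6, 1, 2, 3, 4, 2, 3], [4, 3, 6, 1, 2, 3, 4, 2, 3], [3, 6, 4, 5, 2, 3, 4, 2, 3], [4, 3, 6, 5, 2, 3, 4, 2, 3], [1, 2, 3, 6, 2, 3, 4, 2, 3], [4, 2, 3, 6, 2, 3, 4, 2, 3], [5, 4, 3, 6, 2, 3, 4, 2, 3], [0, 1, 2, 3, 6, 3, 4, 2, 3], [4, 1,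 2, 3, 6, 3, 4, 2, 3], [3, 4, 2, 3, 6, 3, 4, 2, 3], [4, 0, 1, 2, 3, 6, 4, 2, 3], [3, 6, 5, 0, 1, 2, 3, 4, 3], [2, 3, 6, 0, 1, 2, 3, 4, 3], [4, 3, 6, 0, 1, 2, 3, 4, 3], [2, 3, 6, 5, 1, 2, 3, 4, 3], [4, 3, 6, 5, 1, 2, 3, 4, 3], [1, 2, 3, 6, 1, 2, 3, 4, 3], [4, 2, 3, 6, 1, 2, 3, 4, 3], [5, 4, 3, 6, 1, 2, 3, 4, 3], [5, 4, 3, 6, 5, 2, 3, 4, 3], [0, 1, 2, 3, 6, 2, 3, 4, 3], [4, 1, 2, 3, 6, 2, 3, 4, 3], [5, 4, 2, 3, 6, 2, 3, 4, 3], [1, 2, 3, 6, 0, 1, 2, 3, 4], [4, 2, 3, 6, 0, 1, 2, 3, 4], [5, 4, 3, 6, 0, 1, 2, 3, 4], [3, 4, 2, 3, 6, 1, 2, 3, 4], [5, 4, 2, 3, 6, 1, 2, 3, 4], [0, 1, 2, 3, 4, 0, 1, 2, 3, 0], [6, 1, 2, 3, 4, 0, 1, 2, 3, 0], [3, 6, 2, 3, 4, 0, 1, 2, 3, 0], [4, 1, 2, 3, 6, 0, 1, 2, 3, 0], [3, 4, 2, 3, 6,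 0, 1, 2, 3, 0], [6, 0, 1, 2, 3, 4, 1, 2, 3, 0], [3, 6, 1, 2, 3, 4, 1, 2, 3, 0], [4, 3, 6, 2, 3, 4, 1, 2, 3, 0], [6, 3, 4, 2, 3, 6, 1, 2, 3, 0], [3, 6, 0, 1, 2, 3, 4, 2, 3, 0], [2, 3, 6, 1, 2, 3, 4, 2, 3, 0], [4, 3, 6, 1, 2, 3, 4, 2, 3, 0], [5, 4, 3, 6, 2, 3, 4, 2, 3, 0], [2, 3, 6, 0, 1, 2, 3, 4, 3, 0], [4, 3, 6, 0, 1, 2, 3, 4, 3, 0], [4, 2, 3, 6, 1, 2, 3, 4, 3, 0], [5, 4, 3, 6, 1, 2, 3, 4, 3, 0], [1, 2, 3, 6, 0, 1, 2, 3, 4, 0], [4, 2, 3, 6, 0, 1, 2, 3, 4, 0], [5, 4, 3, 6, 0, 1, 2, 3, 4, 0], [3, 4, 2, 3, 6, 1, 2, 3, 4, 0], [5, 4, 2, 3, 6, 1, 2, 3, 4, 0], [5, 0, 1, 2, 3, 4, 0, 1, 2, 3], [6, 0, 1, 2, 3, 4, 0, 1, 2, 3], [4, 5, 1, 2, 3, 4, 0, 1, 2, 3], [6, 5, 1, 2, 3, 4, 0, 1, 2, 3], [3, 6, 1, 2, 3, 4, 0, 1, 2, 3],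 [3, 4, 5, 2, 3, 4, 0, 1, 2, 3], [6, 4, 5, 2, 3, 4, 0, 1, 2, 3], [3, 6, 5, 2, 3, 4, 0, 1, 2, 3], [2, 3, 6, 2, 3, 4, 0, 1, 2, 3], [4, 3, 6, 2, 3, 4, 0, 1, 2, 3], [1, 2, 3, 6, 3, 4, 0, 1, 2, 3], [4, 2, 3, 6, 3, 4, 0, 1, 2, 3], [0, 1, 2, 3, 6, 4, 0, 1, 2, 3], [4, 1, 2, 3, 6, 4, 0, 1, 2, 3], [3, 4, 2, 3, 6, 4, 0, 1, 2, 3], [3, 4, 1, 2, 3, 6, 0, 1, 2, 3], [6, 3, 4, 2, 3, 6, 0, 1, 2, 3], [4, 5, 0, 1, 2, 3, 4, 1, 2, 3], [6, 5, 0, 1, 2, 3, 4, 1, 2, 3], [3, 6, 0, 1, 2, 3, 4, 1, 2, 3], [3, 4, 5, 1, 2, 3, 4, 1, 2, 3], [6, 4, 5, 1, 2, 3, 4, 1, 2, 3], [3, 6, 5, 1, 2, 3, 4, 1, 2, 3], [2, 3, 6, 1, 2, 3, 4, 1, 2, 3], [4, 3, 6, 1, 2, 3, 4, 1, 2, 3], [6, 3, 4, 5, 2, 3, 4, 1, 2, 3], [3, 6, 4, 5, 2, 3, 4, 1, 2, 3], [4, 3, 6, 5,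 2, 3, 4, 1, 2, 3], [1, 2, 3, 6, 2, 3, 4, 1, 2, 3], [4, 2, 3, 6, 2, 3, 4, 1, 2, 3], [5, 4, 3, 6, 2, 3, 4, 1, 2, 3], [0, 1, 2, 3, 6, 3, 4, 1, 2, 3], [4, 1, 2, 3, 6, 3, 4, 1, 2, 3], [3, 4, 2, 3, 6, 3, 4, 1, 2, 3], [4, 0, 1, 2, 3, 6, 4, 1, 2, 3], [3, 4, 1, 2, 3, 6, 4, 1, 2, 3], [6, 3, 4, 2, 3, 6, 4, 1, 2, 3], [6, 4, 5, 0, 1, 2, 3, 4, 2, 3], [3, 6, 5, 0, 1, 2, 3, 4, 2, 3], [2, 3, 6, 0, 1, 2, 3, 4, 2, 3], [4, 3, 6, 0, 1, 2, 3, 4, 2, 3], [3, 6, 4, 5, 1, 2, 3, 4, 2, 3], [2, 3, 6, 5, 1, 2, 3, 4, 2, 3], [4, 3, 6, 5, 1, 2, 3, 4, 2, 3], [1, 2, 3, 6, 1, 2, 3, 4, 2, 3], [4, 2, 3, 6, 1, 2, 3, 4, 2, 3], [5, 4, 3, 6, 1, 2, 3, 4, 2, 3], [4, 3, 6, 4, 5, 2, 3, 4, 2, 3], [5, 4, 3, 6, 5, 2, 3, 4, 2, 3], [0, 1, 2, 3, 6, 2, 3, 4, 2,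 3], [4, 1, 2, 3, 6, 2, 3, 4, 2, 3], [3, 4, 2, 3, 6, 2, 3, 4, 2, 3], [5, 4, 2, 3, 6, 2, 3, 4, 2, 3], [4, 0, 1, 2, 3, 6, 3, 4, 2, 3], [3, 4, 1, 2, 3, 6, 3, 4, 2, 3], [2, 3, 6, 5, 0, 1, 2, 3, 4, 3], [4, 3, 6, 5, 0, 1, 2, 3, 4, 3], [1, 2, 3, 6, 0, 1, 2, 3, 4, 3], [4, 2, 3, 6, 0, 1, 2, 3, 4, 3], [5, 4, 3, 6, 0, 1, 2, 3, 4, 3], [4, 2, 3, 6, 5, 1, 2, 3, 4, 3], [5, 4, 3, 6, 5, 1, 2, 3, 4, 3], [0, 1, 2, 3, 6, 1, 2, 3, 4, 3], [4, 1, 2, 3, 6, 1, 2, 3, 4, 3], [3, 4, 2, 3, 6, 1, 2, 3, 4, 3], [5, 4, 2, 3, 6, 1, 2, 3, 4, 3], [4, 0, 1, 2, 3, 6, 2, 3, 4, 3], [5, 4, 1, 2, 3, 6, 2, 3, 4, 3], [4, 1, 2, 3, 6, 0, 1, 2, 3, 4], [3, 4, 2, 3, 6, 0, 1, 2, 3, 4], [5, 4, 2, 3, 6, 0, 1, 2, 3, 4], [5, 3, 4, 2, 3, 6, 1, 2, 3, 4], [6, 3, 4,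 2, 3, 6, 1, 2, 3, 4], [6, 0, 1, 2, 3, 4, 0, 1, 2, 3, 0], [3, 6, 1, 2, 3, 4, 0, 1, 2, 3, 0], [4, 3, 6, 2, 3, 4, 0, 1, 2, 3, 0], [3, 4, 1, 2, 3, 6, 0, 1, 2, 3, 0], [6, 3, 4, 2, 3, 6, 0, 1, 2, 3, 0], [3, 6, 0, 1, 2, 3, 4, 1, 2, 3, 0], [2, 3, 6, 1, 2, 3, 4, 1, 2, 3, 0], [4, 3, 6, 1, 2, 3, 4, 1, 2, 3, 0], [5, 4, 3, 6, 2, 3, 4, 1, 2, 3, 0], [2, 3, 6, 0, 1, 2, 3, 4, 2, 3, 0], [4, 3, 6, 0, 1, 2, 3, 4, 2, 3, 0], [4, 2, 3, 6, 1, 2, 3, 4, 2, 3, 0], [5, 4, 3, 6, 1, 2, 3, 4, 2, 3, 0], [1, 2, 3, 6, 0, 1, 2, 3, 4, 3, 0], [4, 2, 3, 6, 0, 1, 2, 3, 4, 3, 0], [5, 4, 3, 6, 0, 1, 2, 3, 4, 3, 0], [3, 4, 2, 3, 6, 1, 2, 3, 4, 3, 0], [5, 4, 2, 3, 6, 1, 2, 3, 4, 3, 0], [4, 1, 2, 3, 6, 0, 1, 2, 3, 4, 0], [3, 4, 2, 3, 6, 0, 1, 2, 3, 4,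 0], [5, 4, 2, 3, 6, 0, 1, 2, 3, 4, 0], [5, 3, 4, 2, 3, 6, 1, 2, 3, 4, 0], [6, 3, 4, 2, 3, 6, 1, 2, 3, 4, 0], [4, 5, 0, 1, 2, 3, 4, 0, 1, 2, 3], [6, 5, 0, 1, 2, 3, 4, 0, 1, 2, 3], [3, 6, 0, 1, 2, 3, 4, 0, 1, 2, 3], [3, 4, 5, 1, 2, 3, 4, 0, 1, 2, 3], [6, 4, 5, 1, 2, 3, 4, 0, 1, 2, 3], [3, 6, 5, 1, 2, 3, 4, 0, 1, 2, 3], [2, 3, 6, 1, 2, 3, 4, 0, 1, 2, 3], [4, 3, 6, 1, 2, 3, 4, 0, 1, 2, 3], [6, 3, 4, 5, 2, 3, 4, 0, 1, 2, 3], [3, 6, 4, 5, 2, 3, 4, 0, 1, 2, 3], [4, 3, 6, 5, 2, 3, 4, 0, 1, 2, 3], [0, 1, 2, 3, 6, 3, 4, 0, 1, 2, 3], [4, 0, 1, 2, 3, 6, 4, 0, 1, 2, 3], [2, 3, 4, 1, 2, 3, 6, 0, 1, 2, 3], [6, 3, 4, 1, 2, 3, 6, 0, 1, 2, 3], [3, 4, 5, 0, 1, 2, 3, 4, 1, 2, 3], [6, 4, 5, 0, 1, 2, 3, 4, 1, 2, 3], [3, 6, 5, 0,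 1, 2, 3, 4, 1, 2, 3], [2, 3, 6, 0, 1, 2, 3, 4, 1, 2, 3], [4, 3, 6, 0, 1, 2, 3, 4, 1, 2, 3], [6, 3, 4, 5, 1, 2, 3, 4, 1, 2, 3], [3, 6, 4, 5, 1, 2, 3, 4, 1, 2, 3], [2, 3, 6, 5, 1, 2, 3, 4, 1, 2, 3], [4, 3, 6, 5, 1, 2, 3, 4, 1, 2, 3], [1, 2, 3, 6, 1, 2, 3, 4, 1, 2, 3], [4, 2, 3, 6, 1, 2, 3, 4, 1, 2, 3], [5, 4, 3, 6, 1, 2, 3, 4, 1, 2, 3], [5, 4, 3, 6, 5, 2, 3, 4, 1, 2, 3], [3, 6, 4, 5, 0, 1, 2, 3, 4, 2, 3], [2, 3, 6, 5, 0, 1, 2, 3, 4, 2, 3], [4, 3, 6, 5, 0, 1, 2, 3, 4, 2, 3], [1, 2, 3, 6, 0, 1, 2, 3, 4, 2, 3], [4, 2, 3, 6, 0, 1, 2, 3, 4, 2, 3], [5, 4, 3, 6, 0, 1, 2, 3, 4, 2, 3], [2, 3, 6, 4, 5, 1, 2, 3, 4, 2, 3], [4, 3, 6, 4, 5, 1, 2, 3, 4, 2, 3], [4, 2, 3, 6, 5, 1, 2, 3, 4, 2, 3], [5, 4, 3, 6, 5, 1, 2, 3, 4, 2,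 3], [0, 1, 2, 3, 6, 1, 2, 3, 4, 2, 3], [4, 1, 2, 3, 6, 1, 2, 3, 4, 2, 3], [3, 4, 2, 3, 6, 1, 2, 3, 4, 2, 3], [5, 4, 2, 3, 6, 1, 2, 3, 4, 2, 3], [5, 4, 3, 6, 4, 5, 2, 3, 4, 2, 3], [4, 0, 1, 2, 3, 6, 2, 3, 4, 2, 3], [3, 4, 1, 2, 3, 6, 2, 3, 4, 2, 3], [5, 4, 1, 2, 3, 6, 2, 3, 4, 2, 3], [5, 3, 4, 2, 3, 6, 2, 3, 4, 2, 3], [1, 2, 3, 6, 5, 0, 1, 2, 3, 4, 3], [4, 2, 3, 6, 5, 0, 1, 2, 3, 4, 3], [5, 4, 3, 6, 5, 0, 1, 2, 3, 4, 3], [0, 1, 2, 3, 6, 0, 1, 2, 3, 4, 3], [4, 1, 2, 3, 6, 0, 1, 2, 3, 4, 3], [3, 4, 2, 3, 6, 0, 1, 2, 3, 4, 3], [5, 4, 2, 3, 6, 0, 1, 2, 3, 4, 3], [3, 4, 2, 3, 6, 5, 1, 2, 3, 4, 3], [5, 4, 2, 3, 6, 5, 1, 2, 3, 4, 3], [4, 0, 1, 2, 3, 6, 1, 2, 3, 4, 3], [3, 4, 1, 2, 3, 6, 1, 2, 3, 4, 3], [5, 4, 1, 2,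 3, 6, 1, 2, 3, 4, 3], [5, 3, 4, 2, 3, 6, 1, 2, 3, 4, 3], [6, 3, 4, 2, 3, 6, 1, 2, 3, 4, 3], [5, 4, 0, 1, 2, 3, 6, 2, 3, 4, 3], [3, 4, 1, 2, 3, 6, 0, 1, 2, 3, 4], [5, 4, 1, 2, 3, 6, 0, 1, 2, 3, 4], [5, 3, 4, 2, 3, 6, 0, 1, 2, 3, 4], [6, 3, 4, 2, 3, 6, 0, 1, 2, 3, 4], [4, 5, 3, 4, 2, 3, 6, 1, 2, 3, 4], [6, 5, 3, 4, 2, 3, 6, 1, 2, 3, 4], [2, 3, 6, 0, 1, 2, 3, 4, 1, 2, 3, 0], [4, 2, 3, 6, 1, 2, 3, 4, 1, 2, 3, 0], [1, 2, 3, 6, 0, 1, 2, 3, 4, 2, 3, 0], [4, 2, 3, 6, 0, 1, 2, 3, 4, 2, 3, 0], [5, 4, 3, 6, 0, 1, 2, 3, 4, 2, 3, 0], [3, 4, 2, 3, 6, 1, 2, 3, 4, 2, 3, 0], [5, 4, 2, 3, 6, 1, 2, 3, 4, 2, 3, 0], [4, 1, 2, 3, 6, 0, 1, 2, 3, 4, 3, 0], [3, 4, 2, 3, 6, 0, 1, 2, 3, 4, 3, 0], [5, 4, 2, 3, 6, 0, 1, 2, 3, 4, 3, 0],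 [5, 3, 4, 2, 3, 6, 1, 2, 3, 4, 3, 0], [6, 3, 4, 2, 3, 6, 1, 2, 3, 4, 3, 0], [3, 4, 1, 2, 3, 6, 0, 1, 2, 3, 4, 0], [5, 4, 1, 2, 3, 6, 0, 1, 2, 3, 4, 0], [5, 3, 4, 2, 3, 6, 0, 1, 2, 3, 4, 0], [6, 3, 4, 2, 3, 6, 0, 1, 2, 3, 4, 0], [4, 5, 3, 4, 2, 3, 6, 1, 2, 3, 4, 0], [6, 5, 3, 4, 2, 3, 6, 1, 2, 3, 4, 0], [2, 3, 6, 5, 0, 1, 2, 3, 4, 1, 2, 3], [1, 2, 3, 6, 0, 1, 2, 3, 4, 1, 2, 3], [4, 2, 3, 6, 0, 1, 2, 3, 4, 1, 2, 3], [4, 2, 3, 6, 5, 1, 2, 3, 4, 1, 2, 3], [3, 4, 2, 3, 6, 1, 2, 3, 4, 1, 2, 3], [4, 3, 6, 4, 5, 0, 1, 2, 3, 4, 2, 3], [4, 2, 3, 6, 5, 0, 1, 2, 3, 4, 2, 3], [5, 4, 3, 6, 5, 0, 1, 2, 3, 4, 2, 3], [0, 1, 2, 3, 6, 0, 1, 2, 3, 4, 2, 3], [4, 1, 2, 3, 6, 0, 1, 2, 3, 4, 2, 3], [3, 4, 2, 3, 6, 0, 1, 2, 3, 4, 2,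 3], [5, 4, 2, 3, 6, 0, 1, 2, 3, 4, 2, 3], [4, 2, 3, 6, 4, 5, 1, 2, 3, 4, 2, 3], [5, 4, 3, 6, 4, 5, 1, 2, 3, 4, 2, 3], [3, 4, 2, 3, 6, 5, 1, 2, 3, 4, 2, 3], [5, 4, 2, 3, 6, 5, 1, 2, 3, 4, 2, 3], [5, 4, 1, 2, 3, 6, 1, 2, 3, 4, 2, 3], [5, 3, 4, 2, 3, 6, 1, 2, 3, 4, 2, 3], [6, 3, 4, 2, 3, 6, 1, 2, 3, 4, 2, 3], [5, 4, 0, 1, 2, 3, 6, 2, 3, 4, 2, 3], [5, 3, 4, 1, 2, 3, 6, 2, 3, 4, 2, 3], [3, 4, 2, 3, 6, 5, 0, 1, 2, 3, 4, 3], [5, 4, 2, 3, 6, 5, 0, 1, 2, 3, 4, 3], [4, 0, 1, 2, 3, 6, 0, 1, 2, 3, 4, 3], [3, 4, 1, 2, 3, 6, 0, 1, 2, 3, 4, 3], [5, 4, 1, 2, 3, 6, 0, 1, 2, 3, 4, 3], [5, 3, 4, 2, 3, 6, 0, 1, 2, 3, 4, 3], [6, 3, 4, 2, 3, 6, 0, 1, 2, 3, 4, 3], [5, 3, 4, 2, 3, 6, 5, 1, 2, 3, 4, 3], [6, 3, 4, 2, 3, 6, 5, 1, 2, 3,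 4, 3], [5, 4, 0, 1, 2, 3, 6, 1, 2, 3, 4, 3], [5, 3, 4, 1, 2, 3, 6, 1, 2, 3, 4, 3], [4, 5, 3, 4, 2, 3, 6, 1, 2, 3, 4, 3], [6, 5, 3, 4, 2, 3, 6, 1, 2, 3, 4, 3], [2, 3, 4, 1, 2, 3, 6, 0, 1, 2, 3, 4], [5, 3, 4, 1, 2, 3, 6, 0, 1, 2, 3, 4], [6, 3, 4, 1, 2, 3, 6, 0, 1, 2, 3, 4], [4, 5, 3, 4, 2, 3, 6, 0, 1, 2, 3, 4], [6, 5, 3, 4, 2, 3, 6, 0, 1, 2, 3, 4], [6, 4, 5, 3, 4, 2, 3, 6, 1, 2, 3, 4], [5, 4, 2, 3, 6, 0, 1, 2, 3, 4, 2, 3, 0], [5, 3, 4, 2, 3, 6, 1, 2, 3, 4, 2, 3, 0], [5, 4, 1, 2, 3, 6, 0, 1, 2, 3, 4, 3, 0], [5, 3, 4, 2, 3, 6, 0, 1, 2, 3, 4, 3, 0], [4, 5, 3, 4, 2, 3, 6, 1, 2, 3, 4, 3, 0], [6, 5, 3, 4, 2, 3, 6, 1, 2, 3, 4, 3, 0], [5, 3, 4, 1, 2, 3, 6, 0, 1, 2, 3, 4, 0], [4, 5, 3, 4, 2, 3, 6, 0, 1, 2, 3, 4, 0], [6,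 5, 3, 4, 2, 3, 6, 0, 1, 2, 3, 4, 0], [6, 4, 5, 3, 4, 2, 3, 6, 1, 2, 3, 4, 0], [5, 4, 3, 6, 4, 5, 0, 1, 2, 3, 4, 2, 3], [5, 4, 2, 3, 6, 5, 0, 1, 2, 3, 4, 2, 3], [5, 4, 1, 2, 3, 6, 0, 1, 2, 3, 4, 2, 3], [5, 3, 4, 2, 3, 6, 0, 1, 2, 3, 4, 2, 3], [5, 4, 2, 3, 6, 4, 5, 1, 2, 3, 4, 2, 3], [5, 3, 4, 2, 3, 6, 5, 1, 2, 3, 4, 2, 3], [6, 5, 3, 4, 2, 3, 6, 1, 2, 3, 4, 2, 3], [5, 3, 4, 2, 3, 6, 5, 0, 1, 2, 3, 4, 3], [5, 4, 0, 1, 2, 3, 6, 0, 1, 2, 3, 4, 3], [5, 3, 4, 1, 2, 3, 6, 0, 1, 2, 3, 4, 3], [4, 5, 3, 4, 2, 3, 6, 0, 1, 2, 3, 4, 3], [6, 5, 3, 4, 2, 3, 6, 0, 1, 2, 3, 4, 3], [4, 5, 3, 4, 2, 3, 6, 5, 1, 2, 3, 4, 3], [6, 5, 3, 4, 2, 3, 6, 5, 1, 2, 3, 4, 3], [4, 5, 3, 4, 1, 2, 3, 6, 1, 2, 3, 4, 3], [6, 4, 5, 3, 4, 2, 3, 6,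 1, 2, 3, 4, 3], [5, 2, 3, 4, 1, 2, 3, 6, 0, 1, 2, 3, 4], [4, 5, 3, 4, 1, 2, 3, 6, 0, 1, 2, 3, 4], [6, 5, 3, 4, 1, 2, 3, 6, 0, 1, 2, 3, 4], [6, 4, 5, 3, 4, 2, 3, 6, 0, 1, 2, 3, 4], [3, 6, 4, 5, 3, 4, 2, 3, 6, 1, 2, 3, 4], [4, 5, 3, 4, 2, 3, 6, 0, 1, 2, 3, 4, 3, 0], [6, 4, 5, 3, 4, 2, 3, 6, 1, 2, 3, 4, 3, 0], [4, 5, 3, 4, 1, 2, 3, 6, 0, 1, 2, 3, 4, 0], [6, 4, 5, 3, 4, 2, 3, 6, 0, 1, 2, 3, 4, 0], [3, 6, 4, 5, 3, 4, 2, 3, 6, 1, 2, 3, 4, 0], [4, 5, 3, 4, 2, 3, 6, 5, 0, 1, 2, 3, 4, 3], [4, 5, 3, 4, 1, 2, 3, 6, 0, 1, 2, 3, 4, 3], [6, 4, 5, 3, 4, 2, 3, 6, 0, 1, 2, 3, 4, 3], [6, 4, 5, 3, 4, 2, 3, 6, 5, 1, 2, 3, 4, 3], [4, 5, 2, 3, 4, 1, 2, 3, 6, 0, 1, 2, 3, 4], [6, 4, 5, 3, 4, 1, 2, 3, 6, 0, 1, 2, 3, 4], [3, 6, 4, 5,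 3, 4, 2, 3, 6, 0, 1, 2, 3, 4], [2, 3, 6, 4, 5, 3, 4, 2, 3, 6, 1, 2, 3, 4], [3, 4, 5, 2, 3, 4, 1, 2, 3, 6, 0, 1, 2, 3, 4], [3, 6, 4, 5, 3, 4, 1, 2, 3, 6, 0, 1, 2, 3, 4]]
def cs1 : List (List ℕ) := [[], [17], [18], [19], [17, 17], [18, 17], [19, 17], [17, 18], [18, 18], [19, 18], [17, 19], [18, 19], [17, 17, 17], [18, 17, 17], [19, 17, 17], [17, 18, 17], [18, 18, 17], [19, 18, 17], [17, 19, 17], [18, 19, 17], [17, 17, 18], [18, 17, 18], [19, 17, 18], [19, 18, 18], [17, 19, 18], [18, 19, 18], [17, 17, 19], [18, 17, 19], [19, 17, 19], [17, 18, 19], [18, 18, 19], [19, 18, 19], [18, 17, 17, 17], [19, 17, 17, 17], [17, 18, 17, 17], [18, 18, 17, 17], [19, 18, 17, 17], [17, 19, 17, 17], [18, 19, 17, 17], [17, 17, 18,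 17], [18, 17, 18, 17], [19, 17, 18, 17], [19, 18, 18, 17], [17, 19, 18, 17], [18, 19, 18, 17], [17, 17, 19, 17], [18, 17, 19, 17], [19, 17, 19, 17], [17, 18, 19, 17], [18, 18, 19, 17], [19, 18, 19, 17], [17, 17, 17, 18], [19, 17, 17, 18], [18, 18, 17, 18], [19, 18, 17, 18], [17, 19, 17, 18], [18, 19, 17, 18], [17, 19, 18, 18], [18, 19, 18, 18], [17, 17, 19, 18], [18, 17, 19, 18], [19, 17, 19, 18], [17, 18, 19, 18], [18, 18, 19, 18], [19, 18, 19, 18], [17, 17, 17, 19], [18, 17, 17, 19], [19, 17, 17, 19], [17, 18, 17, 19], [18, 18, 17, 19], [19, 18, 17, 19], [17, 19, 17, 19], [18, 19, 17, 19], [17, 17, 18, 19], [18, 17, 18, 19], [19, 17, 18, 19], [19, 18, 18, 19], [17, 19, 18, 19], [18, 19, 18, 19], [17, 18, 17,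 17, 17], [19, 18, 17, 17, 17], [17, 19, 17, 17, 17], [18, 19, 17, 17, 17], [17, 17, 18, 17, 17], [18, 17, 18, 17, 17], [19, 17, 18, 17, 17], [19, 18, 18, 17, 17], [17, 19, 18, 17, 17], [18, 19, 18, 17, 17], [17, 17, 19, 17, 17], [18, 17, 19, 17, 17], [19, 17, 19, 17, 17], [17, 18, 19, 17, 17], [18, 18, 19, 17, 17], [19, 18, 19, 17, 17], [19, 17, 17, 18, 17], [19, 18, 17, 18, 17], [17, 19, 17, 18, 17], [17, 19, 18, 18, 17], [18, 19, 18, 18, 17], [17, 17, 19, 18, 17], [18, 17, 19, 18, 17], [19, 17, 19, 18, 17], [17, 18, 19, 18, 17], [18, 18, 19, 18, 17], [19, 18, 19, 18, 17], [17, 17, 17, 19, 17], [18, 17, 17, 19, 17], [19, 17, 17, 19, 17], [17, 18, 17, 19, 17], [18, 18, 17, 19, 17], [19, 18, 17, 19, 17], [17,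 19, 17, 19, 17], [18, 19, 17, 19, 17], [17, 17, 18, 19, 17], [18, 17, 18, 19, 17], [19, 17, 18, 19, 17], [19, 18, 18, 19, 17], [18, 19, 18, 19, 17], [19, 17, 17, 17, 18], [17, 19, 17, 17, 18], [18, 19, 17, 17, 18], [19, 18, 18, 17, 18], [18, 19, 18, 17, 18], [17, 17, 19, 17, 18], [18, 17, 19, 17, 18], [19, 17, 19, 17, 18], [17, 18, 19, 17, 18], [18, 18, 19, 17, 18], [19, 18, 19, 17, 18], [17, 17, 19, 18, 18], [18, 17, 19, 18, 18], [17, 18, 19, 18, 18], [18, 18, 19, 18, 18], [19, 18, 19, 18, 18], [17, 17, 17, 19, 18], [18, 17, 17, 19, 18], [19, 17, 17, 19, 18], [17, 18, 17, 19, 18], [18, 19, 17, 19, 18], [17, 17, 18, 19, 18], [19, 17, 18, 19, 18], [17, 18, 18, 19, 18], [19, 18, 18, 19, 18], [17, 19, 18, 19, 18],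 [18, 17, 17, 17, 19], [17, 18, 17, 17, 19], [18, 18, 17, 17, 19], [19, 18, 17, 17, 19], [17, 19, 17, 17, 19], [18, 19, 17, 17, 19], [18, 17, 18, 17, 19], [19, 18, 18, 17, 19], [17, 19, 18, 17, 19], [18, 17, 19, 17, 19], [17, 18, 19, 17, 19], [18, 18, 19, 17, 19], [17, 17, 17, 18, 19], [19, 17, 17, 18, 19], [18, 18, 17, 18, 19], [19, 18, 17, 18, 19], [17, 19, 17, 18, 19], [18, 19, 17, 18, 19], [17, 19, 18, 18, 19], [18, 19, 18, 18, 19], [17, 17, 19, 18, 19], [19, 17, 19, 18, 19], [18, 18, 19, 18, 19], [18, 17, 18, 17, 17, 17], [19, 17, 18, 17, 17, 17], [17, 17, 19, 17, 17, 17], [18, 17, 19, 17, 17, 17], [19, 17, 19, 17, 17, 17], [19, 18, 19, 17, 17, 17], [19, 17, 17, 18, 17, 17], [18, 19, 17, 18, 17, 17], [18,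 17, 19, 18, 17, 17], [19, 17, 19, 18, 17, 17], [17, 18, 19, 18, 17, 17], [18, 18, 19, 18, 17, 17], [18, 17, 17, 19, 17, 17], [19, 17, 17, 19, 17, 17], [18, 18, 17, 19, 17, 17], [18, 19, 17, 19, 17, 17], [18, 17, 18, 19, 17, 17], [19, 17, 18, 19, 17, 17], [19, 18, 18, 19, 17, 17], [17, 19, 18, 19, 17, 17], [18, 19, 18, 19, 17, 17], [18, 19, 18, 17, 18, 17], [17, 17, 19, 17, 18, 17], [18, 17, 19, 17, 18, 17], [17, 17, 19, 18, 18, 17], [18, 17, 19, 18, 18, 17], [17, 18, 19, 18, 18, 17], [18, 18, 19, 18, 18, 17], [19, 18, 19, 18, 18, 17], [19, 17, 17, 19, 18, 17], [18, 19, 17, 19, 18, 17], [19, 17, 18, 19, 18, 17], [17, 18, 18, 19, 18, 17], [18, 19, 17, 17, 19, 17], [18, 17, 18, 17, 19, 17], [19, 18, 18, 17, 19,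 17], [17, 19, 18, 17, 19, 17], [18, 19, 18, 17, 19, 17], [18, 17, 19, 17, 19, 17], [19, 17, 17, 18, 19, 17], [18, 18, 17, 18, 19, 17], [17, 19, 17, 18, 19, 17], [18, 19, 17, 18, 19, 17], [17, 19, 18, 18, 19, 17], [18, 19, 18, 18, 19, 17], [17, 17, 19, 17, 17, 18], [18, 17, 19, 17, 17, 18], [17, 18, 19, 17, 17, 18], [17, 19, 18, 18, 17, 18], [18, 18, 19, 18, 17, 18], [19, 18, 19, 18, 17, 18], [19, 17, 17, 19, 17, 18], [19, 18, 17, 19, 17, 18], [18, 19, 17, 19, 17, 18], [19, 17, 18, 19, 17, 18], [19, 18, 18, 19, 17, 18], [18, 19, 18, 19, 17, 18], [19, 17, 17, 19, 18, 18], [17, 18, 17, 19, 18, 18], [18, 18, 17, 19, 18, 18], [17, 18, 18, 19, 18, 18], [18, 18, 17, 17, 19, 18], [18, 17, 18, 17, 19, 18], [17, 18, 19,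 17, 19, 18], [17, 17, 17, 18, 19, 18], [17, 19, 17, 18, 19, 18], [18, 17, 18, 18, 19, 18], [19, 17, 18, 18, 19, 18], [17, 19, 18, 18, 19, 18], [18, 19, 18, 18, 19, 18], [19, 17, 19, 18, 19, 18], [17, 18, 17, 17, 17, 19], [19, 17, 18, 17, 17, 19], [17, 19, 18, 17, 17, 19], [18, 18, 19, 17, 17, 19], [19, 18, 17, 18, 17, 19], [17, 19, 18, 18, 17, 19], [18, 19, 18, 18, 17, 19], [18, 18, 17, 19, 17, 19], [19, 17, 17, 17, 18, 19], [17, 19, 17, 17, 18, 19], [18, 19, 17, 17, 18, 19], [17, 17, 19, 17, 18, 19], [18, 18, 19, 17, 18, 19], [18, 17, 19, 18, 18, 19], [19, 18, 19, 18, 18, 19], [17, 17, 17, 19, 18, 19], [18, 17, 17, 19, 18, 19], [18, 19, 17, 19, 18, 19], [18, 19, 17, 18, 17, 17, 17], [18, 19, 18, 19, 17, 17,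 17], [17, 19, 17, 17, 18, 17, 17], [18, 19, 17, 17, 18, 17, 17], [18, 18, 19, 17, 18, 17, 17], [17, 18, 17, 19, 18, 17, 17], [17, 17, 18, 19, 18, 17, 17], [17, 18, 17, 17, 19, 17, 17], [18, 18, 17, 17, 19, 17, 17], [18, 19, 17, 17, 19, 17, 17], [19, 18, 18, 17, 19, 17, 17], [18, 18, 17, 18, 19, 17, 17], [17, 17, 19, 18, 19, 17, 17], [19, 17, 17, 19, 17, 18, 17], [17, 18, 17, 19, 17, 18, 17], [18, 17, 17, 19, 18, 18, 17], [19, 17, 17, 19, 18, 18, 17], [17, 18, 17, 19, 18, 18, 17], [17, 19, 17, 18, 19, 18, 17], [19, 18, 17, 18, 17, 19, 17], [19, 18, 19, 18, 17, 19, 17], [17, 19, 17, 17, 18, 19, 17], [19, 17, 18, 19, 17, 17, 18], [19, 17, 19, 18, 18, 17, 18], [17, 19, 18, 17, 19, 17, 18], [18, 19, 18, 18, 19, 17,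 18], [19, 17, 17, 17, 18, 19, 18], [18, 19, 17, 19, 18, 19, 18], [18, 19, 17, 18, 17, 17, 19], [19, 17, 19, 18, 17, 17, 19], [17, 19, 18, 18, 17, 19, 17, 17]]
def cs2 : List (List ℕ) := [[], [22], [22, 22], [22, 22, 22]]
def g1 : List (List ℕ × List ℕ) := [([7], [0, 0]), ([17], [3, 2, 4, 3, 2, 6, 3, 2, 1, 4, 0, 3, 4, 2, 3, 4, 6, 3, 4, 5, 1, 5, 0, 6, 2, 5, 3, 6, 1, 4, 0, 1, 2, 3, 0, 6, 2, 6, 3, 2, 1, 4, 0, 3, 1, 5, 0, 6, 3, 4, 5, 1, 2, 0, 3, 5, 1, 0, 5, 1, 6, 2, 0, 3, 6, 2, 3, 6, 4, 0, 2, 5, 6, 1, 4, 0, 3, 1, 6]), ([18], [3, 2, 1, 0, 5, 0, 5, 0, 5, 3, 2, 0, 6, 3, 4, 1, 2, 0, 2, 1, 2, 3, 5, 2, 0, 4, 6, 5, 4, 0, 1, 6, 2, 3, 6, 2, 4, 0, 1, 4, 3, 1, 2, 1, 2, 0, 1, 4, 6, 1, 5, 0, 2, 4, 1, 5, 1, 3, 6, 3, 6, 3, 0, 2,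 3, 1, 3, 4, 3, 1, 3, 0, 6, 5, 0, 0]), ([19], [4, 3, 2, 1, 4, 3, 4, 0, 1, 6, 3, 5, 0, 1, 0, 4, 1, 3, 5, 2, 3, 1, 2, 6, 1, 2, 4, 2, 6, 1, 2, 6, 1, 6, 5, 6, 0, 4, 3, 2, 1, 6, 1, 3, 0, 1, 3, 0, 6, 5, 2, 1, 6, 2, 3, 5, 3, 6, 4, 0, 6, 1, 3, 5, 0, 4])]
def g2 : List (List ℕ × List ℕ) := [([8], [17, 17, 17, 17]), ([22], [17, 19, 18, 19, 17, 18, 18, 19, 17, 17]), ([23], [17, 17, 19, 17, 19, 18, 19, 18, 17])]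
def pfT : List (List ℕ × List ℕ × List ℕ) := [([0], [1, 2, 3, 4, 5, 6, 3, 2, 1, 4, 3, 2, 6, 3, 4, 0, 0, 6, 2, 6, 1, 3, 0, 1, 5, 0, 6, 5, 2, 5, 3, 5, 1, 6, 1, 6, 5, 4, 6, 4, 1, 6, 0, 5, 1, 4, 1, 6, 2, 1, 4, 5, 1, 4, 2, 5, 3, 6, 5, 3, 5, 1, 2, 0, 0, 4, 3, 6, 2, 3, 4, 1, 2, 3, 6, 5, 4, 3, 2, 1, 0, 0], [1, 2, 3, 4, 5, 6, 3, 2, 1, 4, 3, 2, 6, 3, 4, 0, 0, 3, 1, 2, 3, 4, 6, 5, 0, 4, 2, 5, 3, 4, 0, 1, 6, 3, 2, 4, 3, 4, 2, 3, 2, 1, 3, 5, 1, 6, 2, 5, 4, 5, 6, 2, 1, 6, 1, 3, 2, 0, 0, 4, 3, 6, 2, 3, 4, 1, 2, 3, 6, 5, 4, 3, 2, 1, 0, 0]), ([1], [0, 1, 1, 2, 3, 4, 5, 6, 3, 2, 1, 4, 3, 2, 6, 3, 4, 0, 0, 6, 2, 6, 1, 3, 0, 1, 5, 0, 6, 5, 2, 5, 3, 5, 1, 6, 1, 6, 5, 4, 6, 4, 1, 6, 0, 5, 1, 4, 1, 6, 2, 1, 4, 5, 1, 4, 2, 5, 3, 6,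 5, 3, 5, 1, 2, 0, 0, 4, 3, 6, 2, 3, 4, 1, 2, 3, 6, 5, 4, 3, 2, 1, 1, 0, 0, 0], [0, 1, 1, 2, 3, 4, 5, 6, 3, 2, 1, 4, 3, 2, 6, 3, 4, 0, 0, 3, 1, 2, 3, 4, 6, 5, 0, 4, 2, 5, 3, 4, 0, 1, 6, 3, 2, 4, 3, 4, 2, 3, 2, 1, 3, 5, 1, 6, 2, 5, 4, 5, 6, 2, 1, 6, 1, 3, 2, 0, 0, 4, 3, 6, 2, 3, 4, 1, 2, 3, 6, 5, 4, 3, 2, 1, 1, 0, 0, 0]), ([2], [1, 2, 0, 1, 1, 2, 3, 4, 5, 6, 3, 2, 1, 4, 3, 2, 6, 3, 4, 0, 0, 6, 2, 6, 1, 3, 0, 1, 5, 0, 6, 5, 2, 5, 3, 5, 1, 6, 1, 6, 5, 4, 6, 4, 1, 6, 0, 5, 1, 4, 1, 6, 2, 1, 4, 5, 1, 4, 2, 5, 3, 6, 5, 3, 5, 1, 2, 0, 0, 4, 3, 6, 2, 3, 4, 1, 2, 3, 6, 5, 4, 3, 2, 1, 1, 0, 2, 1, 0, 0], [1, 2, 0, 1, 1, 2, 3, 4, 5, 6, 3, 2, 1, 4, 3, 2, 6, 3, 4, 0, 0, 3, 1, 2, 3, 4, 6, 5, 0, 4, 2, 5, 3, 4, 0, 1, 6, 3, 2,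 4, 3, 4, 2, 3, 2, 1, 3, 5, 1, 6, 2, 5, 4, 5, 6, 2, 1, 6, 1, 3, 2, 0, 0, 4, 3, 6, 2, 3, 4, 1, 2, 3, 6, 5, 4, 3, 2, 1, 1, 0, 2, 1, 0, 0]), ([3], [2, 3, 1, 2, 0, 1, 1, 2, 3, 4, 5, 6, 3, 2, 1, 4, 3, 2, 6, 3, 4, 0, 0, 6, 2, 6, 1, 3, 0, 1, 5, 0, 6, 5, 2, 5, 3, 5, 1, 6, 1, 6, 5, 4, 6, 4, 1, 6, 0, 5, 1, 4, 1, 6, 2, 1, 4, 5, 1, 4, 2, 5, 3, 6, 5, 3, 5, 1, 2, 0, 0, 4, 3, 6, 2, 3, 4, 1, 2, 3, 6, 5, 4, 3, 2, 1, 1, 0, 2, 1, 3, 2, 0, 0], [2, 3, 1, 2, 0, 1, 1, 2, 3, 4, 5, 6, 3, 2, 1, 4, 3, 2, 6, 3, 4, 0, 0, 3, 1, 2, 3, 4, 6, 5, 0, 4, 2, 5, 3, 4, 0, 1, 6, 3, 2, 4, 3, 4, 2, 3, 2, 1, 3, 5, 1, 6, 2, 5, 4, 5, 6, 2, 1, 6, 1, 3, 2, 0, 0, 4, 3, 6, 2, 3, 4, 1, 2, 3, 6, 5, 4, 3, 2, 1, 1, 0, 2, 1, 3, 2, 0, 0]), ([4], [3, 4, 2, 3, 1, 2,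 0, 1, 1, 2, 3, 4, 5, 6, 3, 2, 1, 4, 3, 2, 6, 3, 4, 0, 0, 6, 2, 6, 1, 3, 0, 1, 5, 0, 6, 5, 2, 5, 3, 5, 1, 6, 1, 6, 5, 4, 6, 4, 1, 6, 0, 5, 1, 4, 1, 6, 2, 1, 4, 5, 1, 4, 2, 5, 3, 6, 5, 3, 5, 1, 2, 0, 0, 4, 3, 6, 2, 3, 4, 1, 2, 3, 6, 5, 4, 3, 2, 1, 1, 0, 2, 1, 3, 2, 4, 3, 0, 0], [3, 4, 2, 3, 1, 2, 0, 1, 1, 2, 3, 4, 5, 6, 3, 2, 1, 4, 3, 2, 6, 3, 4, 0, 0, 3, 1, 2, 3, 4, 6, 5, 0, 4, 2, 5, 3, 4, 0, 1, 6, 3, 2, 4, 3, 4, 2, 3, 2, 1, 3, 5, 1, 6, 2, 5, 4, 5, 6, 2, 1, 6, 1, 3, 2, 0, 0, 4, 3, 6, 2, 3, 4, 1, 2, 3, 6, 5, 4, 3, 2, 1, 1, 0, 2, 1, 3, 2, 4, 3, 0, 0]), ([5], [4, 5, 3, 4, 2, 3, 1, 2, 0, 1, 1, 2, 3, 4, 5, 6, 3, 2, 1, 4, 3, 2, 6, 3, 4, 0, 0, 6, 2, 6, 1, 3, 0, 1, 5, 0, 6, 5, 2, 5, 3, 5, 1, 6, 1, 6, 5, 4, 6, 4, 1, 6,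 0, 5, 1, 4, 1, 6, 2, 1, 4, 5, 1, 4, 2, 5, 3, 6, 5, 3, 5, 1, 2, 0, 0, 4, 3, 6, 2, 3, 4, 1, 2, 3, 6, 5, 4, 3, 2, 1, 1, 0, 2, 1, 3, 2, 4, 3, 5, 4, 0, 0], [4, 5, 3, 4, 2, 3, 1, 2, 0, 1, 1, 2, 3, 4, 5, 6, 3, 2, 1, 4, 3, 2, 6, 3, 4, 0, 0, 3, 1, 2, 3, 4, 6, 5, 0, 4, 2, 5, 3, 4, 0, 1, 6, 3, 2, 4, 3, 4, 2, 3, 2, 1, 3, 5, 1, 6, 2, 5, 4, 5, 6, 2, 1, 6, 1, 3, 2, 0, 0, 4, 3, 6, 2, 3, 4, 1, 2, 3, 6, 5, 4, 3, 2, 1, 1, 0, 2, 1, 3, 2, 4, 3, 5, 4, 0, 0]), ([6], [3, 6, 2, 3, 1, 2, 0, 1, 1, 2, 3, 4, 5, 6, 3, 2, 1, 4, 3, 2, 6, 3, 4, 0, 0, 6, 2, 6, 1, 3, 0, 1, 5, 0, 6, 5, 2, 5, 3, 5, 1, 6, 1, 6, 5, 4, 6, 4, 1, 6, 0, 5, 1, 4, 1, 6, 2, 1, 4, 5, 1, 4, 2, 5, 3, 6, 5, 3, 5, 1, 2, 0, 0, 4, 3, 6, 2, 3, 4, 1, 2, 3, 6, 5, 4, 3, 2, 1, 1, 0,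 2, 1, 3, 2, 6, 3, 0, 0], [3, 6, 2, 3, 1, 2, 0, 1, 1, 2, 3, 4, 5, 6, 3, 2, 1, 4, 3, 2, 6, 3, 4, 0, 0, 3, 1, 2, 3, 4, 6, 5, 0, 4, 2, 5, 3, 4, 0, 1, 6, 3, 2, 4, 3, 4, 2, 3, 2, 1, 3, 5, 1, 6, 2, 5, 4, 5, 6, 2, 1, 6, 1, 3, 2, 0, 0, 4, 3, 6, 2, 3, 4, 1, 2, 3, 6, 5, 4, 3, 2, 1, 1, 0, 2, 1, 3, 2, 6, 3, 0, 0])]
def cw : List (List ℕ) := [[], [], [], [0, 0, 0], [], [], [], [], [], [], [], [], [], [], [], [], [], [], [], [], [], [], [], [], [3, 2, 1, 6, 3, 2], [0, 3, 2, 1, 6, 3, 2, 0, 0], [0, 3, 2, 1, 0, 6, 3, 0, 0], [3, 2, 1, 0, 6, 3], [], [], [], [], [], [], [], [], [], [], [], [], [], [], [], [], [], [], [], [], [4, 3, 2, 1, 6, 3, 2, 1, 4, 3, 2, 5, 4, 6, 3, 4], [0, 4, 3, 2, 1, 0, 6, 3, 2, 1, 4, 3, 2, 5, 4, 3], [2, 1,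 3, 2, 4, 3, 2, 1, 0, 5, 4, 3, 2, 6, 3, 4], [2, 1, 3, 2, 4, 3, 2, 1, 5, 4, 3, 2, 6, 3, 2, 4], [0, 3, 2, 1, 0, 6, 3, 2, 1, 0, 0], [3, 2, 1, 0, 6, 3, 2, 1], [3, 2, 6, 3], [0, 3, 2, 6, 3, 0, 0], [4, 3, 2, 1, 5, 4, 3, 2, 6, 3, 2, 4], [4, 3, 6, 3, 2, 1, 4, 3, 2, 6, 3, 4], [4, 3, 2, 1, 0, 5, 4, 3, 2, 6, 3, 4], [4, 6, 3, 2, 1, 0, 4, 3, 2, 6, 3, 4], [0, 3, 2, 1, 6, 3], [3, 2, 1, 6, 3, 0, 0], [0, 3, 2, 1, 0, 6, 3, 2], [3, 2, 1, 0, 6, 3, 2, 0, 0], [], [], [], [], [], [], [], [], [], [], [], [], [], [], [], [], [], [], [], [], [], [], [], [], [], [], [], [], [], [], [], [], [], [], [], [], [], [], [], [], [], [], [], [], [], [], [], [], [], [], [], [], [], [], [], [], [], [], [], [], [], [], [], [], [], [], [], [], [],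 [], [], [], [1, 2, 1, 3, 2, 6, 3, 0, 0], [2, 1, 3, 2, 6, 3], [2, 1, 0, 3, 2, 6, 3, 2], [1, 2, 1, 0, 3, 2, 6, 3, 2, 0, 0], [], [], [], [], [], [], [], [], [], [], [], [], [1, 2, 1, 3, 2, 4, 5, 4, 3, 0, 0], [2, 1, 3, 2, 4, 5, 4, 3], [2, 1, 0, 3, 2, 4, 5, 4, 3, 2], [2, 1, 0, 5, 6, 3, 2, 4, 3, 5], [], [], [], [], [0, 2, 1, 3, 2, 4, 3, 5, 6, 3, 2, 1, 4, 3, 2, 6, 3, 4], [0, 2, 1, 3, 2, 4, 5, 6, 3, 2, 1, 0, 4, 3, 2, 6, 3, 4], [0, 2, 3, 4, 3, 2, 5, 6, 3, 2, 1, 0, 4, 3, 2, 1, 5, 6, 3, 2, 4, 3], [0, 2, 3, 4, 3, 2, 1, 5, 4, 3, 6, 3, 2, 1, 4, 3, 2, 5, 4, 6, 3, 4], [2, 1, 0, 3, 2, 1, 6, 3], [1, 2, 1, 0, 3, 2, 1, 6, 3, 0, 0], [1, 2, 1, 3, 2, 6, 3, 2, 1, 0, 0], [2, 1, 3, 2, 6, 3, 2, 1], [0, 4, 3, 2, 1, 6, 3, 2, 4, 0, 0], [4,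 3, 2, 1, 6, 3, 2, 4], [0, 4, 3, 2, 1, 0, 6, 3, 4, 0, 0], [4, 3, 2, 1, 0, 6, 3, 4], [1, 2, 1, 3, 2, 6, 3, 2], [2, 1, 3, 2, 6, 3, 2, 0, 0], [1, 2, 1, 0, 3, 2, 6, 3], [2, 1, 0, 3, 2, 6, 3, 0, 0], [0, 4, 3, 2, 1, 6, 3, 2, 4, 3, 5, 4, 6, 3], [4, 3, 2, 1, 6, 3, 2, 4, 3, 5, 4, 6, 3, 0, 0], [3, 2, 4, 3, 2, 1, 5, 4, 6, 3, 2, 4], [3, 2, 4, 3, 2, 1, 0, 5, 4, 6, 3, 4], [2, 1, 0, 3, 2, 1, 4, 5, 4, 3], [1, 2, 1, 0, 3, 2, 1, 4, 5, 4, 3, 0, 0], [2, 1, 5, 6, 3, 2, 1, 4, 3, 5], [2, 1, 3, 2, 4, 5, 4, 3, 2, 1], [0, 2, 3, 4, 5, 6, 3, 2, 1, 0, 4, 3, 2, 5, 4, 6, 3, 4], [0, 2, 3, 2, 4, 5, 6, 3, 2, 1, 0, 4, 3, 2, 5, 4, 6, 3, 4, 0, 0], [0, 2, 3, 4, 5, 6, 3, 2, 1, 4, 3, 2, 5, 4, 6, 3, 2, 4], [0, 2, 3, 2, 4, 5, 6, 3, 2, 1, 4, 3, 2, 5,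 4, 6, 3, 2, 4, 0, 0], [2, 1, 5, 6, 3, 2, 4, 3, 5, 0, 0], [2, 1, 3, 2, 4, 5, 4, 3, 2, 0, 0], [1, 2, 1, 0, 3, 2, 4, 5, 4, 3], [2, 1, 0, 3, 2, 4, 5, 4, 3, 0, 0], [], [], [], [], [], [], [], [], [], [], [], [], [], [], [], [], [], [], [], [], [], [], [], [], [], [], [], [], [], [], [], [], [], [], [], [], [], [], [], [], [], [], [], [], [], [], [], [], [], [], [], [], [], [], [], [], [], [], [], [], [], [], [], [], [], [1, 0, 0], [0, 2, 3, 2, 1, 0, 4, 5, 4, 6, 3, 2], [0, 2, 1, 0, 3, 4, 5, 4, 6, 3, 2, 0, 0], [0, 2, 3, 4, 5, 4, 6, 3], [0, 2, 3, 2, 4, 5, 4, 6, 3, 0, 0], [0, 2, 1, 0, 0], [0, 3, 2, 1], [0, 1, 0, 2, 1, 0], [0, 1, 2, 1, 0, 0, 0], [1, 2, 3, 4, 5, 4, 6, 3, 2, 0, 0], [2, 3, 4, 5, 4, 6, 3, 2], [0, 3, 2, 0,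 0], [0, 2], [0, 2, 1, 3, 4, 5, 4, 6, 3, 0, 0], [0, 2, 3, 2, 1, 4, 5, 4, 6, 3], [6, 0, 0], [1, 6], [0, 2, 1, 0, 3, 5, 4, 6, 3, 2, 4, 5], [0, 2, 1, 0, 3, 4, 5, 4, 3, 6, 3, 2], [0, 2, 3, 4, 5, 4, 3, 6, 3, 0, 0], [0, 2, 3, 5, 4, 6, 3, 4, 5, 0, 0], [0, 2, 1, 6], [0, 3, 2, 1, 6, 0, 0], [0, 1, 0, 2, 1, 0, 6, 0, 0], [0, 1, 2, 1, 0, 6], [2, 3, 5, 4, 6, 3, 2, 4, 5, 0, 0], [2, 3, 4, 5, 4, 3, 6, 3, 2, 0, 0], [0, 3, 2, 6], [0, 2, 6, 0, 0], [0, 2, 1, 3, 4, 5, 4, 3, 6, 3], [0, 2, 1, 3, 5, 4, 6, 3, 4, 5], [], [], [], [], [], [], [], [], [], [], [], [], [], [], [], [], [], [], [], [], [], [], [], [], [], [], [], [], [], [], [], [], [], [], [], [], [], [], [], [], [], [], [], [], [], [], [], [], [], [], [], [], [], [], [], [],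 [2, 1, 4, 6, 3, 2, 1, 4, 3, 2, 5, 4, 6, 3, 4, 0, 0], [2, 1, 3, 2, 4, 3, 2, 1, 5, 4, 3, 2, 6, 3, 4, 0, 0], [0, 4, 3, 2, 1, 0, 5, 6, 3, 2, 1, 4, 3, 2, 5, 4, 3, 0, 0], [0, 4, 3, 2, 1, 0, 6, 3, 2, 1, 0, 4, 3, 2, 5, 4, 3, 0, 0], [6, 3, 2, 1, 4, 3, 2, 6, 3, 4], [1, 6, 3, 2, 1, 4, 3, 2, 6, 3, 4, 0, 0], [4, 3, 6, 3, 2, 1, 0, 4, 3, 2, 1, 6, 3, 4], [4, 3, 2, 1, 0, 5, 4, 3, 2, 6, 3, 2, 1, 4], [], [], [], [], [], [], [], [], [], [], [], [], [], [], [], [], [], [], [], [], [4, 3, 6, 3, 2, 1, 0, 4, 3, 2, 6, 3, 4, 0, 0], [4, 3, 2, 1, 0, 5, 4, 3, 2, 6, 3, 2, 4, 0, 0], [4, 3, 2, 1, 5, 4, 3, 2, 6, 3, 4, 0, 0], [4, 6, 3, 2, 1, 4, 3, 2, 6, 3, 4, 0, 0], [1, 2, 1, 6, 3, 2, 1, 4, 3, 2, 5, 4, 6, 3, 4, 0, 0], [2, 1, 6, 3, 2, 1, 4, 3,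 2, 5, 4, 6, 3, 4], [0, 4, 3, 2, 1, 0, 5, 4, 6, 3, 2, 1, 4, 3, 2, 5, 4, 3], [0, 4, 3, 2, 1, 0, 6, 3, 2, 1, 0, 4, 3, 2, 1, 5, 4, 3], [], [], [], [], [], [], [], [], [], [], [], [], [], [], [], [], [], [], [], [], [], [], [], [], [], [], [], [], [], [], [], [], [], [], [], [], [], [], [], [], [], [], [], [], [], [], [], [], [], [], [], [], [], [], [], [], [], [], [], [], [], [], [], [], [], [], [], [], [], [], [], [], [], [], [], [], [3, 2, 4, 3, 2, 6, 3, 2, 1, 4, 3, 0, 0], [3, 2, 4, 3, 2, 1, 5, 4, 6, 3, 4, 0, 0], [4, 3, 2, 1, 0, 6, 3, 2, 4, 3, 5, 4, 6, 3], [4, 3, 2, 1, 6, 3, 2, 4, 3, 5, 4, 6, 3, 2], [0, 2, 3, 2, 4, 5, 6, 3, 2, 1, 0, 4, 3, 2, 5, 4, 6, 3, 2, 1, 4, 0, 0], [0, 2, 3, 4, 5, 6, 3, 2, 1, 0, 4, 3, 2, 5,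 4, 6, 3, 2, 1, 4], [0, 2, 3, 4, 5, 4, 3, 2, 6, 3, 2, 1, 4, 3, 2, 6, 3, 4], [0, 2, 3, 4, 5, 4, 6, 3, 2, 1, 4, 3, 2, 5, 4, 6, 3, 4], [], [], [], [], [], [], [], [], [0, 2, 3, 4, 3, 2, 1, 5, 4, 3, 6, 3, 2, 1, 0, 4, 3, 2, 5, 4, 6, 3, 4, 0, 0], [0, 2, 3, 4, 3, 2, 1, 5, 4, 3, 6, 3, 2, 1, 4, 3, 2, 5, 4, 6, 3, 2, 4, 0, 0], [0, 2, 1, 3, 2, 1, 4, 5, 6, 3, 2, 1, 4, 3, 2, 6, 3, 4], [0, 2, 1, 3, 2, 4, 5, 6, 3, 2, 1, 4, 3, 2, 6, 3, 4, 0, 0], [0, 4, 3, 2, 6, 3, 4, 0, 0], [4, 3, 2, 6, 3, 4], [0, 4, 3, 2, 1, 0, 6, 3, 2, 1, 4, 0, 0], [4, 3, 2, 1, 0, 6, 3, 2, 1, 4], [], [], [], [], [0, 2, 3, 4, 5, 6, 3, 2, 1, 4, 3, 2, 5, 4, 6, 3, 4, 0, 0], [0, 2, 3, 2, 4, 5, 6, 3, 2, 1, 4, 3, 2, 5, 4, 6, 3, 4], [0, 2, 3, 2, 4, 5, 6, 3, 2, 1, 0,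 4, 3, 2, 5, 4, 6, 3, 2, 4], [0, 2, 3, 4, 5, 6, 3, 2, 1, 0, 4, 3, 2, 5, 4, 6, 3, 2, 4, 0, 0], [3, 2, 4, 3, 2, 6, 3, 2, 4, 3], [3, 2, 4, 3, 2, 5, 4, 6, 3, 4], [4, 3, 2, 1, 0, 6, 3, 2, 1, 4, 3, 2, 5, 4, 3, 0, 0], [4, 3, 2, 1, 0, 6, 3, 2, 1, 4, 3, 5, 4, 6, 3, 0, 0], [], [], [], [], [], [], [], [], [4, 3, 2, 1, 0, 6, 3, 2, 4, 0, 0], [0, 4, 3, 2, 1, 0, 6, 3, 2, 4], [0, 4, 3, 2, 1, 6, 3, 4], [4, 3, 2, 1, 6, 3, 4, 0, 0], [0, 2, 3, 4, 3, 2, 1, 5, 4, 3, 6, 3, 2, 1, 0, 4, 3, 2, 1, 5, 4, 6, 3, 4], [0, 2, 3, 4, 3, 2, 1, 5, 4, 3, 6, 3, 2, 1, 4, 3, 2, 5, 4, 6, 3, 2, 1, 4], [0, 2, 1, 3, 2, 4, 5, 4, 6, 3, 2, 1, 4, 3, 2, 6, 3, 4], [0, 2, 1, 3, 2, 1, 4, 5, 4, 6, 3, 2, 1, 4, 3, 2, 6, 3, 4, 0, 0], [], [], [], [], [], [], [0, 6,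 3, 2], [0, 3, 6, 3, 2, 0, 0], [], [], [], [], [], [], [0, 2, 3, 4, 5, 4, 3, 2, 6, 3], [0, 2, 3, 5, 6, 3, 2, 4, 3, 5], [], [], [], [], [0, 2, 1, 3, 2, 1, 4, 5, 4, 6, 3, 0, 0], [0, 2, 1, 3, 2, 4, 5, 4, 6, 3], [], [], [], [], [], [], [0, 1, 2, 1, 3, 2], [0, 1, 0, 2, 1, 3, 2, 0, 0], [], [], [], [], [], [], [], [], [6, 3], [1, 6, 3, 0, 0], [], [], [], [], [2, 3, 5, 4, 6, 3, 2, 4, 3, 5], [2, 3, 4, 5, 4, 3, 2, 6, 3, 2], [], [], [], [], [], [], [0, 2, 1, 3, 2, 1, 0, 4, 5, 4, 6, 3, 2, 0, 0], [0, 2, 1, 0, 3, 2, 4, 5, 4, 6, 3, 2], [], [], [], [], [], [], [], [], [0, 1, 0, 2, 1, 0, 3, 0, 0], [0, 1, 2, 1, 0, 3], [], [], [], [], [], [], [], [], [], [], [], [], [], [], [], [], [], [], [], [], [], [], [], [], [], [], [], [],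 [], [], [], [], [], [], [], [], [], [], [], [], [], [], [], [], [], [], [], [], [], [], [], [], [], [], [], [], [], [], [], [], [], [], [], [], [], [], [], [], [], [], [2, 3, 4, 6, 3, 2, 1, 4, 3, 2, 5, 4, 6, 3, 2, 4], [1, 2, 3, 4, 6, 3, 2, 1, 4, 3, 2, 5, 4, 6, 3, 2, 4, 0, 0], [], [], [], [], [], [], [0, 1, 4, 3, 2, 6, 3, 2, 1, 0, 4, 3], [0, 1, 4, 3, 2, 1, 0, 5, 4, 6, 3, 4], [], [], [], [], [], [], [0, 1, 0, 2, 3, 4, 3, 2, 1, 0, 6, 3, 4, 0, 0], [0, 1, 2, 3, 4, 3, 2, 1, 0, 6, 3, 4], [], [], [], [], [], [], [0, 4, 3, 2, 1, 6, 3, 2, 1, 0, 4, 3, 2, 5, 4, 6, 3, 2], [0, 4, 3, 2, 1, 0, 5, 4, 6, 3, 2, 4, 3, 5, 4, 6, 3, 2], [], [], [], [], [], [], [2, 3, 4, 6, 3, 2, 1, 0, 4, 3, 2, 5, 4, 6, 3, 4], [1, 2, 3, 4, 6, 3, 2,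 1, 0, 4, 3, 2, 5, 4, 6, 3, 4, 0, 0], [], [], [], [], [0, 1, 4, 3, 2, 1, 5, 4, 6, 3, 2, 4], [0, 1, 4, 3, 2, 6, 3, 2, 1, 4, 3, 2], [], [], [], [], [], [], [], [], [0, 1, 0, 2, 3, 4, 3, 2, 1, 6, 3, 2, 4, 0, 0], [0, 1, 2, 3, 4, 3, 2, 1, 6, 3, 2, 4], [], [], [], [], [0, 4, 3, 2, 1, 5, 4, 6, 3, 2, 4, 3, 5, 4, 6, 3], [0, 4, 3, 2, 1, 6, 3, 2, 1, 4, 3, 2, 5, 4, 6, 3], [], [], [], [], [], [], [], [], [], [], [], [], [], [], [], [], [], [], [], [], [], [], [], [], [], [], [], [], [], [], [], [], [], [], [], [], [], [], [], [], [], [], [], [], [], [], [], [], [], [], [], [], [], [], [], [], [], [], [], [], [], [], [], [], [], [], [], [], [], [], [], [], [], [], [], [], [0, 3, 2, 1, 6, 0, 0], [3, 2, 1, 6], [], [], [], [],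 [0, 3, 2, 6], [3, 2, 6, 0, 0], [], [], [], [], [], [], [], [], [3, 2, 1, 0, 0], [0, 3, 2, 1], [], [], [], [], [3, 2], [0, 3, 2, 0, 0], [], [], [0, 3, 2, 1, 0, 6], [3, 2, 1, 0, 6, 0, 0], [], [], [], [], [], [], [3, 6], [0, 3, 6, 0, 0], [], [], [], [], [], [], [3, 2, 1, 0], [0, 3, 2, 1, 0, 0, 0], [], [], [], [], [], [], [0, 3], [3, 0, 0], [], [], [], [], [], [], [], [], [], [], [], [], [], [], [], [], [], [], [], [], [], [], [], [], [], [], [], [], [], [], [], [], [], [], [], [], [], [], [], [], [], [], [], [], [], [], [], [], [], [], [], [], [], [], [], [], [], [], [], [], [], [], [], [], [], [], [], [], [], [], [], [], [], [], [], [], [], [], [], [], [], [], [], [], [], [], [], [], [], [], [], [], [], [], [],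 [], [], [], [], [], [], [], [], [], [], [], [], [], [], [], [], [], [], [], [], [], [], [], [], [], [], [], [], [], [], [], [], [], [], [], [], [], [], [], [], [], [], [], [], [], [], [], [], [], [], [], [], [], [], [], [], [], [], [], [], [], [], [], [], [], [], [], [], [], [], [], [], [], [], [], [], [], [], [], [], [], [], [], [], [], [], [], [], [], [], [], [], [], [], [], [], [], [], [], [], [], [], []]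
def qq : List ℕ := [16]
def w2 : List ℕ := [11, 10]
def cjT : List (List ℕ × List ℕ × List ℕ) := [([8], [2, 3, 6, 1, 2, 3], [11, 10]), ([8], [3, 6, 0, 1, 2, 3, 0], [8, 11, 10])]
theorem lrR : relS 27 sg (RZ.map fun r => (r, [7])) = true := by decide +kernel
theorem lrc : eqS 27 sg c9 [] = true := by decide +kernel
theorem r0 : eqS 27 sg [7, 7] [] = true := by decide +kernel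
theorem r1 : eqS 27 sg [24, 7] [8, 24] = true := by decide +kernel
theorem r2 : eqS 27 sg [24, 8] [7, 8, 24] = true := by decide +kernel
theorem r3 : eqS 27 sg [26, 25] [15, 26] = true := by decide +kernel
theorem r4 : eqS 27 sg (qq ++ [8]) (7 :: 8 :: qq) = true := by decide +kernel
theorem r5 : eqS 27 sg (qq ++ w2) (7 :: (w2 ++ qq)) = true := by decide +kernel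
theorem n0 : neS 27 sg [7] [] = true := by decide +kernel
theorem n1 : neS 27 sg [8] [7] = true := by decide +kernel
theorem n2 : neS 27 sg [8, 0] [0, 8] = true := by decide +kernel
theorem n3 : neS 27 sg [7, 8, 0] [0, 7, 8] = true := by decide +kernel
theorem clZ : clB 27 sg [[7]] (SZ.map fun l => [l]) = true := by decide +kernel
theorem clV : clB 27 sg [[8], [7]] (SV.map fun l => [l]) = true := by decide +kernel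
theorem clV0 : clB 27 sg [[21], [20], [8], [7]] ([7, 8].map fun l => [l]) = true := by decide +kernel
theorem ndV : ndB 27 sg (prods [7, 8]) [] = true := by decide +kernel
theorem st0 : stB 27 sg IV S7 [[7]] [8] cs0 = true := by decide +kernel
theorem st1 : stB 27 sg IV [17, 18, 19] [[8], [7]] [20] cs1 = true := by decide +kernel
theorem st2 : stB 27 sg IV [22, 23] [[20], [8], [7]] [21] cs2 = true := by decide +kernel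
theorem g1B : gnB 27 sg S7 g1 = true := by decide +kernel
theorem g2B : gnB 27 sg [17, 18, 19] g2 = true := by decide +kernel
theorem pfTB : pfB 27 sg S7 pfT = true := by decide +kernel
theorem cjTB : cjB 27 sg S7 cjT = true := by decide +kernel
theorem ndS : ndB 27 sg (prods SL) [] = true := by decide +kernel
theorem rpS : rpB (prods SL) cw = true := by decide +kernel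

end H71.C3C
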