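/- WZ tower, slot Q: automorphisms of order three of `Q₈`, one side of the frame. -/
import Cfsg.Agent.H8.WZKit

set_option autoImplicit false
set_option maxRecDepth 100000

namespace H71.WZ
open Cfsg Cfsg.FusionSystem H92 H86 H35.G2S Subgroup H8.WZ

abbrev Q8 := QuaternionGroup 2

def ph (p q : Q8) : Q8 → Q8
  | .a n => p ^ n.val
  | .xa n => q * p ^ n.val

def Gd (f : Q8 → Q8) : Prop :=
  (∀ r, r * r ≠ 1 → f r ≠ r ∧ f r ≠ r⁻¹ ∧ f r * f r ≠ 1) ∧ ∀ x y, f (x * y) = f x * f y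

instance (f : Q8 → Q8) : Decidable (Gd f) := by unfold Gd; infer_instance

theorem ph_main : ∀ p q, Gd (ph p q) → (∀ x, ph p q (ph p q (ph p q x)) = x) ∧
    ∀ p' q', Gd (ph p' q') → ∃ c, (∀ x, ph p' q' x = c * ph p q x * c⁻¹) ∨
      ∀ x, ph p' q' x = c * ph p q (ph p q x) * c⁻¹ := by decide +kernel

theorem eq_ph (α : MulAut Q8) : ⇑α = ph (α (.a 1)) (α (.xa 0)) := funext fun x =>
  (congrArg α ((by decide : ∀ x : Q8, x = ph (.a 1) (.xa 0) x) x)).trans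
    (by cases x <;> simp only [ph, map_mul, map_pow])

theorem q8_aut {G : Type*} [Group G] (e : G ≃* Q8) {α β : MulAut G}
    (hα : ∀ r, r * r ≠ 1 → α r ≠ r ∧ α r ≠ r⁻¹) (hβ : ∀ r, r * r ≠ 1 → β r ≠ r ∧ β r ≠ r⁻¹) :
    α ^ 3 = 1 ∧ ∃ c, (∀ x, β x = c * α x * c⁻¹) ∨ ∀ x, β x = c * α (α x) * c⁻¹ := by
  have gd : ∀ {α : MulAut G}, (∀ r, r * r ≠ 1 → α r ≠ r ∧ α r ≠ r⁻¹) →
      Gd (MulAut.congr e α) := fun {α} h => ⟨fun r hr => by
    obtain ⟨r, rfl⟩ := e.surjective r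
    rw [← map_mul, e.map_ne_one_iff] at hr
    rw [← map_mul, ← map_mul, MulEquiv.map_ne_one_iff, e.map_ne_one_iff, ← map_inv]
    simpa [hr, -map_inv] using h r hr, map_mul _⟩
  obtain ⟨h1, h2⟩ := ph_main _ _ (eq_ph (MulAut.congr e α) ▸ gd hα)
  obtain ⟨c, h3⟩ := h2 _ _ (eq_ph (MulAut.congr e β) ▸ gd hβ)
  rw [← eq_ph] at h1
  rw [← eq_ph, ← eq_ph] at h3
  refine ⟨MulEquiv.ext fun x => ?_, e.symm c, h3.imp (fun h x => ?_) fun h x => ?_⟩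
  · simpa [pow_three] using h1 (e x)
  · simpa using congrArg e.symm (h (e x))
  · simpa using congrArg e.symm (h (e x))

variable {Ω : Type*} [Group Ω] {S A B N : Subgroup Ω} {j a b a' b' : Ω} {k : ℕ}
  {F C : FusionSystem S}

/-- One of the two quaternion subgroups. -/
structure Sd (S : Subgroup Ω) (j : Ω) (A : Subgroup Ω) (k : ℕ) (a b : Ω) : Prop where
  k2 : 2 ≤ k
  gq : GQ A (2 * k) a b
  z : a ^ (2 * k) = j
  inv : ∀ s ∈ S, s * a * s⁻¹ = a ∨ s * a * s⁻¹ = a⁻¹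
  mv : ∀ n : ℤ, ∃ s ∈ S, s * a * s⁻¹ = a ∧ s * b * s⁻¹ = b * a ^ n

namespace Sd
variable (h : Sd S j A k a b)
include h

theorem gq8 (m : ℤ) : GQ (q8 k a b m) 2 (a ^ (k : ℤ)) (b * a ^ m) := by
  have := h.gq.Q8_sub (by have := h.k2; omega) m
  rwa [q8, ← zpow_natCast]

theorem q8_le (m : ℤ) : q8 k a b m ≤ A := fun r hr => by
  obtain ⟨i, rfl | rfl⟩ := ((h.gq8 m).mem r).1 hr
  exacts [zpow_mem (h.gq.a_mem _) _, mul_mem (h.gq.ba_mem _) (zpow_mem (h.gq.a_mem _) _)]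

theorem cj {s r : Ω} {n m m' : ℤ} (e : s * a * s⁻¹ = a) (e' : s * b * s⁻¹ = b * a ^ n)
    (hm : m' = n + m) (hr : r ∈ q8 k a b m) : s * r * s⁻¹ ∈ q8 k a b m' := by
  have h1 : ∀ i : ℤ, s * a ^ i * s⁻¹ = a ^ i := fun i => by rw [← conj_zpow, e]
  obtain ⟨i, rfl | rfl⟩ := ((h.gq8 m).mem r).1 hr
  · rw [← conj_zpow, h1]
    exact (h.gq8 m').a_mem i
  · rw [← conj_mul, ← conj_mul, ← conj_zpow (i := i), h1, h1, e', mul_assoc b, ← zpow_add, ← hm]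
    exact (h.gq8 m').ba_mem i

theorem move {m : ℤ} {ψ : Ω → Ω} (hψ : Mor F (q8 k a b m) ψ)
    (h1 : ∀ r ∈ q8 k a b m, ψ r ∈ q8 k a b m) (h2 : Fpf (q8 k a b m) ψ) (hA : A ≤ S) (m' : ℤ) :
    ∃ ψ', Mor F (q8 k a b m') ψ' ∧ (∀ r ∈ q8 k a b m', ψ' r ∈ q8 k a b m') ∧
      Fpf (q8 k a b m') ψ' := by
  obtain ⟨s, hs, e, e'⟩ := h.mv (m' - m)
  have e1 : s⁻¹ * a * s⁻¹⁻¹ = a := by
    nth_rw 1 [← e]
    group
  have e2 : s⁻¹ * b * s⁻¹⁻¹ = b * a ^ (m - m') := by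
    calc _ = s⁻¹ * (b * a ^ (m' - m) * (s * a * s⁻¹) ^ (m - m')) * s := by rw [e]; group
      _ = _ := by rw [← e', conj_zpow]; group
  have h3 : ∀ r ∈ q8 k a b m', s⁻¹ * r * s ∈ q8 k a b m := fun r hr => by
    simpa using h.cj e1 e2 (by ring) hr
  refine ⟨_, ((mor_conj' F ((h.q8_le m').trans hA) hs).comp hψ h3).comp (mor_conj F le_rfl hs)
    fun r hr => hψ.mem (h3 r hr), fun r hr => h.cj e e' (by ring) (h1 _ (h3 r hr)),
    fun r hr r2 => ?_⟩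
  obtain ⟨f1, f2⟩ := h2 _ (h3 r hr) fun f => r2 (by
    calc _ = s * (s⁻¹ * r * s * (s⁻¹ * r * s)) * s⁻¹ := by group
      _ = 1 := by rw [f]; group)
  refine ⟨fun f => f1 ?_, fun f => f2 ?_⟩
  · calc _ = s⁻¹ * (s * ψ (s⁻¹ * r * s) * s⁻¹) * s := by group
      _ = _ := by rw [show s * ψ (s⁻¹ * r * s) * s⁻¹ = r from f]
  · calc _ = s⁻¹ * (s * ψ (s⁻¹ * r * s) * s⁻¹) * s := by group
      _ = _ := by rw [show s * ψ (s⁻¹ * r * s) * s⁻¹ = r⁻¹ from f]; group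

variable (qp : QP S j A B)
include qp

theorem cent {r r' s : Ω} (hr : r ∈ A) (hr' : r' ∈ A) (nc : r * r' ≠ r' * r) (hs : s ∈ S)
    (e : Commute s r) (e' : Commute s r') : s ∈ B := by
  have key : ∀ i m : ℤ, ¬ Commute (a ^ i) (b * a ^ m) → Commute s (a ^ i) →
      Commute s (b * a ^ m) → s ∈ B := fun i m nc e e' => by
    rcases h.inv s hs with f | f
    · have f' : Commute s a := mul_inv_eq_iff_eq_mul.1 f
      have f'' : Commute s b := by simpa using e'.mul_right (f'.zpow_right m).inv_right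
      refine qp.c₁ s hs fun c hc => ?_
      obtain ⟨l, rfl | rfl⟩ := (h.gq.mem c).1 hc
      exacts [f'.zpow_right l, f''.mul_right (f'.zpow_right l)]
    · have f1 : a ^ (-i) = a ^ i := by
        rw [zpow_neg, ← inv_zpow, ← f, conj_zpow, e.eq, mul_inv_cancel_right]
      exact absurd (mul_inv_eq_iff_eq_mul.1 ((h.gq.ba_conj m i).trans f1)).symm nc
  obtain ⟨i, rfl | rfl⟩ := (h.gq.mem r).1 hr <;> obtain ⟨m, rfl | rfl⟩ := (h.gq.mem r').1 hr'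
  · exact absurd (zpow_mul_comm _ _ _) nc
  · exact key i m nc e e'
  · exact key m i nc.symm e' e
  · have e1 : a ^ (m - i) = (b * a ^ i)⁻¹ * (b * a ^ m) := by group
    refine key (m - i) i (fun f => nc ?_) (e1 ▸ e.inv_right.mul_right e') e
    rw [e1] at f
    simpa [mul_assoc] using ((Commute.refl (b * a ^ i)).mul_left f).symm.eq

omit qp in
theorem nc (m : ℤ) : a ^ (k : ℤ) * (b * a ^ m) ≠ b * a ^ m * a ^ (k : ℤ) :=
  ((h.gq8 m).not_comm le_rfl).symm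

theorem cS_eq (m : ℤ) : centralizerIn S (q8 k a b m) = B :=
  le_antisymm (fun _ hs => h.cent qp (h.gq.a_mem _) (h.gq.ba_mem m) (h.nc m) hs.1
      (hs.2 _ (h.gq8 m).a_mem').symm (hs.2 _ (h.gq8 m).b_mem).symm)
    fun s hs => ⟨qp.le₂ hs, fun r hr => qp.comm r (h.q8_le m hr) s hs⟩

variable [Finite S] (h' : Sd S j B k a' b') (H4 : ∀ g ∈ S, ∀ g' ∈ S, g * g = g' * g' → g * g ≠ 1 →
  g * g * (g * g) = 1 → g * g ≠ j → g * g' = g' * g)
include h' H4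

theorem fc (m : ℤ) : F.IsFullyCentralized (q8 k a b m) := by
  refine ⟨(h.q8_le m).trans qp.le₁, fun Q hQ => ?_⟩
  obtain ⟨f, hf, rfl⟩ := isConj_iff.1 hQ
  have h1 := (h.gq8 m).a_mem'
  have h2 := (h.gq8 m).b_mem
  have e1 : a ^ (k : ℤ) * a ^ (k : ℤ) = j := by rw [zpow_natCast, ← pow_add, ← two_mul, h.z]
  have e2 : b * a ^ m * (b * a ^ m) = j := (h.gq.ba_sq m).trans h.z
  have nc := h.nc m
  generalize a ^ (k : ℤ) = r at h1 e1 nc
  generalize b * a ^ m = r' at h2 e2 nc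
  have hj : j ∈ q8 k a b m := e1 ▸ mul_mem h1 h1
  have f1 : f r * f r = f j := by rw [← hf.map_mul h1 h1, e1]
  have f2 : f r' * f r' = f j := by rw [← hf.map_mul h2 h2, e2]
  have nc' : f r * f r' ≠ f r' * f r := fun e => nc (hf.inj (mul_mem h1 h2) (mul_mem h2 h1)
    (by rw [hf.map_mul h1 h2, hf.map_mul h2 h1, e]))
  have f3 : f j = j := by_contra fun e => nc' (H4 _ (hf.mem h1) _ (hf.mem h2) (f1.trans f2.symm)
    (f1 ▸ mt (hf.eq_one_iff hj).1 qp.ne) (by rw [f1, ← hf.map_mul hj hj, qp.jj, hf.map_one])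
    (f1 ▸ e))
  rw [h.cS_eq qp]
  have c1 := mem_img_of_mem f h1
  have c2 := mem_img_of_mem f h2
  rcases qp.om _ (hf.mem h1) (f1.trans f3) with a1 | a1 <;>
    rcases qp.om _ (hf.mem h2) (f2.trans f3) with a2 | a2
  · exact card_le_of_le' qp.le₂ fun s hs =>
      h.cent qp a1 a2 nc' hs.1 (hs.2 _ c1).symm (hs.2 _ c2).symm
  · exact absurd (qp.comm _ a1 _ a2) nc'
  · exact absurd (qp.comm _ a2 _ a1).symm nc'
  · exact qp.card ▸ card_le_of_le' qp.le₁ fun s hs =>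
      h'.cent qp.swap a1 a2 nc' hs.1 (hs.2 _ c1).symm (hs.2 _ c2).symm

theorem ext (hS : IsPGroup 2 S) (hF : F.IsSaturated 2) {m : ℤ} {ψ f : Ω → Ω}
    (hψ : Mor F (q8 k a b m) ψ) (h1 : ∀ r ∈ q8 k a b m, ψ r ∈ q8 k a b m)
    (h2 : Fpf (q8 k a b m) ψ) (hf : MulOn (q8 k a b m) f) (hi : Set.InjOn f (q8 k a b m))
    (h3 : ∀ r ∈ q8 k a b m, f r ∈ q8 k a b m) (h4 : Fpf (q8 k a b m) f) :
    ∃ g, Mor F (q8 k a b m ⊔ B) g ∧ (∀ x ∈ q8 k a b m, g x = f x) ∧ ∀ x ∈ B, g x = x := by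
  have hc := h.fc qp h' H4 (F := F) m
  have hC := h.cS_eq qp m
  have hA := h.q8_le m
  obtain ⟨e⟩ := (h.gq8 m).nonempty_equiv
  generalize q8 k a b m = D at *
  obtain ⟨β, -, eβ⟩ := hψ.exists_aut' h1
  obtain ⟨α, eα⟩ := hf.exists_aut hi
    (eq_of_le_of_card_ge' hψ.le (img_le_iff.2 h3) (hf.card_img hi).ge)
  have tr : ∀ {α : MulAut D} {f : Ω → Ω}, (∀ x ∈ D, af α x = f x) → Fpf D f →
      ∀ r, r * r ≠ 1 → α r ≠ r ∧ α r ≠ r⁻¹ := fun {α f} e h r hr => by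
    have := h r r.2 fun e' => hr (Subtype.ext e')
    rw [← e r r.2, af_coe] at this
    exact ⟨fun e' => this.1 (congrArg _ e'), fun e' => this.2 (congrArg _ e')⟩
  obtain ⟨b3, c, hc'⟩ := q8_aut e (tr eβ h2) (tr eα h4)
  have mp : ∀ {g}, Mor F (D ⊔ B) g → (∀ x ∈ D, g x = ψ x) → ∀ x ∈ B, g x ∈ B := fun hg e x hx => by
    have := hg.mem_centralizerIn le_sup_left (mem_sup_right hx) (hC.ge hx)
    rwa [img_congr e, hψ.img_eq_of_maps h1, hC] at this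
  obtain ⟨g, hg, eg⟩ := exists_ext_sup_centralizer hS hF hψ (by rwa [hψ.img_eq_of_maps h1])
  rw [hC] at hg
  obtain ⟨γ, hγ, eγ⟩ := hg.exists_aut ((hg.img_eq_of_le (by
    rw [hg.img_sup le_sup_left le_sup_right, img_congr eg]
    exact sup_le_sup (img_le_iff.2 h1) (img_le_iff.2 (mp hg eg)))))
  obtain ⟨δ, hδ, oδ, -, eδ⟩ := exists_pPrimeElt_ext (p := 2) hg.le hγ (β := β)
    (fun x hx => by rw [eγ x (mem_sup_left hx), eg x hx, eβ x hx])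
    (Nat.Coprime.coprime_dvd_left (orderOf_dvd_of_pow_eq_one b3) (by decide))
  have mδ := mor_af hg.le hδ
  have fB : ∀ x ∈ B, af δ x = x := h'.gq.fix_of_oddAut_big (by have := h.k2; omega)
    (hS.to_le qp.le₂) ⟨mp mδ fun x hx => (eδ x hx).trans (eβ x hx), mδ.mulOn.mono le_sup_right,
      orderOf δ, Nat.coprime_two_right.1 oδ, fun x _ => by
        rw [Equiv.Perm.iterate_eq_pow, ← map_pow, pow_orderOf_eq_one, af_one_apply]⟩
  have cS := hψ.le c.2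
  have cB : ∀ x ∈ B, c * x * (c : Ω)⁻¹ = x := fun x hx => by
    rw [qp.comm _ (hA c.2) x hx, mul_inv_cancel_right]
  rcases hc' with e | e
  · refine ⟨_, mδ.comp (mor_conj F le_rfl cS) fun x hx => mδ.mem hx, fun x hx => ?_,
      fun x hx => by rw [fB x hx, cB x hx]⟩
    rw [eδ x hx, ← eα x hx, af_of_mem _ hx, af_of_mem _ hx, e]
    rfl
  · refine ⟨_, (mδ.comp mδ fun x hx => af_mem δ hx).comp (mor_conj F le_rfl cS)
      fun x hx => mδ.mem (af_mem δ hx), fun x hx => ?_,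
      fun x hx => by rw [fB x hx, fB x hx, cB x hx]⟩
    rw [eδ x hx, eδ _ (af_mem β hx), ← eα x hx, af_of_mem β hx, af_coe, af_of_mem _ hx, e]
    rfl

end Sd

theorem exists_side [Finite S] (hS : IsPGroup 2 S) (hC : C.IsSaturated 2)
    (hN : N.relIndex S = 2) (hB : B ≤ N) {P : Subgroup Ω} {f : Ω → Ω} (hf : Mor C P f) {u : Ω}
    (hu : u ∈ P) (h1 : u ∉ N) (h2 : f u ∈ N)
    (hs : ∀ P, (P = S ∨ C.IsEssential 2 P) → ∀ α ∈ C.autGroup P, (orderOf α).Coprime 2 →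
      (∀ g ∈ P, af α g = g) ∨ ∃ D₁ D₂, P = D₁ ⊔ D₂ ∧ Side A k a b D₁ (af α) ∧
        Side B k a' b' D₂ (af α)) :
    ∃ m ψ, Mor C (q8 k a b m) ψ ∧ (∀ r ∈ q8 k a b m, ψ r ∈ q8 k a b m) ∧
      Fpf (q8 k a b m) ψ := by
  by_contra hn
  have idx : ∀ {x y}, x ∈ S → y ∈ S → (x * y ∈ N ↔ (x ∈ N ↔ y ∈ N)) := fun hx hy =>
    mul_mem_iff_of_index_two (H := N.subgroupOf S) hN (a := ⟨_, hx⟩) (b := ⟨_, hy⟩)
  refine H9.mem_of_closed hS hC (X := {x | x ∉ N}) (fun P hP α hα x hx hX => ?_) hf hu h1 h2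
  have PS := (top_or_essential_fn hP).1
  let K : Subgroup (MulAut P) :=
    { carrier := {α | ∀ x ∈ P, af α x ∈ N ↔ x ∈ N}
      one_mem' := fun x _ => by rw [af_one_apply]
      mul_mem' := fun {α β} h h' x hx => by rw [af_mul_apply, h _ (af_mem β hx), h' x hx]
      inv_mem' := fun {α} h x hx => by rw [← h _ (af_mem _ hx), af_af_inv] }
  refine mt (autGroup_le_of hS hC (top_or_essential_fn hP) (K := K) (fun α hα x hx => ?_)
    (fun α hα ho => ?_) hα x hx).1 hX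
  · obtain ⟨s, hs, e⟩ := mem_autInducedBy.1 hα
    rw [e x hx, idx (mul_mem hs (PS hx)) (inv_mem hs), idx hs (PS hx), inv_mem_iff]
    tauto
  rcases hs P hP α hα ho with e | ⟨D₁, D₂, e, ⟨-, e1, e2 | ⟨m, rfl, e2⟩⟩, e3, e4, -⟩
  · exact fun x hx => by rw [e x hx]
  · let U : Subgroup Ω :=
      { carrier := {x | x ∈ P ∧ (af α x ∈ N ↔ x ∈ N)}
        one_mem' := ⟨one_mem _, by rw [(mulOn_af α).map_one]⟩
        mul_mem' := fun {x y} h h' => ⟨mul_mem h.1 h'.1, by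
          rw [(mulOn_af α).map_mul h.1 h'.1, idx (PS (af_mem α h.1)) (PS (af_mem α h'.1)),
            idx (PS h.1) (PS h'.1), h.2, h'.2]⟩
        inv_mem' := fun {x} h => ⟨inv_mem h.1, by
          rw [(mulOn_af α).map_inv h.1, inv_mem_iff, inv_mem_iff, h.2]⟩ }
    have : D₁ ⊔ D₂ ≤ U := sup_le (fun x hx => ⟨e.ge (mem_sup_left hx), by rw [e2 x hx]⟩)
      fun x hx => ⟨e.ge (mem_sup_right hx), iff_of_true (hB (e3 (e4 x hx))) (hB (e3 hx))⟩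
    exact fun x hx => (this (e.le hx)).2
  · exact absurd ⟨m, _, (mor_af PS hα).mono (le_sup_left.trans e.ge), e1, e2⟩ hn

end H71.WZ
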