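/- WZ tower, slot Q: all automorphisms of order three of the subgroups `Q₈` are present. -/
import Cfsg.Agent.H71.WZQa

set_option autoImplicit false

namespace H71.WZ
open Cfsg Cfsg.FusionSystem H92 H86 H35.G2S Subgroup H8.WZ

universe u

variable {Ω : Type*} [Group Ω] {S W A B N T : Subgroup Ω} {j a b a' b' x y u w : Ω} {k : ℕ}
  {F C : FusionSystem S}

section
variable (h : GS S W k x y u w)
include h

theorem gs_two : IsPGroup 2 S := by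
  obtain ⟨e, rfl⟩ := h.wr.pow2
  exact IsPGroup.of_card (n := 6 + e * 2) (by rw [h.card]; ring)

theorem sd (k2 : 2 ≤ k) :
    Sd S (jj k x y) (qq k x y u) k (wu x y 1 (-1)) (u * wu x y (2 * k) 0) := by
  have e : wu x y (-1) 1 = (wu x y 1 (-1))⁻¹ := by rw [h.wr.u_inv, neg_neg]
  refine ⟨k2, h.wr.GQ_Y, h.v_pow, fun s hs => ?_, fun n => ⟨_, h.t_mem 0 n, h.wr.u_conj_u _ _ _ _,
    by rw [h.wr.u_conj_zu, h.wr.u_zpow, h.wr.zu_mul_u]; congr 2 <;> ring⟩⟩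
  have e1 : ∀ g i j, g * wu x y i j * wu x y 1 (-1) * (g * wu x y i j)⁻¹ =
      g * wu x y 1 (-1) * g⁻¹ := fun g i j => by
    nth_rw 2 [← h.wr.u_conj_u i j 1 (-1)]
    group
  obtain ⟨i, j, rfl | rfl | rfl | rfl⟩ := h.cases hs
  · exact .inl (h.wr.u_conj_u _ _ _ _)
  · exact .inr (by rw [e1, h.wr.z_conj, e])
  · exact .inr (by rw [e1, h.z_conj, neg_neg, e])
  · refine .inl ?_
    calc _ = u * (w * wu x y 1 (-1) * w⁻¹) * u⁻¹ := by rw [e1]; group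
      _ = _ := by rw [h.z_conj, h.wr.z_conj, neg_neg]

theorem mem_U {g : Ω} (hg : g ∈ S) (h1 : g * g ≠ 1) (h2 : g * g * (g * g) = 1)
    (h3 : g * g ≠ jj k x y) : g ∈ wrU x y := by
  obtain ⟨W', h'⟩ := h.swap
  obtain ⟨i, j, rfl | rfl | rfl | rfl⟩ := h.cases hg
  · exact h.wr.u_mem_U _ _
  · rw [h.wr.zu_sq] at h1 h2 h3
    exact absurd (h.wr.eq_u0_of_mem_Z ((h.wr.u_mem_Z _ _).2 (by simp)) h1 h2) h3
  · exact absurd (h.zt_sq i j) h1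
  · rw [h.uzt_sq] at h1 h2 h3
    refine absurd (h.jj_swap ▸ h'.wr.eq_u0_of_mem_Z ?_ h1 h2) h3
    have := (h'.wr.u_mem_Z (i - j) (i - j)).2 (by simp)
    rwa [wu_inv_y x y (i - j), neg_sub] at this

theorem h4 : ∀ g ∈ S, ∀ g' ∈ S, g * g = g' * g' → g * g ≠ 1 → g * g * (g * g) = 1 →
    g * g ≠ jj k x y → g * g' = g' * g := fun _ hg _ hg' e h1 h2 h3 =>
  h.wr.U_comm (mem_U h hg h1 h2 h3) (mem_U h hg' (e ▸ h1) (e ▸ h2) (e ▸ h3))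

theorem hrho (hρ : ∃ ρ, Mor F (wrU x y ⊔ zpowers w) ρ ∧ ρ x = y⁻¹ ∧ ρ y = x * y⁻¹ ∧ ρ w = w) :
    ∀ g ∈ S, g * g ≠ 1 → g * g * (g * g) = 1 → g * g ≠ jj k x y → g * g ∈ wrU x y ∧
      ∃ σ, Mor F (wrU x y) σ ∧ σ (g * g) = jj k x y ∧ σ (jj k x y) ∈ wrU x y := by
  intro g hg h1 h2 h3
  obtain ⟨ρ, hρ, e1, e2, -⟩ := hρ
  replace hρ := hρ.mono le_sup_left
  have hx : x ∈ wrU x y := subset_closure (by simp)
  have hy : y ∈ wrU x y := subset_closure (by simp)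
  have e : ∀ i j, ρ (wu x y i j) = wu x y j (-i - j) := fun i j => by
    rw [wu, hρ.map_mul (zpow_mem hx i) (zpow_mem hy j), hρ.map_zpow hx, hρ.map_zpow hy, e1, e2,
      show x * y⁻¹ = wu x y 1 (-1) by simp [wu], show y⁻¹ = wu x y 0 (-1) by simp [wu],
      h.wr.u_zpow, h.wr.u_zpow, h.wr.u_mul_u]
    congr 1 <;> ring
  have hm : ∀ g ∈ wrU x y, ρ g ∈ wrU x y := fun g hg => by
    obtain ⟨i, j, rfl⟩ := (h.wr.mem_U g).1 hg
    exact e i j ▸ h.wr.u_mem_U _ _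
  have := mem_U h hg h1 h2 h3
  refine ⟨mul_mem this this, ?_⟩
  rcases (h.sq_cases hg h1 h2).resolve_left h3 with e3 | e3 <;> rw [e3]
  · exact ⟨_, hρ.comp hρ hm, by rw [e, e]; exact h.wr.u_congr (-1) 0 (by ring) (by ring),
      hm _ (hm _ (h.wr.u_mem_U _ _))⟩
  · exact ⟨_, hρ, by rw [e]; exact h.wr.u_congr 0 (-1) (by ring) (by ring),
      hm _ (h.wr.u_mem_U _ _)⟩

theorem q1 [Finite S] (hF : F.IsSaturated 2) (hu : F.IsConjElt u (jj k x y)) (hj : jj k x y ∈ T)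
    (hρ : ∀ g ∈ S, g * g ≠ 1 → g * g * (g * g) = 1 → g * g ≠ jj k x y → g * g ∈ T ∧
      ∃ σ, Mor F T σ ∧ σ (g * g) = jj k x y ∧ σ (jj k x y) ∈ T) :
    ∃ P f, Mor F P f ∧ jj k x y ∈ P ∧ f (jj k x y) = jj k x y ∧ u ∈ P ∧ f u ∈ T := by
  obtain ⟨α, hα, e⟩ := exists_to_central (gs_two h) hF hu fun s hs => h.cen hs
  have hv : wu x y k k ∈ cS S u := mem_cS.2 ⟨h.t_mem _ _, h.wr.cc_comm _ h.wr.z_mem⟩
  have e1 : wu x y k k * wu x y k k = jj k x y := by rw [h.wr.u_mul_u, ← two_mul, jj]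
  have h1 : jj k x y ∈ cS S u := e1 ▸ mul_mem hv hv
  have h2 := self_mem_cS h.u_mem
  have e2 : α (wu x y k k) * α (wu x y k k) = α (jj k x y) := by rw [← hα.map_mul hv hv, e1]
  obtain ⟨h3, σ, hσ, e3, e4⟩ := hρ _ (hα.mem hv) (e2 ▸ mt (hα.eq_one_iff h1).1 h.qp.ne)
    (by rw [e2, ← hα.map_mul h1 h1, h.qp.jj, hα.map_one]) (e2 ▸ fun e' =>
      h.wr.zu_ne_u 0 0 _ _ (h.wr.z_eq.trans (hα.inj h2 h1 (e.trans e'.symm))))
  rw [e2] at h3 e3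
  have h4 : ({u, jj k x y} : Set Ω) ⊆ cS S u := Set.pair_subset h2 h1
  refine ⟨closure {u, jj k x y}, _, (hα.mono ((closure_le _).2 h4)).comp hσ (img_le_iff.1 ?_),
    subset_closure (by simp), e3, subset_closure (by simp), by rwa [e]⟩
  rw [hα.mulOn.img_closure h4, closure_le, Set.image_pair, e]
  exact Set.pair_subset hj h3

end

theorem side_ext [Finite S] (hS : IsPGroup 2 S) (hF : F.IsSaturated 2) (qp : QP S j A B)
    (h : Sd S j A k a b) (h' : Sd S j B k a' b')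
    (H4 : ∀ g ∈ S, ∀ g' ∈ S, g * g = g' * g' → g * g ≠ 1 → g * g * (g * g) = 1 → g * g ≠ j →
      g * g' = g' * g)
    (ex : ∃ m ψ, Mor F (q8 k a b m) ψ ∧ (∀ r ∈ q8 k a b m, ψ r ∈ q8 k a b m) ∧
      Fpf (q8 k a b m) ψ) {D : Subgroup Ω} {f : Ω → Ω} (hf : MulOn D f) (hi : Set.InjOn f D)
    (hD : Side A k a b D f) :
    ∃ g, Mor F (D ⊔ B) g ∧ (∀ x ∈ D, g x = f x) ∧ ∀ x ∈ B, g x = x := by
  obtain ⟨h1, h2, h3 | ⟨m, rfl, h3⟩⟩ := hD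
  · exact ⟨_, mor_id F (sup_le (h1.trans qp.le₁) qp.le₂), fun x hx => (h3 x hx).symm,
      fun _ _ => rfl⟩
  · obtain ⟨m', ψ, a1, a2, a3⟩ := ex
    obtain ⟨ψ', b1, b2, b3⟩ := h.move a1 a2 a3 qp.le₁ m
    exact h.ext qp h' H4 hS hF b1 b2 b3 hf hi h2 h3

theorem jobQ (hs : JobSplit.{u}) : JobQ.{u} := by
  intro Ω _ S _ F W k x y u w h P f hP hf hi sp
  rcases sp with e | ⟨D₁, D₂, rfl, s1, s2⟩
  · exact mor_of_fix F hP e
  have g := h.gs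
  obtain ⟨W', g'⟩ := g.swap
  have hS := gs_two g
  obtain ⟨C, hC, c1, c2, c3⟩ := exists_cent hS h.sat (z := jj k x y) (g.t_mem _ _)
    fun s hs => g.cen hs
  have sp := hs C W k x y u w hC g h.k2 (stronglyClosed_iff.2 ⟨g.qp.le₁, fun R f hf r hr hr' => by
    obtain ⟨f', hf', e, e'⟩ := c3 R f hf
    exact e r hr ▸ h.h1 _ _ hf' (mem_sup_right (mem_zpowers _)) e' r hr' (mem_sup_left hr)⟩)
  have d1 := sd g h.k2
  have d2 := sd g' h.k2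
  rw [g.jj_swap] at d2
  have hρ := hrho g h.rho
  have hj : jj k x y ∈ wrU x y := g.wr.u_mem_U _ _
  obtain ⟨P1, f1, a1, a2, a3, a4, a5⟩ := q1 g h.sat (h.inv u g.u_mem g.wr.orderOf_z) hj hρ
  obtain ⟨P2, f2, b1, b2, b3, b4, b5⟩ := q1 g' h.sat (T := wrU x y)
    (g.jj_swap ▸ h.inv _ g'.u_mem g'.wr.orderOf_z) (g.jj_swap ▸ hj) (g.jj_swap ▸ hρ)
  rw [g.jj_swap] at b2 b3
  obtain ⟨m1, ψ1, x1, x2⟩ := exists_side hS hC g'.relIndex (g'.wr.K_le _ _) (c2 _ _ a1 a2 a3) a4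
    (fun e => g'.nz ((mul_mem_cancel_left e).1 g'.wr.z_mem)) (by
      obtain ⟨i, l, e⟩ := (g.wr.mem_U _).1 a5
      rw [e, ← neg_neg l, ← wu_inv_y]
      exact g'.wr.u_mem _ _) sp
  obtain ⟨m2, ψ2, y1, y2⟩ := exists_side hS hC g.relIndex (g.wr.K_le _ _) (c2 _ _ b1 b2 b3) b4
    (fun e => g.nz ((mul_mem_cancel_left g.wr.z_mem).1 e)) (g.wr.U_le b5)
    fun P hP α hα ho => (sp P hP α hα ho).imp_right fun ⟨D, D', e, e1, e2⟩ =>
      ⟨D', D, e.trans (sup_comm _ _), e2, e1⟩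
  obtain ⟨g1, p1, p2, p3⟩ := side_ext hS h.sat g.qp d1 d2 (h4 g) ⟨m1, ψ1, c1 _ _ x1, x2⟩
    (hf.mono le_sup_left) (hi.mono (SetLike.coe_mono le_sup_left)) s1
  obtain ⟨g2, q1, q2, q3⟩ := side_ext hS h.sat g.qp.swap d2 d1 (h4 g) ⟨m2, ψ2, c1 _ _ y1, y2⟩
    (hf.mono le_sup_right) (hi.mono (SetLike.coe_mono le_sup_right)) s2
  replace p1 := p1.mono (sup_le_sup_left s2.1 D₁)
  have := p1.comp q1 (img_le_iff.1 (by
    rw [p1.img_sup le_sup_left le_sup_right]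
    exact sup_le (img_le_iff.2 fun r hr => mem_sup_right (p2 r hr ▸ s1.1 (s1.2.1 r hr)))
      (img_le_iff.2 fun r hr => mem_sup_left ((p3 r (s2.1 hr)).symm ▸ hr))))
  exact this.congr (this.mulOn.eq_on_sup hf
    (fun r hr => by rw [p2 r hr, q3 _ (s1.1 (s1.2.1 r hr))])
    fun r hr => by rw [p3 r (s2.1 hr), q2 r hr])

end H71.WZ
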