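import Cfsg.Agent.H71.Glue
set_option maxRecDepth 1000000
set_option Elab.async false
namespace H71.Y5A
noncomputable def na_0 : ℕ := 0xc000000
noncomputable def na_1 : ℕ := 0x38000000000
noncomputable def na_2 : ℕ := 0x4004000c0000
noncomputable def na_3 : ℕ := 0x800808000
noncomputable def na_4 : ℕ := 0x100448000
noncomputable def na_5 : ℕ := 0x8112850001
noncomputable def na_6 : ℕ := 0x1012408000
noncomputable def na_7 : ℕ := 0x40870c18000
noncomputable def na_8 : ℕ := 0x400610118000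
noncomputable def na_9 : ℕ := 0x38000000000
noncomputable def na_10 : ℕ := 0xc000000
noncomputable def na : Net := .cons 28 na_0 <| .cons 14 na_1 <| .cons 7 na_2 <| .cons 4 na_3 <| .cons 2 na_4 <| .cons 1 na_5 <| .cons 2 na_6 <| .cons 4 na_7 <| .cons 7 na_8 <| .cons 14 na_9 <| .cons 28 na_10 <| .nil
theorem vna : Net.valid 56 na = true := by decide +kernel
noncomputable def nb_0 : ℕ := 0x3400
noncomputable def nb_1 : ℕ := 0x1a0000
noncomputable def nb_2 : ℕ := 0x2800a00200
noncomputable def nb_3 : ℕ := 0x20000002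
noncomputable def nb_4 : ℕ := 0x20002010800204
noncomputable def nb_5 : ℕ := 0x48122000002
noncomputable def nb_6 : ℕ := 0x2800a18200
noncomputable def nb_7 : ℕ := 0x1a0000
noncomputable def nb_8 : ℕ := 0x3400
noncomputable def nb : Net := .cons 14 nb_0 <| .cons 7 nb_1 <| .cons 4 nb_2 <| .cons 2 nb_3 <| .cons 1 nb_4 <| .cons 2 nb_5 <| .cons 4 nb_6 <| .cons 7 nb_7 <| .cons 14 nb_8 <| .nil
theorem vnb : Net.valid 56 nb = true := by decide +kernel
noncomputable def nc_0 : ℕ := 0xb000000
noncomputable def nc_1 : ℕ := 0x28000000000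
noncomputable def nc_2 : ℕ := 0x1000520000000
noncomputable def nc_3 : ℕ := 0x101000a00100
noncomputable def nc_4 : ℕ := 0x81002408000
noncomputable def nc_5 : ℕ := 0x10a002204004
noncomputable def nc_6 : ℕ := 0x481002408900
noncomputable def nc_7 : ℕ := 0x101050a00100
noncomputable def nc_8 : ℕ := 0x1000520000000
noncomputable def nc_9 : ℕ := 0x28000000000
noncomputable def nc_10 : ℕ := 0xb000000
noncomputable def nc : Net := .cons 28 nc_0 <| .cons 14 nc_1 <| .cons 7 nc_2 <| .cons 4 nc_3 <| .cons 2 nc_4 <| .cons 1 nc_5 <| .cons 2 nc_6 <| .cons 4 nc_7 <| .cons 7 nc_8 <| .cons 14 nc_9 <| .cons 28 nc_10 <| .nil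
theorem vnc : Net.valid 56 nc = true := by decide +kernel
noncomputable def nd_0 : ℕ := 0x500120000
noncomputable def nd_1 : ℕ := 0x40400201
noncomputable def nd_2 : ℕ := 0x100400002
noncomputable def nd_3 : ℕ := 0x8400102200001
noncomputable def nd_4 : ℕ := 0x80100400902
noncomputable def nd_5 : ℕ := 0x2840c00201
noncomputable def nd_6 : ℕ := 0x500120000
noncomputable def nd : Net := .cons 7 nd_0 <| .cons 4 nd_1 <| .cons 2 nd_2 <| .cons 1 nd_3 <| .cons 2 nd_4 <| .cons 4 nd_5 <| .cons 7 nd_6 <| .nil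
theorem vnd : Net.valid 56 nd = true := by decide +kernel
noncomputable def ne_0 : ℕ := 0x10000002800
noncomputable def ne_1 : ℕ := 0x8002000e0040
noncomputable def ne_2 : ℕ := 0xc000000800200
noncomputable def ne_3 : ℕ := 0x20001000000100
noncomputable def ne_4 : ℕ := 0x22000800800210
noncomputable def ne_5 : ℕ := 0x20001000000100
noncomputable def ne_6 : ℕ := 0xc083000c14200
noncomputable def ne_7 : ℕ := 0x8002000e0040
noncomputable def ne_8 : ℕ := 0x10000002800
noncomputable def ne : Net := .cons 14 ne_0 <| .cons 7 ne_1 <| .cons 4 ne_2 <| .cons 2 ne_3 <| .cons 1 ne_4 <| .cons 2 ne_5 <| .cons 4 ne_6 <| .cons 7 ne_7 <| .cons 14 ne_8 <| .nil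
theorem vne : Net.valid 56 ne = true := by decide +kernel
noncomputable def nf_0 : ℕ := 0x24000000000
noncomputable def nf_1 : ℕ := 0x1a00000000060
noncomputable def nf_2 : ℕ := 0x4081000000080
noncomputable def nf_3 : ℕ := 0x20080000008010
noncomputable def nf_4 : ℕ := 0x20448000050a90
noncomputable def nf_5 : ℕ := 0x24080000008190
noncomputable def nf_6 : ℕ := 0x4181000000080
noncomputable def nf_7 : ℕ := 0x1a00000000060
noncomputable def nf_8 : ℕ := 0x24000000000
noncomputable def nf : Net := .cons 14 nf_0 <| .cons 7 nf_1 <| .cons 4 nf_2 <| .cons 2 nf_3 <| .cons 1 nf_4 <| .cons 2 nf_5 <| .cons 4 nf_6 <| .cons 7 nf_7 <| .cons 14 nf_8 <| .nil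
theorem vnf : Net.valid 56 nf = true := by decide +kernel
noncomputable def nh_0 : ℕ := 0x6000000
noncomputable def nh_1 : ℕ := 0x18000000000
noncomputable def nh_2 : ℕ := 0x800220000020
noncomputable def nh_3 : ℕ := 0x101040000000
noncomputable def nh_4 : ℕ := 0x100400000
noncomputable def nh_5 : ℕ := 0x108140200000
noncomputable def nh_6 : ℕ := 0x2000100400090
noncomputable def nh_7 : ℕ := 0x4101050800100
noncomputable def nh_8 : ℕ := 0x800220000020
noncomputable def nh_9 : ℕ := 0x18000000000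
noncomputable def nh_10 : ℕ := 0x6000000
noncomputable def nh : Net := .cons 28 nh_0 <| .cons 14 nh_1 <| .cons 7 nh_2 <| .cons 4 nh_3 <| .cons 2 nh_4 <| .cons 1 nh_5 <| .cons 2 nh_6 <| .cons 4 nh_7 <| .cons 7 nh_8 <| .cons 14 nh_9 <| .cons 28 nh_10 <| .nil
theorem vnh : Net.valid 56 nh = true := by decide +kernel
noncomputable def gensN : List Net := [Net.nil]
noncomputable def invsN : List Net := [na, nb, nc, nd, ne, nf, Net.nil, nh, Net.nil, Net.nil, Net.nil, Net.nil]
noncomputable def A : ℕ → ℕ → ℕ := mkA gensN invsN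
noncomputable def π : ℕ → Equiv.Perm ℕ := mkPi gensN invsN
theorem vG : ∀ r ∈ ([Net.nil] : List Net), Net.valid 56 r = true := by
  intro r hr
  simp only [List.mem_cons, List.not_mem_nil, or_false] at hr
  rcases hr with rfl
  · rfl
theorem vI : ∀ r ∈ ([na, nb, nc, nd, ne, nf, Net.nil, nh, Net.nil, Net.nil, Net.nil, Net.nil] : List Net), Net.valid 56 r = true := by
  intro r hr
  simp only [List.mem_cons, List.not_mem_nil, or_false] at hr
  rcases hr with rfl | rfl | rfl | rfl | rfl | rfl | rfl | rfl | rfl | rfl | rfl | rfl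
  · exact vna
  · exact vnb
  · exact vnc
  · exact vnd
  · exact vne
  · exact vnf
  · rfl
  · exact vnh
  · rfl
  · rfl
  · rfl
  · rfl
theorem env : Env 56 π A := env_mk vG vI
theorem hN : 56 ≤ 2 ^ 6 := by norm_num
theorem pinv : ∀ l, π (linv 2 l) = (π l)⁻¹ := mkPi_inv' hN rfl vI (by decide +kernel)
def R : List (List ℕ) := [[2,3,2,3,2,3],
  [2,4,2,4],
  [2,5,2,5],
  [2,6,2,6],
  [2,7,2,7],
  [2,9,2,9],
  [3,4,3,4,3,4],
  [3,5,3,5],
  [3,6,3,6],
  [3,7,3,7],
  [3,9,3,9],
  [4,5,4,5,4,5],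
  [4,6,4,6],
  [4,7,4,7],
  [4,9,4,9],
  [5,6,5,6,5,6],
  [5,7,5,7],
  [5,9,5,9,5,9],
  [6,7,6,7,6,7],
  [6,9,6,9],
  [7,9,7,9]]
def RH : List (List ℕ) := []
def HL : List ℕ := [3,4,5,6,7,9]
def S : List ℕ := [2,3,4,5,6,7,9]
theorem relP : ∀ r ∈ R, evw π r = 1 := env.eq_one_of_allId hN (by decide +kernel)
def seeds : List (List ℕ) := []
theorem seeds_mem {G : Type*} [Group G] {val : ℕ → G} {H : Subgroup G} (hv : ∀ l, val (linv 2 l) = (val l)⁻¹) (he : val 14 = 1)
    (hR : ∀ r ∈ R ++ RH, evw val r = 1) (hH : ∀ l ∈ HL, val l ∈ H) : ∀ w ∈ seeds, evw val w ∈ H := by simp [seeds]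
def spec : List ℕ := [8194,16386,24578,32770,40962,57346,65538,73730,81922,98306,106498,114690,131074,155648,163840,0,49152,90112,122880,139264,139266,147456,8192,16384,24576,32768,40960,57344,65536,73728,81920,98304,106496,114688,131072,163842,90114,122882,147458,155650,49154,2]
noncomputable def rules : List (List ℕ) := spec.map (mkRule 2 R)
noncomputable def hs : List (List ℕ) := HL.map (fun z => [z]) ++ seeds
noncomputable def D0 : ℕ := Nat.shiftLeft 1 0
noncomputable def K0 : List ℕ := List.replicate 14 0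
def steps0_0 : List ℕ := [3,16387,32771,49155,65539,81923,8,12,16,20,24,28,36,20,24,16,20,36,12,16,20,24,28,8,12,16,20,24,36,20,16,12,8,1,5,9,13,17,21,25,29,33,37,41,45,49,53,57,61,65,69,73,77,81,85,89,93,5,97,101,105,17,109,113,25,117,121,33,125,129,133,45,137,49,141,145,73,149,153,93,97,9,109,21,113,25,33,37,41,45,49,53,157,57,161,69,145,73,77,81,89,1,93,5,9,105,17,21,25,29,33,41,133,45,137,49,157,141,165,65,161,69,145,149,77,85,153,1,5,9,13,17,109,113,25,117,29,125,37,129,41,133,53,57,61,65,145,73,149,81,89,93,97,105,109,21,113,121,37,45,49,93,5,109,25,33,41,161,89,1,9,17,29,165,13]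
theorem run0 : tcRun A 2 0 rules hs (steps0_0) (finSt A S (ival 0 56)) D0 K0 = true := by decide +kernel
theorem done {G : Type*} [Group G] {val : ℕ → G} {H : Subgroup G} (hv : ∀ l, val (linv 2 l) = (val l)⁻¹) (he : val 14 = 1)
    (hR : ∀ r ∈ R ++ RH, evw val r = 1) (hH : ∀ l ∈ HL, val l ∈ H) : TCDone val H π 0 S (ival 0 56) := by
  have T : TCHyp val H 56 π A 2 rules hs := tcHyp_mk env hv pinv (fun r hr => hR r (List.mem_append_left _ hr)) relP hH (seeds_mem hv he hR hH) spec
  have h0 : Inv val H π 0 D0 K0 := inv_init val H π 0 14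
  exact tcRun_fin T h0 run0
end H71.Y5A
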